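import Mathlib
import Cfsg.Prelude.Def_CaseTheorems
import Cfsg.Prelude.Def_Spor_Conway
import Cfsg.Prelude.Def_Spor_He
import Cfsg.Prelude.Def_Sporadic_a
import Cfsg.Prelude.Def_Classical
import Cfsg.Agent.Lib.Tech.SylowIn
import Cfsg.Agent.Lib.MOrb.Spin

/-! Involution centralisers with a 2-component with dihedral Sylow 2-subgroups of order 8
(plans/DIH8.md): towers of index-2 extensions of `2 × 2 × D₈` coded on `ℕ`, and the frame. -/

set_option autoImplicit false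

namespace CfsgLib.Dih8

open Subgroup CfsgLib.Tech CfsgLib.MOrb Cfsg

/-- entry `i` of a table of 12-bit numbers -/
def lk (T i : ℕ) : ℕ := Nat.land (Nat.shiftRight T (Nat.mul i 12)) 4095

/-- `2 × 2 × D₈` on `0..31`: bits `t = 1, z = 2, s = 4, e = 8, b = 16`, `z = (e b)²`, `w = s z = 6` -/
def m5 (x y : ℕ) : ℕ :=
  Nat.xor (Nat.xor x y) (Nat.land (Nat.land (Nat.shiftRight x 3) (Nat.shiftRight y 2)) 2)

/-- extension by `f`: `n + x` codes `x * f`, `f x f⁻¹ = lk B x`, `f ^ 2 = c` -/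
noncomputable def mulE (n B c : ℕ) (m : ℕ → ℕ → ℕ) (x y : ℕ) : ℕ :=
  Bool.rec (motive := fun _ => ℕ)
    (Bool.rec (motive := fun _ => ℕ) (m x y) (Nat.add n (m x (Nat.sub y n))) (Nat.ble n y))
    (Bool.rec (motive := fun _ => ℕ) (Nat.add n (frc (lk B y) (m (Nat.sub x n))))
      (frc (frc (lk B (Nat.sub y n)) (m (Nat.sub x n))) fun u => m u c) (Nat.ble n y)) (Nat.ble n x)

/-- levels `(n, B, c)` of a tower, the newest first -/
abbrev Lv := List (ℕ × ℕ × ℕ)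

noncomputable def mul0 (l : Lv) : ℕ → ℕ → ℕ :=
  List.rec (motive := fun _ => ℕ → ℕ → ℕ) m5 (fun a _ r => mulE a.1 a.2.1 a.2.2 r) l

noncomputable def mul (l : Lv) (x y : ℕ) : ℕ := frc x fun x => frc y fun y => mul0 l x y

/-- the order of the tower; its generators are the `2 ^ i < sz l` -/
noncomputable def sz (l : Lv) : ℕ := List.rec (motive := fun _ => ℕ) 32 (fun a _ _ => Nat.mul 2 a.1) l

variable {G : Type*} [Group G]

/-- the table `B` on `0..n-1` is the product map of its values on the generators -/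
def Cons (l : Lv) (n B : ℕ) : Prop :=
  lk B 0 = 0 ∧ (∀ x < n, lk B x < sz l) ∧
    ∀ i x, x < 2 ^ i → 2 ^ i < n → lk B (x + 2 ^ i) = mul l (lk B x) (lk B (2 ^ i))

/-- well-formed towers -/
def Wf : Lv → Prop
  | [] => True
  | a :: l => Wf l ∧ a.1 = sz l ∧ a.1 ≤ 1024 ∧ a.2.2 < a.1 ∧ Cons l a.1 a.2.1

/-- `φ` embeds the tower into `G` -/
structure Rep (l : Lv) (φ : ℕ → G) : Prop where
  wf : Wf l
  map : ∀ x < sz l, ∀ y < sz l, φ (mul l x y) = φ x * φ y
  inj : ∀ x < sz l, ∀ y < sz l, φ x = φ y → x = y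

/-- the subgroup generated by the images of the listed codes -/
def gp (φ : ℕ → G) (L : List ℕ) : Subgroup G := closure (φ '' {x | x ∈ L})

/-- the image of the tower -/
def img (l : Lv) (φ : ℕ → G) : Subgroup G := closure (φ '' {x | x < sz l})

/-- the action of `ρ = 32`: `s ↦ s z`, `e ↔ b` -/
def rhoT : ℕ := 0x1f01e01d01c01901801b01a00d00c00f00e00b00a009008015014017016013012011010005004007006003002001000
/-- `σ` on `A = {0..15}`: fixes `t, w`, `z ↦ e ↦ e z` -/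
def sgT : ℕ := 0xd00c00500400300200b00a00700600f00e009008001000
/-- `τ` on `B = {x < 32, bit e = 0}`: fixes `t, s`, `z ↦ b ↦ b z` -/
def taT : ℕ := 0xffffffffffffffffffffffff007006017016003002013012ffffffffffffffffffffffff015014005004011010001000

/-- the Sylow 2-subgroup of `C(t)`: mode 0 `2 × 2 × D₈`, mode 1 `ρ² = 1`, mode 2 `ρ² = t` -/
def lvT : ℕ → Lv
  | 0 => []
  | 1 => [(32, rhoT, 0)]
  | _ => [(32, rhoT, 1)]

/-- labels of the `C(t)`-classes: `t`-bit `+ 2 s`-bit `+ 4 ρ`-bit `+ 8 min(3, log₂ order)`, and `+ 32` for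
the class of `w` (and `t w`) in mode 0 -/
def kT : ℕ → ℕ
  | 0 => 0x1301201301201101001101002b02a02b02a00900800900800b00a00b00a00900800900802b02a00b00a009008009000
  | 1 => 0x1701601701600d00c00d00c01f01e01f01e01d01c01d01c01f01e01f01e01d01c01d01c01701601701600d00c00d00c01301201301201101001101000b00a00b00a00900800900800b00a00b00a00900800900800b00a00b00a009008009000
  | _ => 0x1701601701601501401501401f01e01f01e01d01c01d01c01f01e01f01e01d01c01d01c01701601701601501401501401301201301201101001101000b00a00b00a00900800900800b00a00b00a00900800900800b00a00b00a009008009000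

/-- label of a code of `T`; the code `1` (the involution `t`) gets the label `1` -/
noncomputable def kcl (md a : ℕ) : ℕ := Bool.rec (motive := fun _ => ℕ) (lk (kT md) a) 1 (Nat.beq a 1)

/-- The frame: `G = K ⟨t⟩`, `K` simple of sectional 2-rank at least 5, `t = j 1`. -/
structure Fr (G : Type*) [Group G] (md : ℕ) where
  j : ℕ → G
  rep : Rep (lvT md) j
  K : Subgroup G
  nK : K.Normal
  sK : IsSimpleGroup K
  cK : centralizer (K : Set G) = ⊥
  gK : K ⊔ zpowers (j 1) = ⊤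
  rk : ¬ SectionalPRankLE 2 4 K
  syl : IsSylowIn 2 (img (lvT md) j) (centralizer {j 1})
  σ : G
  τ : G
  hσ : ∀ a < 16, σ * j a * σ⁻¹ = j (lk sgT a)
  hτ : ∀ a < 32, lk taT a < 32 → τ * j a * τ⁻¹ = j (lk taT a)
  nof : ∀ c, Commute c (j 1) → ∀ a < sz (lvT md), ∀ b < sz (lvT md),
    c * j a * c⁻¹ = j b → kcl md a = kcl md b

/-- generators of `A`, `B`, `T₁ = A B` (kinds 1, 2, 3) -/
def xg : ℕ → List ℕ
  | 1 => [1, 2, 4, 8]
  | 2 => [1, 2, 4, 16]
  | _ => [1, 2, 4, 8, 16]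

namespace Fr

variable {md : ℕ} (F : Fr G md)

/-- the conjugates of `t` -/
def D (d : G) : Prop := IsConj (F.j 1) d

/-- `A`, `B`, `T₁` -/
def X (h : ℕ) : Subgroup G := gp F.j (xg h)

/-- the pair `(d, y)` is conjugate to `(t, a)` with `a ∈ T` of label `k` -/
def Kp (d y : G) (k : ℕ) : Prop :=
  ∃ g : G, ∃ a < sz (lvT md), g * d * g⁻¹ = F.j 1 ∧ g * y * g⁻¹ = F.j a ∧ kcl md a = k

/-- `ob` is the bit mask of the orbit of `t` under the normaliser of `X h` -/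
def Orb (h ob : ℕ) : Prop :=
  ∀ a, (a < 32 ∧ ∃ n ∈ normalizer (F.X h : Set G), n * F.j 1 * n⁻¹ = F.j a) ↔ ob.testBit a

/-- `dp` is the bit mask of the labels of the conjugates of `t` in `T` -/
def Pat (dp : ℕ) : Prop := ∀ a < sz (lvT md), F.D (F.j a) ↔ dp.testBit (kcl md a)

/-- the outcome of the 2-local analysis -/
def Out : Prop :=
  (F.j 1 ∉ F.K ∧ md = 0 ∧
    ((∃ (E : Type) (_ : Field E) (_ : Fintype E), Fintype.card E = 4 ∧
        (Nonempty (F.K ≃* PSp 2 E) ∨ Nonempty (F.K ≃* PSU 5 E 2))) ∨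
      ((∀ v, v ∉ F.K → v * v = 1 → F.D v) ∧
        (Nonempty (F.K ≃* Matrix.SpecialLinearGroup (Fin 5) (ZMod 2)) ∨ Nonempty (F.K ≃* M24) ∨
          Spor.IsoHe F.K)))) ∨
  (F.K = ⊤ ∧ md = 1 ∧ Spor.IsoHS G)

end Fr

/-- mode, pattern of `D ∩ T`, orbits of `t` under `N(A)`, `N(B)`, `N(T₁)` -/
structure Cfg where
  md : ℕ
  dp : ℕ
  oA : ℕ
  oB : ℕ
  oT : ℕ

def Cfg.ob (c : Cfg) : ℕ → ℕ
  | 1 => c.oA
  | 2 => c.oB
  | _ => c.oT

/-- a frame with known pattern -/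
structure Cf (G : Type*) [Group G] (c : Cfg) extends Fr G c.md where
  pat : toFr.Pat c.dp
  orb : ∀ h, h = 1 ∨ h = 2 ∨ h = 3 → toFr.Orb h (c.ob h)

/-- `D ∩ T = {t, ts, tse, tsez}` -/
def cS8 : Cfg := ⟨0, 0x802, 0xa022, 0x22, 0x22⟩
/-- `D ∩ T = {t} ∪ t z^G` -/
def cM2 : Cfg := ⟨0, 0x202, 0xa0a, 0xa000a, 0xa⟩
/-- `D ∩ T` = involutions with `t`-bit 1, `A` and `B` not conjugate -/
def cP4 : Cfg := ⟨0, 0x80000000a02, 0xaaaa, 0xaa00aa, 0xaa⟩
/-- the same, `A` and `B` conjugate -/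
def cII : Cfg := ⟨0, 0x80000000a02, 0xa0a, 0xa000a, 0xaa⟩
/-- `ρ`-modes; `r` = mask of the labels 12 (`ρ`), 13 (`t ρ`) -/
def cM2r (md r : ℕ) : Cfg := ⟨md, 0x202 + 4096 * r, 0xa0a, 0xa000a, 0xa⟩
def cP4r (md r : ℕ) : Cfg := ⟨md, 0xa02 + 4096 * r, 0xaaaa, 0xaa00aa, 0xaa⟩

/-- the list of all configurations (up to the symmetries of the frame) -/
def cfgs : List Cfg :=
  [cS8, cM2, cP4, cII, cM2r 1 0, cM2r 1 2, cM2r 1 3, cM2r 2 0, cP4r 1 0, cP4r 1 2, cP4r 1 3, cP4r 2 0]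

end CfsgLib.Dih8
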