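import Cfsg.Agent.Lib.Dih8.FrQ
import Cfsg.Agent.Lib.Holt.BasA

/-! FQ1, first part: the dihedral group `⟨e, b⟩` and fusion in `L` (plans/DIH8.md) -/

set_option autoImplicit false
set_option linter.unusedSimpArgs false

namespace CfsgLib.Dih8

open Subgroup CfsgLib.Tech Cfsg
open scoped commutatorElement

variable {Q : Type*} [Group Q] {t z e b : Q} {L T : Subgroup Q}

theorem fq_split [Finite Q] (g : Q) : ∃ u ∈ zpowers g, ∃ o ∈ zpowers g,
    IsPGroup 2 (zpowers u) ∧ Odd (orderOf o) ∧ g = u * o := by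
  obtain ⟨k, m, hm, e⟩ := Nat.exists_eq_two_pow_mul_odd (orderOf_pos g).ne'
  have hc : IsCoprime ((2 ^ k : ℕ) : ℤ) (m : ℤ) :=
    Nat.isCoprime_iff_coprime.2 ((Nat.coprime_two_left.2 hm).pow_left k)
  obtain ⟨a, c, hac⟩ := hc
  have h1 : g ^ ((2 ^ k * m : ℕ) : ℤ) = 1 := by rw [← e, zpow_natCast, pow_orderOf_eq_one]
  refine ⟨g ^ (c * m), ⟨_, rfl⟩, g ^ (a * (2 ^ k : ℕ)), ⟨_, rfl⟩,
    isPGroup_zpowers_of_pow (k := k) ?_, Odd.of_dvd_nat hm (orderOf_dvd_of_pow_eq_one ?_), ?_⟩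
  · rw [← zpow_natCast, ← zpow_mul, show c * m * (2 ^ k : ℕ) = ((2 ^ k * m : ℕ) : ℤ) * c by
      push_cast; ring, zpow_mul, h1, one_zpow]
  · rw [← zpow_natCast, ← zpow_mul, show a * (2 ^ k : ℕ) * m = ((2 ^ k * m : ℕ) : ℤ) * a by
      push_cast; ring, zpow_mul, h1, one_zpow]
  · rw [← zpow_add, add_comm, hac, zpow_one]

theorem fq_odd {o y c : Q} (ho : Odd (orderOf o)) (h : o * y * o⁻¹ = y * c)
    (hc : o * c * o⁻¹ = c) {k : ℕ} (h2 : c ^ 2 ^ k = 1) : c = 1 := by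
  have := DihSyl.pow_conj_eq h hc (orderOf o)
  rw [pow_orderOf_eq_one, one_mul, inv_one, mul_one, left_eq_mul] at this
  exact DihSyl.eq_one_of_odd_of_two_pow ho this h2

theorem fq_conj_of_zpowers {g u y : Q} (hu : u ∈ zpowers g) (h : g * y * g⁻¹ = y) :
    u * y * u⁻¹ = y := by
  obtain ⟨k, rfl⟩ := hu
  have : Commute g y := mul_inv_eq_iff_eq_mul.1 h
  exact mul_inv_eq_iff_eq_mul.2 (this.zpow_left k)

/-- if the 2-part of `n` fixes `y` then `n` does not move `y` by an involution fixed by `n` -/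
theorem fq_fix [Finite Q] {n y c : Q} (h : n * y * n⁻¹ = y * c) (hc : n * c * n⁻¹ = c)
    (h2 : c * c = 1) (hP : ∀ u ∈ zpowers n, IsPGroup 2 (zpowers u) → Commute u y) : c = 1 := by
  obtain ⟨u, hu, o, ho, h3, h4, e⟩ := fq_split n
  have h5 : u * o = o * u := by
    obtain ⟨i, rfl⟩ := hu
    obtain ⟨j, rfl⟩ := ho
    exact (Commute.zpow_zpow_self n i j).eq
  refine fq_odd (y := y) h4 ?_ (fq_conj_of_zpowers ho hc) (k := 1) (by rw [pow_one, pow_two, h2])
  rw [← h, e, h5]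
  calc o * y * o⁻¹ = o * (u * y * u⁻¹) * o⁻¹ := by rw [(hP u hu h3).eq, mul_inv_cancel_right]
    _ = _ := by group

namespace DG

variable (h : DG t z e b)
include h

theorem fq_ei : e⁻¹ = e := inv_eq_of_mul_eq_one_right h.e2
theorem fq_bi : b⁻¹ = b := inv_eq_of_mul_eq_one_right h.b2
theorem fq_zi : z⁻¹ = z := inv_eq_of_mul_eq_one_right h.z2
theorem fq_ee (x : Q) : e * (e * x) = x := by rw [← mul_assoc, h.e2, one_mul]
theorem fq_bb (x : Q) : b * (b * x) = x := by rw [← mul_assoc, h.b2, one_mul]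
theorem fq_zz (x : Q) : z * (z * x) = x := by rw [← mul_assoc, h.z2, one_mul]
theorem fq_be2 : b * e * (b * e) = z := by
  rw [← h.fq_zi, ← h.eb]
  simp only [mul_inv_rev, h.fq_ei, h.fq_bi]
theorem fq_ze : z * e = e * z := by
  calc z * e = e * (b * e * (b * e)) := by rw [← h.eb]; simp only [mul_assoc]
    _ = e * z := by rw [h.fq_be2]
theorem fq_zb : z * b = b * z := by
  calc z * b = b * (e * b * (e * b)) := by rw [← h.fq_be2]; simp only [mul_assoc]
    _ = b * z := by rw [h.eb]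
theorem fq_be : b * e = e * (b * z) := by
  calc b * e = b * e * (e * b * (e * b)) * z := by rw [h.eb, mul_assoc, h.z2, mul_one]
    _ = e * (b * z) := by simp only [mul_assoc, h.fq_ee, h.fq_bb]
theorem fq_ze' (x : Q) : z * (e * x) = e * (z * x) := by rw [← mul_assoc, h.fq_ze, mul_assoc]
theorem fq_zb' (x : Q) : z * (b * x) = b * (z * x) := by rw [← mul_assoc, h.fq_zb, mul_assoc]
theorem fq_be' (x : Q) : b * (e * x) = e * (b * (z * x)) := by
  rw [← mul_assoc, h.fq_be, mul_assoc, mul_assoc]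


/-- rewriting rules for normal forms in `⟨e, b⟩` -/
theorem fq_nf : e⁻¹ = e ∧ b⁻¹ = b ∧ z⁻¹ = z ∧ (∀ x, e * (e * x) = x) ∧ (∀ x, b * (b * x) = x) ∧
    (∀ x, z * (z * x) = x) ∧ b * e = e * (b * z) ∧ z * e = e * z ∧ z * b = b * z ∧
    (∀ x, z * (e * x) = e * (z * x)) ∧ (∀ x, z * (b * x) = b * (z * x)) ∧
    (∀ x, b * (e * x) = e * (b * (z * x))) ∧ e * e = 1 ∧ b * b = 1 ∧ z * z = 1 ∧
    (∀ x y w : Q, x * y * w = x * (y * w)) ∧ (∀ x y : Q, (x * y)⁻¹ = y⁻¹ * x⁻¹) ∧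
    (∀ x : Q, x * 1 = x) ∧ (∀ x : Q, 1 * x = x) ∧ (1 : Q)⁻¹ = 1 :=
  ⟨h.fq_ei, h.fq_bi, h.fq_zi, h.fq_ee, h.fq_bb, h.fq_zz, h.fq_be, h.fq_ze, h.fq_zb, h.fq_ze',
    h.fq_zb', h.fq_be', h.e2, h.b2, h.z2, mul_assoc, mul_inv_rev, mul_one, one_mul, inv_one⟩

theorem fq_symm : DG t z b e :=
  ⟨h.b2, h.e2, h.z2, h.z1, h.fq_be2, h.t2, h.tb, h.te, Set.pair_comm e b ▸ h.tD⟩

theorem fq_mem {g : Q} (hg : g ∈ closure ({e, b} : Set Q)) : g = 1 ∨ g = z ∨ g = e ∨ g = e * z ∨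
    g = b ∨ g = b * z ∨ g = e * b ∨ g = e * b * z := by
  have key : ∀ x y : Q, x = e ∨ x = b → (y = 1 ∨ y = z ∨ y = e ∨ y = e * z ∨ y = b ∨ y = b * z ∨
      y = e * b ∨ y = e * b * z) → (x * y = 1 ∨ x * y = z ∨ x * y = e ∨ x * y = e * z ∨ x * y = b ∨
      x * y = b * z ∨ x * y = e * b ∨ x * y = e * b * z) := by
    rintro x y (hx | hx) (hy | hy | hy | hy | hy | hy | hy | hy) <;> rw [hx, hy] <;> simp only [h.fq_nf, true_or, or_true]
  induction hg using closure_induction_left with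
  | one => exact Or.inl rfl
  | mul_left x hx y _ ih => exact key x y hx ih
  | inv_mul_cancel x hx y _ ih =>
    refine key _ y ?_ ih
    rcases hx with hx | hx <;> rw [hx]
    exacts [Or.inl h.fq_ei, Or.inr h.fq_bi]

omit h in
theorem fq_e_mem : e ∈ closure ({e, b} : Set Q) := subset_closure (Or.inl rfl)
omit h in
theorem fq_b_mem : b ∈ closure ({e, b} : Set Q) := subset_closure (Or.inr rfl)
theorem fq_z_mem : z ∈ closure ({e, b} : Set Q) :=
  h.eb ▸ mul_mem (mul_mem fq_e_mem fq_b_mem) (mul_mem fq_e_mem fq_b_mem)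

theorem fq_ncomm : e * b ≠ b * e := fun hc => h.z1 (by
  rw [← h.eb]
  nth_rw 2 [hc]
  simp only [mul_assoc, h.fq_bb, h.e2])

theorem fq_e1 : e ≠ 1 := fun hc => h.fq_ncomm (by rw [hc, one_mul, mul_one])
theorem fq_ez : e ≠ z := fun hc => h.fq_ncomm (by rw [hc, h.fq_zb])
theorem fq_ez1 : e * z ≠ 1 := fun hc => h.fq_ez (by rw [← h.fq_zi]; exact eq_inv_of_mul_eq_one_left hc)
theorem fq_tz : Commute t z := h.eb ▸ (h.te.mul_right h.tb).mul_right (h.te.mul_right h.tb)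

theorem fq_inv {g : Q} (hg : g ∈ closure ({e, b} : Set Q)) (h2 : g * g = 1) :
    g = 1 ∨ g = z ∨ g = e ∨ g = e * z ∨ g = b ∨ g = b * z := by
  rcases h.fq_mem hg with hy | hy | hy | hy | hy | hy | hy | hy
  iterate 6 simp only [hy, true_or, or_true]
  · rw [hy, h.eb] at h2; exact absurd h2 h.z1
  · refine absurd ?_ h.z1
    rw [← h2, hy]; simp only [h.fq_nf, true_or, or_true]

/-- an element of `D` commuting with `e` -/
theorem fq_cen {g : Q} (hg : g ∈ closure ({e, b} : Set Q)) (hc : g * e = e * g) :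
    g = 1 ∨ g = z ∨ g = e ∨ g = e * z := by
  rcases h.fq_mem hg with hy | hy | hy | hy | hy | hy | hy | hy
  iterate 4 simp only [hy, true_or, or_true]
  all_goals
    refine absurd ?_ h.z1
    rw [hy] at hc
  · have : b * (e * (b * e)) = b * (e * (e * b)) := by rw [hc]
    revert this; simp only [h.fq_nf, true_or, or_true]; exact id
  · have : b * (e * (b * z * e)) = b * (e * (e * (b * z))) := by rw [hc]
    revert this; simp only [h.fq_nf, true_or, or_true]; exact Eq.symm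
  · have : b * (e * b * e) = b * (e * (e * b)) := by rw [hc]
    revert this; simp only [h.fq_nf, true_or, or_true]; exact id
  · have : b * (e * b * z * e) = b * (e * (e * b * z)) := by rw [hc]
    revert this; simp only [h.fq_nf, true_or, or_true]; exact Eq.symm

/-- the action of the normaliser of `D` -/
theorem fq_act {x : Q} (hx : ∀ g ∈ closure ({e, b} : Set Q), x * g * x⁻¹ ∈ closure ({e, b} : Set Q)) :
    x * z * x⁻¹ = z ∧ (((x * e * x⁻¹ = e ∨ x * e * x⁻¹ = e * z) ∧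
      (x * b * x⁻¹ = b ∨ x * b * x⁻¹ = b * z)) ∨ ((x * e * x⁻¹ = b ∨ x * e * x⁻¹ = b * z) ∧
      (x * b * x⁻¹ = e ∨ x * b * x⁻¹ = e * z))) := by
  have h1 := h.fq_inv (hx e fq_e_mem) (by rw [conj_mul, h.e2, mul_one, mul_inv_cancel])
  have h2 := h.fq_inv (hx b fq_b_mem) (by rw [conj_mul, h.b2, mul_one, mul_inv_cancel])
  have h3 : x * e * x⁻¹ * (x * b * x⁻¹) ≠ x * b * x⁻¹ * (x * e * x⁻¹) := fun hc => by
    rw [conj_mul, conj_mul] at hc
    exact h.fq_ncomm (conj_injective hc)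
  have h4 : x * z * x⁻¹ = x * e * x⁻¹ * (x * b * x⁻¹) * (x * e * x⁻¹ * (x * b * x⁻¹)) := by
    rw [conj_mul, conj_mul, h.eb]
  rw [h4]
  rcases h1 with h1 | h1 | h1 | h1 | h1 | h1 <;> rcases h2 with h2 | h2 | h2 | h2 | h2 | h2 <;>
    rw [h1, h2] at h3 ⊢ <;>
    first
    | (refine absurd ?_ h3; simp only [h.fq_nf, true_or, or_true]; done)
    | exact ⟨by simp only [h.fq_nf, true_or, or_true], by simp only [true_or, or_true, and_self]⟩

/-- elements of the normaliser of `D` which do not swap act as elements of `D` -/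
theorem fq_act1 {x : Q} (h1 : x * e * x⁻¹ = e ∨ x * e * x⁻¹ = e * z)
    (h2 : x * b * x⁻¹ = b ∨ x * b * x⁻¹ = b * z) :
    ∃ d, (d = 1 ∨ d = e ∨ d = b ∨ d = e * b) ∧ Commute (d * x) e ∧ Commute (d * x) b := by
  have key : ∀ d u v : Q, x * u * x⁻¹ = v → d * v * d⁻¹ = u → Commute (d * x) u := fun d u v a c =>
    mul_inv_eq_iff_eq_mul.1 (by rw [← a] at c; rw [mul_inv_rev, ← mul_assoc]; simpa only [mul_assoc] using c)
  rcases h1 with h1 | h1 <;> rcases h2 with h2 | h2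
  · exact ⟨1, by simp, key _ _ _ h1 (by simp only [h.fq_nf, true_or, or_true]), key _ _ _ h2 (by simp only [h.fq_nf, true_or, or_true])⟩
  · exact ⟨e, by simp, key _ _ _ h1 (by simp only [h.fq_nf, true_or, or_true]), key _ _ _ h2 (by simp only [h.fq_nf, true_or, or_true])⟩
  · exact ⟨b, by simp, key _ _ _ h1 (by simp only [h.fq_nf, true_or, or_true]), key _ _ _ h2 (by simp only [h.fq_nf, true_or, or_true])⟩
  · exact ⟨e * b, by simp, key _ _ _ h1 (by simp only [h.fq_nf, true_or, or_true]), key _ _ _ h2 (by simp only [h.fq_nf, true_or, or_true])⟩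

theorem fq_act2 {x : Q} (h1 : x * e * x⁻¹ = b ∨ x * e * x⁻¹ = b * z)
    (h2 : x * b * x⁻¹ = e ∨ x * b * x⁻¹ = e * z) :
    ∃ d ∈ closure ({e, b} : Set Q), d * x * e * (d * x)⁻¹ = b ∧ d * x * b * (d * x)⁻¹ = e := by
  have key : ∀ d u v w : Q, x * u * x⁻¹ = v → d * v * d⁻¹ = w → d * x * u * (d * x)⁻¹ = w :=
    fun d u v w a c => by rw [← c, ← a]; group
  rcases h1 with h1 | h1 <;> rcases h2 with h2 | h2
  · exact ⟨1, one_mem _, key _ _ _ _ h1 (by simp only [h.fq_nf, true_or, or_true]), key _ _ _ _ h2 (by simp only [h.fq_nf, true_or, or_true])⟩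
  · exact ⟨b, fq_b_mem, key _ _ _ _ h1 (by simp only [h.fq_nf, true_or, or_true]), key _ _ _ _ h2 (by simp only [h.fq_nf, true_or, or_true])⟩
  · exact ⟨e, fq_e_mem, key _ _ _ _ h1 (by simp only [h.fq_nf, true_or, or_true]), key _ _ _ _ h2 (by simp only [h.fq_nf, true_or, or_true])⟩
  · exact ⟨e * b, mul_mem fq_e_mem fq_b_mem, key _ _ _ _ h1 (by simp only [h.fq_nf, true_or, or_true]), key _ _ _ _ h2 (by simp only [h.fq_nf, true_or, or_true])⟩

theorem fq_cz {y : Q} (h1 : Commute y e) (h2 : Commute y b) : Commute y z :=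
  h.eb ▸ (h1.mul_right h2).mul_right (h1.mul_right h2)

/-- an element of odd order normalising `D` centralises it -/
theorem fq_odd_cent {o : Q} (ho : Odd (orderOf o))
    (hx : ∀ g ∈ closure ({e, b} : Set Q), o * g * o⁻¹ ∈ closure ({e, b} : Set Q)) :
    Commute o e ∧ Commute o b := by
  have key : ∀ {o u : Q}, Odd (orderOf o) → o * z * o⁻¹ = z → o * u * o⁻¹ = u ∨ o * u * o⁻¹ = u * z →
      Commute o u := fun ho hz hu => by
    rcases hu with hu | hu
    · exact mul_inv_eq_iff_eq_mul.1 hu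
    · exact absurd (fq_odd ho hu hz (k := 1) (by rw [pow_one, pow_two, h.z2])) h.z1
  obtain ⟨hz, h1 | h1⟩ := h.fq_act hx
  · exact ⟨key ho hz h1.1, key ho hz h1.2⟩
  have ho2 : Odd (orderOf (o * o)) := by
    rw [← pow_two]; exact ho.of_dvd_nat (orderOf_pow_dvd 2)
  have c2 : ∀ u : Q, o * o * u * (o * o)⁻¹ = o * (o * u * o⁻¹) * o⁻¹ := fun u => by group
  have hz2 : o * o * z * (o * o)⁻¹ = z := by rw [c2, hz, hz]
  have hm : ∀ {u : Q}, Commute (o * o) u → Commute o u := fun hu => by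
    obtain ⟨k, hk⟩ := ho
    have : o = (o * o) ^ (k + 1) := by
      rw [← pow_two, ← pow_mul, show 2 * (k + 1) = 2 * k + 1 + 1 by ring, ← hk, pow_succ,
        pow_orderOf_eq_one, one_mul]
    rw [this]
    exact hu.pow_left _
  refine ⟨hm (key ho2 hz2 ?_), hm (key ho2 hz2 ?_)⟩
  · rcases h1 with ⟨h1 | h1, h2 | h2⟩ <;> rw [c2, h1] <;> try rw [← conj_mul, hz]
    all_goals rw [h2]; simp only [h.fq_nf, true_or, or_true]
  · rcases h1 with ⟨h1 | h1, h2 | h2⟩ <;> rw [c2, h2] <;> try rw [← conj_mul, hz]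
    all_goals rw [h1]; simp only [h.fq_nf, true_or, or_true]

end DG

end CfsgLib.Dih8
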