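import Cfsg.Agent.Lib.Dih8.Defs
import Cfsg.Agent.Lib.KInv.SpHS
import Cfsg.Agent.Lib.KInv.SpHe
import Cfsg.Agent.S2064
import Cfsg.Agent.S2072
import Cfsg.Agent.S2075

/-! POS: the sporadic cases (plans/DIH8.md) -/

set_option autoImplicit false
set_option linter.unusedSectionVars false

namespace CfsgLib.Dih8

open Subgroup CfsgLib.Tech Cfsg

variable {G : Type*} [Group G] [Finite G] {K : Subgroup G} {t : G}

/-- `G / K` embeds into `Out K` -/
theorem index_dvd_out (nK : K.Normal) (cK : centralizer (K : Set G) = ⊥) : K.index ∣ Nat.card (Out K) := by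
  let f : G →* Out K := (QuotientGroup.mk' (Inn K)).comp MulAut.conjNormal
  have hk : f.ker = K := by
    ext g
    rw [MonoidHom.mem_ker]
    change QuotientGroup.mk' (Inn K) (MulAut.conjNormal g) = 1 ↔ _
    rw [QuotientGroup.mk'_apply, QuotientGroup.eq_one_iff]
    constructor
    · rintro ⟨t, ht⟩
      have : (t : G)⁻¹ * g ∈ centralizer (K : Set G) := mem_centralizer_iff.2 fun x hx => by
        have := congrArg Subtype.val (DFunLike.congr_fun ht ⟨x, hx⟩)
        simp only [MulAut.conj_apply, coe_mul, coe_inv, MulAut.conjNormal_apply] at this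
        calc x * ((t : G)⁻¹ * g) = (t : G)⁻¹ * (t * x * (t : G)⁻¹) * g := by group
          _ = _ := by rw [this]; group
      rw [cK, mem_bot, inv_mul_eq_one] at this
      exact this ▸ t.2
    · exact fun hg => ⟨⟨g, hg⟩, MulEquiv.ext fun x => Subtype.ext rfl⟩
  have := index_ker f
  rw [hk] at this
  rw [this]
  exact card_subgroup_dvd_card _

theorem postM (nK : K.Normal) (cK : centralizer (K : Set G) = ⊥) (e : K ≃* M24) : K = ⊤ := by
  have h := index_dvd_out nK cK
  rw [MultC.card_out_congr e, Cfsg.Agent.S2064.result, Nat.dvd_one] at h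
  exact index_eq_one.1 h

theorem postHe1 (nK : K.Normal) (cK : centralizer (K : Set G) = ⊥) (e : Spor.IsoHe K) (ht : t ∉ K) :
    K ⊔ zpowers t = ⊤ := by
  obtain ⟨e⟩ := e
  have h := index_dvd_out nK cK
  rw [MultC.card_out_congr e, Cfsg.Agent.S2075.result] at h
  have h1 := relIndex_mul_index (le_sup_left : K ≤ K ⊔ zpowers t)
  have h2 : K.relIndex (K ⊔ zpowers t) ≠ 1 := fun h2 => ht (relIndex_eq_one.1 h2 (mem_sup_right (mem_zpowers t)))
  rcases (Nat.dvd_prime Nat.prime_two).1 h with h | h <;> rw [h] at h1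
  · exact absurd (Nat.eq_one_of_mul_eq_one_right h1) h2
  · rcases (Nat.dvd_prime Nat.prime_two).1 (Dvd.intro _ h1) with h3 | h3
    · exact absurd h3 h2
    · rw [h3] at h1
      exact index_eq_one.1 (by omega)

section He

open CosetEnum KInv KInv.FixN KInv.HeX He

set_option maxRecDepth 100000 in
private theorem fix_pow : ∀ k < 5, fixB M0_nets 2058 12 [powW xw k ++ yw] 8 = true := by decide +kernel

private theorem zp_eq {Γ : Type*} [Group Γ] [Finite Γ] {u b : Γ} (hu : orderOf u = 5) (hb : b ∈ zpowers u)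
    (h1 : b ≠ 1) : zpowers b = zpowers u := by
  refine eq_of_le_of_card_ge (zpowers_le.2 hb) ?_
  have h2 := Subgroup.orderOf_dvd_natCard _ hb
  rw [Nat.card_zpowers, hu] at h2
  rw [Nat.card_zpowers, Nat.card_zpowers, hu]
  exact (((Nat.dvd_prime Nat.prime_five).1 h2).resolve_left fun e => h1 (orderOf_eq_one_iff.1 e)).ge

/-- every element of order five has eight fixed points -/
private theorem fix_five {u : Spor.He} (hu : orderOf u = 5) : (Fx φ 2058 {u}).ncard = 8 := by
  have : Fact (Nat.Prime 5) := ⟨Nat.prime_five⟩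
  have p5 : ∀ {a : Spor.He}, orderOf a = 5 → IsPGroup 5 (zpowers a) := fun ha =>
    .of_card (n := 1) (by rw [Nat.card_zpowers, ha]; rfl)
  have fx := fixB_one S (by norm_num) fix_x
  have fxy := fixB_two S (by norm_num) fix_xy
  have fp : ∀ k < 5, (Fx φ 2058 {ev g xw ^ k * ev g yw}).ncard = 8 := fun k hk => by
    rw [← ev_powW, ← ev_append]; exact fixB_one S (by norm_num) (fix_pow k hk)
  have ox := ord_x
  have oy := ord_y
  have cxy := comm_xy
  generalize ev g xw = x at *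
  generalize ev g yw = y at *
  obtain ⟨Q, hQ⟩ := (IsPGroup.to_sup_of_normal_left' (p5 ox) (p5 oy) (le_trans (by
    rintro _ ⟨k, rfl⟩ _ ⟨l, rfl⟩
    exact (cxy.zpow_zpow l k).eq) (centralizer_le_normalizer _))).exists_le_sylow
  have hc : Nat.card Q ∣ 5 ^ 2 := by
    obtain ⟨n, hn⟩ := IsPGroup.iff_card.1 Q.isPGroup'
    have h1 := card_subgroup_dvd_card (Q : Subgroup Spor.He)
    rw [card_eq, hn] at h1
    rw [hn]
    refine pow_dvd_pow 5 (not_lt.1 fun h => ?_)
    exact absurd ((pow_dvd_pow 5 h).trans h1) (by norm_num)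
  have hlt' : zpowers x < zpowers x ⊔ zpowers y := lt_of_le_of_ne le_sup_left fun e => by
    have h1 : (Fx φ 2058 (zpowers x : Set Spor.He)).ncard ≤ (Fx φ 2058 {x, y}).ncard :=
      ncard_anti fun b hb => hb.elim (fun e => e ▸ mem_zpowers x) fun e' =>
        e' ▸ e.ge (mem_sup_right (mem_zpowers y))
    rw [Fx_zpowers, fx, fxy] at h1
    omega
  have hQe : zpowers x ⊔ zpowers y = Q := by
    refine eq_of_le_of_card_ge hQ ?_
    have h1 := (card_dvd_of_le hQ).trans hc
    have h2 : Nat.card (zpowers x) < Nat.card ↥(zpowers x ⊔ zpowers y) :=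
      lt_of_le_of_ne (card_le_of_le hlt'.le) fun e => hlt'.ne (eq_of_le_of_card_ge hlt'.le e.ge)
    rw [Nat.card_zpowers, ox] at h2
    obtain ⟨i, hi, e⟩ := (Nat.dvd_prime_pow Nat.prime_five).1 h1
    rw [e] at h2 ⊢
    refine (Nat.le_of_dvd (by norm_num) hc).trans ?_
    interval_cases i
    · norm_num at h2
    · norm_num at h2
    · rfl
  obtain ⟨P, hP⟩ := (p5 hu).exists_le_sylow
  obtain ⟨c, rfl⟩ := MulAction.exists_smul_eq Spor.He Q P
  obtain ⟨a, ha, rfl⟩ : ∃ a ∈ (Q : Subgroup Spor.He), c * a * c⁻¹ = u := hP (mem_zpowers u)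
  rw [← ncard_conj hlt (isConj_iff.2 ⟨c, rfl⟩)]
  rw [StrEmb.orderOf_conj] at hu
  rw [← hQe, zpowers_eq_closure, zpowers_eq_closure, ← Subgroup.closure_union] at ha
  obtain ⟨i, j, rfl⟩ : ∃ i j : ℕ, a = x ^ i * y ^ j := by
    clear hu hP
    induction ha using closure_induction'' with
    | one => exact ⟨0, 0, by simp⟩
    | mem a ha => exact ha.elim (fun e => ⟨1, 0, by simpa using e⟩) fun e => ⟨0, 1, by simpa using e⟩
    | inv_mem a ha =>
      refine ha.elim (fun e => ⟨4, 0, ?_⟩) fun e => ⟨0, 4, ?_⟩ <;> rw [e, pow_zero]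
      · rw [mul_one, inv_eq_iff_mul_eq_one, ← pow_succ']; exact orderOf_dvd_iff_pow_eq_one.1 ox.dvd
      · rw [one_mul, inv_eq_iff_mul_eq_one, ← pow_succ']; exact orderOf_dvd_iff_pow_eq_one.1 oy.dvd
    | mul a b _ _ ha hb =>
      obtain ⟨i, j, rfl⟩ := ha
      obtain ⟨k, l, rfl⟩ := hb
      exact ⟨i + k, j + l, by
        rw [pow_add, pow_add, mul_assoc, ← mul_assoc (y ^ j), ← (cxy.pow_pow k j).eq]; simp only [mul_assoc]⟩
  have h1 : x ^ i * y ^ j ≠ 1 := fun e => by rw [e, orderOf_one] at hu; omega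
  by_cases hj : j % 5 = 0
  · rw [← pow_mod_orderOf y, oy, hj, pow_zero, mul_one] at h1 ⊢
    rw [← Fx_zpowers, zp_eq ox (pow_mem (mem_zpowers x) i) h1, Fx_zpowers, fx]
  · obtain ⟨m, hm⟩ : ∃ m, j * m % 5 = 1 := ⟨(j % 5) ^ 3, by
      have : j % 5 < 5 := Nat.mod_lt _ (by norm_num)
      rw [Nat.mul_mod]
      generalize j % 5 = r at *
      interval_cases r <;> simp_all⟩
    have h2 : (x ^ i * y ^ j) ^ m = x ^ (i * m % 5) * y := by
      rw [(cxy.pow_pow i j).mul_pow, ← pow_mul, ← pow_mul, ← pow_mod_orderOf y, oy, hm, pow_one,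
        ← pow_mod_orderOf x, ox]
    have h3 : (x ^ i * y ^ j) ^ m ≠ 1 := fun e => by
      obtain ⟨k, rfl⟩ := hu ▸ orderOf_dvd_of_pow_eq_one e
      rw [mul_left_comm, Nat.mul_mod_right] at hm
      omega
    rw [← Fx_zpowers, ← zp_eq hu (pow_mem (mem_zpowers _) m) h3, Fx_zpowers, h2]
    exact fp _ (Nat.mod_lt _ (by norm_num))

theorem postHe3 (e : Spor.IsoHe G) : Nat.card G = 4030387200 ∧ ∀ x : G, orderOf x ≠ 35 := by
  obtain ⟨e⟩ := e
  refine ⟨(Nat.card_congr e.toEquiv).trans card_eq, fun x hx => ?_⟩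
  rw [← e.orderOf_eq] at hx
  generalize e x = a at hx
  have h5 : orderOf (a ^ 7) = 5 := by rw [orderOf_pow, hx]; rfl
  have h7 : orderOf (a ^ 5) = 7 := by rw [orderOf_pow, hx]; rfl
  have : Fact (Nat.Prime 7) := ⟨by norm_num⟩
  have h1 := modEq (φ := φ) hlt (IsPGroup.of_card (p := 7) (n := 1) (G := zpowers (a ^ 5)) (by
    rw [Nat.card_zpowers, h7, pow_one])) (A := {a ^ 7}) (by
      rintro _ ⟨k, rfl⟩ _ rfl
      exact (Commute.pow_pow_self a 5 7).zpow_left k)
  have h2 : (Fx φ 2058 ({a ^ 7} ∪ (zpowers (a ^ 5) : Set Spor.He))).ncard ≤ (Fx φ 2058 {a ^ 5}).ncard :=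
    ncard_anti (Set.singleton_subset_iff.2 (Or.inr (mem_zpowers _)))
  rw [fix_seven h7, Set.ncard_empty, Nat.le_zero] at h2
  rw [fix_five h5, h2] at h1
  exact absurd h1 (by decide)

end He

section HS

open CfsgLib.SylT CfsgLib.SylT.TH KInv

private theorem big_z [IsSimpleGroup G] {φ : TH →* G} (h : SH φ) (ht : IsConj t (φ z)) :
    512 ∣ Nat.card (centralizer ({t} : Set G)) := by
  rw [QT2.card_cent_of_isConj ht]
  exact (HSx.card_range h).symm.dvd.trans (card_dvd_of_le (by rintro _ ⟨x, rfl⟩; exact mem_H x))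

private theorem card_z [IsSimpleGroup G] {φ : TH →* G} (h : SH φ) :
    Nat.card (centralizer ({φ z} : Set G)) ∣ 512 * 120 := by
  obtain ⟨π, h0⟩ := h.hyp
  rw [← π.ker.card_mul_index, index_ker]
  refine mul_dvd_mul ?_ ((card_subgroup_dvd_card _).trans (dvd_of_eq (by
    rw [Nat.card_eq_fintype_card, Fintype.card_perm]; rfl)))
  rw [← card_map_of_injective (f := Subgroup.subtype _) (subtype_injective _)]
  refine (card_dvd_of_le ?_).trans (HSx.card_range h).dvd
  rintro _ ⟨x, hx, rfl⟩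
  exact map_le_range _ _ ((h0.ker x).1 hx)

theorem postHS1 (e : Spor.IsoHS G) (ht : orderOf t = 2) :
    Nat.card G = 44352000 ∧ ¬ 7 ∣ Nat.card (centralizer ({t} : Set G)) := by
  obtain ⟨_, hc, φ, hφ⟩ := HSx.exists_SH e
  refine ⟨hc, fun h => ?_⟩
  obtain ⟨u, hu⟩ := HSx.two_classes hφ
  rcases hu t ht with h1 | h1
  · rw [QT2.card_cent_of_isConj h1] at h
    exact absurd (h.trans (card_z hφ)) (by norm_num)
  · obtain ⟨e⟩ := e
    obtain ⟨f⟩ := MultC.isoHS
    have k := (e.trans f).symm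
    have h2 : Nat.card (centralizer ({k HSx.t0} : Set G)) = Nat.card (centralizer ({HSx.t0} : Set HSx.PG)) := by
      rw [← QT2.cent_congr, card_map_of_injective k.injective]
    have h3 := (hu _ ((k.orderOf_eq _).trans HSx.t0_ord)).resolve_left fun h3 => HSx.t0_small (h2 ▸ big_z hφ h3)
    rw [QT2.card_cent_of_isConj (h1.trans h3.symm), h2] at h
    exact absurd (h.trans HSx.t0_card) (by norm_num)

theorem postHS2 (nK : K.Normal) (cK : centralizer (K : Set G) = ⊥) (e : Spor.IsoHS K) (ht : orderOf t = 2)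
    (htK : t ∈ K) (h : 64 ∣ Nat.card ↥(K ⊓ centralizer {t})) (h' : ¬ 128 ∣ Nat.card (centralizer ({t} : Set G))) :
    K = ⊤ := by
  obtain ⟨_, -, φ, hφ⟩ := HSx.exists_SH e
  obtain ⟨u, hu⟩ := HSx.two_classes hφ
  have h1 : ∀ g : G, IsConj (⟨g * t * g⁻¹, nK.conj_mem t htK g⟩ : K) u := fun g =>
    (hu _ (by rw [← orderOf_coe]; exact (StrEmb.orderOf_conj g t).trans ht)).resolve_left fun h2 => h' (by
      rw [QT2.card_cent_of_isConj (isConj_iff.2 ⟨g, rfl⟩)]
      refine (show 128 ∣ 512 by norm_num).trans ((big_z hφ h2).trans ?_)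
      rw [← card_map_of_injective (f := K.subtype) (subtype_injective _)]
      refine card_dvd_of_le ?_
      rintro _ ⟨x, hx, rfl⟩
      exact mem_centralizer_singleton_iff.2 (congrArg Subtype.val (mem_centralizer_singleton_iff.1 hx)))
  refine eq_top_iff.2 fun g _ => by_contra fun hg => h' ?_
  obtain ⟨k, hk⟩ := isConj_iff.1 ((h1 g).trans (h1 1).symm)
  have h2 : k.1 * g ∈ centralizer ({t} : Set G) := mem_centralizer_singleton_iff.2 (by
    have h3 : k.1 * (g * t * g⁻¹) * k.1⁻¹ = 1 * t * 1⁻¹ := congrArg Subtype.val hk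
    calc k.1 * g * t = (k.1 * (g * t * g⁻¹) * k.1⁻¹) * (k.1 * g) := by group
      _ = _ := by rw [h3]; group)
  obtain ⟨e⟩ := e
  have h3 := index_dvd_out nK cK
  rw [MultC.card_out_congr e, Cfsg.Agent.S2072.result] at h3
  have h4 := ((Nat.dvd_prime Nat.prime_two).1 ((relIndex_dvd_index_of_normal K (centralizer {t})).trans h3)).resolve_left
    fun h4 => hg ((K.mul_mem_cancel_left k.2).1 (relIndex_eq_one.1 h4 h2))
  rw [← (K.subgroupOf (centralizer {t})).card_mul_index, show (K.subgroupOf (centralizer {t})).index = 2 from h4,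
    ← card_map_of_injective (f := Subgroup.subtype _) (subtype_injective _), subgroupOf_map_subtype]
  exact mul_dvd_mul_right h 2

end HS

end CfsgLib.Dih8
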