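import Cfsg.Agent.Lib.Dih8.FrQ
import Cfsg.Agent.Lib.Dih8.Fq1a

/-! FQ1: the shape of a Sylow 2-subgroup of `Q` (plans/DIH8.md) -/

set_option autoImplicit false
set_option linter.unusedSimpArgs false

namespace CfsgLib.Dih8

open Subgroup CfsgLib.Tech Cfsg
open scoped commutatorElement

variable {Q : Type*} [Group Q] [Finite Q] {t : Q} {L T : Subgroup Q}

omit [Finite Q] in
theorem fq_cz' {g u x : Q} (h : Commute g u) (hx : x ∈ zpowers u) : g * x * g⁻¹ = x := by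
  obtain ⟨k, rfl⟩ := hx
  exact mul_inv_eq_iff_eq_mul.2 (h.zpow_right k)

omit [Finite Q] in
theorem fq_p2 {u : Q} (hu : u * u = 1) : IsPGroup 2 (zpowers u) :=
  isPGroup_zpowers_of_pow (k := 1) (by rw [pow_one, pow_two, hu])

theorem fq_p2_sup {u v : Q} (hu : IsPGroup 2 (zpowers u)) (hv : IsPGroup 2 (zpowers v))
    (h : Commute v u) : IsPGroup 2 ↥(zpowers u ⊔ zpowers v) :=
  IsPGroup.to_sup_of_normal_left' hu hv
    (zpowers_le.2 (mem_normalizer_of_forall fun x hx => by rw [fq_cz' h hx]; exact hx))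

omit [Finite Q] in
theorem DG.fq_cen' {z e b u w : Q} (h : DG t z e b) (hw : w ∈ closure ({e, b} : Set Q))
    (hu : u = e ∨ u = e * z ∨ u = b ∨ u = b * z) (hc : w * u = u * w) :
    w = 1 ∨ w = z ∨ w = u ∨ w = u * z := by
  have hw' : w ∈ closure ({b, e} : Set Q) := Set.pair_comm e b ▸ hw
  have cz : ∀ {x : Q}, w * (x * z) = x * z * w → w * x = x * w := fun hx => by
    have : z * w = w * z := by
      rcases h.fq_mem hw with a | a | a | a | a | a | a | a <;> rw [a] <;> simp only [h.fq_nf]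
    rw [mul_assoc, this, ← mul_assoc, ← mul_assoc] at hx
    exact mul_right_cancel hx
  rcases hu with hu | hu | hu | hu <;> rw [hu] at hc ⊢
  · exact h.fq_cen hw hc
  · rcases h.fq_cen hw (cz hc) with a | a | a | a <;> rw [a] <;>
      simp only [h.fq_nf, true_or, or_true]
  · exact h.fq_symm.fq_cen hw' hc
  · rcases h.fq_symm.fq_cen hw' (cz hc) with a | a | a | a <;> rw [a] <;>
      simp only [h.fq_nf, true_or, or_true]

namespace HQ

variable (h : HQ t L)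
include h

theorem fq_tt : t * t = 1 := by rw [← pow_two, ← h.ot, pow_orderOf_eq_one]

theorem fq_t1 : t ≠ 1 := fun e => by have := h.ot; rw [e, orderOf_one] at this; omega

theorem fq_cent (g : Q) : Commute g t := by
  have := h.nL
  have h1 : g * t * g⁻¹ ∈ centralizer (L : Set Q) :=
    (inferInstance : (centralizer (L : Set Q)).Normal).conj_mem t (h.cL ▸ mem_zpowers t) g
  rw [h.cL] at h1
  rcases Holt.mem_zpowers_sq h.fq_tt h1 with h1 | h1
  · exact absurd (conj_eq_one_iff.1 h1) h.fq_t1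
  · exact mul_inv_eq_iff_eq_mul.1 h1

theorem fq_tT (hT : IsSylowIn 2 T ⊤) : t ∈ T :=
  hT.le_of_le_normalizer (fq_p2 h.fq_tt) le_top
    (fun g _ => mem_normalizer_of_forall fun x hx => by
      rw [fq_cz' (h.fq_cent g) hx]; exact hx) (mem_zpowers t)

theorem fq_syl (hT : IsSylowIn 2 T ⊤) : IsSylowIn 2 (T ⊓ L) L := by
  have := h.nL
  have h1 := hT.inf_of_le_normalizer (N := L) le_normalizer_of_normal
  rwa [top_inf_eq] at h1

theorem fq_nc : ∃ x ∈ L, ∃ y ∈ L, x * y ≠ y * x := by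
  obtain ⟨D, hD, ⟨f⟩⟩ := h.dL
  refine ⟨_, hD.le (f.symm (.r 1)).2, _, hD.le (f.symm (.sr 0)).2, fun e => ?_⟩
  have h1 : f.symm (.r 1) * f.symm (.sr 0) = f.symm (.sr 0) * f.symm (.r 1) := Subtype.ext e
  rw [← map_mul, ← map_mul] at h1
  exact absurd (f.symm.injective h1) (by decide)

theorem fq_tL : t ∉ L := fun ht => by
  have := h.sL
  obtain ⟨x, hx, y, hy, e⟩ := h.fq_nc
  rcases (inferInstance : (center L).Normal).eq_bot_or_eq_top with h1 | h1
  · have : (⟨t, ht⟩ : L) ∈ center L := mem_center_iff.2 fun g => Subtype.ext (h.fq_cent g)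
    rw [h1, mem_bot] at this
    exact h.fq_t1 (congrArg Subtype.val this)
  · have : (⟨y, hy⟩ : L) ∈ center L := h1 ▸ mem_top _
    exact e (congrArg Subtype.val (mem_center_iff.1 this ⟨x, hx⟩))

/-- all involutions of `L` are conjugate -/
theorem fq_conj {a c : Q} (ha : a ∈ L) (hc : c ∈ L) (a2 : a * a = 1) (a1 : a ≠ 1) (c2 : c * c = 1)
    (c1 : c ≠ 1) : ∃ g ∈ L, g * a * g⁻¹ = c := by
  have := h.sL
  obtain ⟨D, hD, ⟨f⟩⟩ := h.dL
  obtain ⟨r, s, hd⟩ := DihSyl.exists_isDih (D := (hD.toSylow : Subgroup L))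
    ((subgroupOfEquivOfLe hD.le).trans f)
  have hG : ∀ M : Subgroup L, M.index ≠ 2 := fun M hM => by
    rcases (normal_of_index_eq_two hM).eq_bot_or_eq_top with rfl | rfl
    · rw [index_bot] at hM
      have := isCyclic_of_prime_card (p := 2) hM
      obtain ⟨x, hx, y, hy, e⟩ := h.fq_nc
      exact e (congrArg Subtype.val
        ((IsCyclic.isMulCommutative (α := L)).is_comm.comm ⟨x, hx⟩ ⟨y, hy⟩))
    · simp at hM
  obtain ⟨g, hg⟩ := isConj_iff.1 (hd.isConj_of_no_index_two hG (a := ⟨a, ha⟩) (b := ⟨c, hc⟩)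
    (orderOf_eq_prime (Subtype.ext (by rw [pow_two]; exact a2)) fun e => a1 (congrArg Subtype.val e))
    (orderOf_eq_prime (Subtype.ext (by rw [pow_two]; exact c2)) fun e => c1 (congrArg Subtype.val e)))
  exact ⟨g, g.2, congrArg Subtype.val hg⟩

end HQ

/-- the data of FQ1 -/
structure FqB (t : Q) (L T : Subgroup Q) (z e b : Q) : Prop where
  hq : HQ t L
  hT : IsSylowIn 2 T ⊤
  dg : DG t z e b
  eq : T ⊓ L = closure {e, b}

theorem HQ.fq_exists (h : HQ t L) (hT : IsSylowIn 2 T ⊤) : ∃ z e b, FqB t L T z e b := by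
  obtain ⟨D, hD, ⟨f⟩⟩ := h.dL
  obtain ⟨g, -, hg⟩ := (h.fq_syl hT).exists_cj_eq hD
  obtain ⟨r, s, hd⟩ := DihSyl.exists_isDih (D := T ⊓ L)
    (((cjEquiv g _).trans (MulEquiv.subgroupCongr hg)).trans f)
  have e1 : s * (s * r) = r := by rw [← mul_assoc, hd.ss, one_mul]
  have e2 : T ⊓ L = closure {s, s * r} := by
    refine le_antisymm (fun x hx => ?_) ((closure_le _).2 ?_)
    · have hr : r ∈ closure {s, s * r} := by
        have := mul_mem (DG.fq_e_mem (e := s) (b := s * r)) DG.fq_b_mem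
        rwa [e1] at this
      obtain ⟨i, rfl | rfl⟩ := (hd.mem x).1 hx
      exacts [zpow_mem hr i, mul_mem (zpow_mem hr i) DG.fq_e_mem]
    · rintro x (rfl | rfl)
      exacts [hd.s_mem, mul_mem hd.s_mem hd.r_mem]
  refine ⟨r * r, s, s * r, h, hT, ⟨hd.ss, ?_, ?_, fun e => ?_, by rw [e1], h.fq_tt,
    (h.fq_cent _).symm, (h.fq_cent _).symm, fun ht => h.fq_tL (e2 ▸ ht).2⟩, e2⟩
  · have := hd.conj
    rw [hd.s_inv] at this
    rw [← mul_assoc, this, inv_mul_cancel]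
  · have := pow_orderOf_eq_one r
    rw [hd.ord] at this
    rw [← this]; simp only [pow_succ, pow_zero, one_mul, mul_assoc]
  · have := orderOf_dvd_of_pow_eq_one ((pow_two r).trans e)
    rw [hd.ord] at this
    omega

namespace FqB

variable {z e b : Q} (h : FqB t L T z e b)
include h

theorem symm : FqB t L T z b e := ⟨h.hq, h.hT, h.dg.fq_symm, Set.pair_comm e b ▸ h.eq⟩

theorem syl : IsSylowIn 2 (closure {e, b}) L := h.eq ▸ h.hq.fq_syl h.hT
theorem mem {g : Q} : g ∈ closure ({e, b} : Set Q) ↔ g ∈ T ∧ g ∈ L := by rw [← h.eq]; rfl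
theorem eL : e ∈ L := h.syl.le DG.fq_e_mem
theorem bL : b ∈ L := h.syl.le DG.fq_b_mem
theorem zL : z ∈ L := h.syl.le h.dg.fq_z_mem
theorem eT : e ∈ T := (h.mem.1 DG.fq_e_mem).1
theorem bT : b ∈ T := (h.mem.1 DG.fq_b_mem).1
theorem zT : z ∈ T := (h.mem.1 h.dg.fq_z_mem).1

theorem nD {x : Q} (hx : x ∈ normalizer (T : Set Q)) :
    ∀ g ∈ closure ({e, b} : Set Q), x * g * x⁻¹ ∈ closure ({e, b} : Set Q) := fun g hg =>
  h.mem.2 ⟨conj_mem_of_mem_normalizer hx (h.mem.1 hg).1, h.hq.nL.conj_mem _ (h.mem.1 hg).2 x⟩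

theorem D_le {y : Q} (h1 : Commute y e) (h2 : Commute y b) :
    closure ({e, b} : Set Q) ≤ centralizer {y} := (closure_le _).2 (by
  rintro x (rfl | rfl)
  exacts [mem_centralizer_singleton_iff.2 h1.symm, mem_centralizer_singleton_iff.2 h2.symm])

/-- a 2-element of `N_L(D)` lies in `D` -/
theorem two_mem {u : Q} (hu : u ∈ L) (h2 : IsPGroup 2 (zpowers u))
    (hn : u ∈ normalizer (closure ({e, b} : Set Q) : Set Q)) : u ∈ closure ({e, b} : Set Q) :=
  h.syl.le_of_normalizes h2 (zpowers_le.2 hu) (zpowers_le.2 hn) (mem_zpowers u)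

/-- `N_L(D)` does not swap -/
theorem no_swap {n : Q} (hL : n ∈ L) (hn : n ∈ normalizer (closure ({e, b} : Set Q) : Set Q)) :
    n * e * n⁻¹ = e ∨ n * e * n⁻¹ = e * z := by
  obtain ⟨u, hu, o, ho, h3, h4, e1⟩ := fq_split n
  have h5 := h.dg.fq_odd_cent h4 fun g hg => conj_mem_of_mem_normalizer (zpowers_le.2 hn ho) hg
  have h6 := h.two_mem (zpowers_le.2 hL hu) h3 (zpowers_le.2 hn hu)
  have h7 : n * e * n⁻¹ = u * e * u⁻¹ := by
    rw [e1, mul_assoc u, h5.1.eq]; group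
  rw [h7]
  rcases h.dg.fq_mem h6 with hy | hy | hy | hy | hy | hy | hy | hy <;> rw [hy] <;>
    simp only [h.dg.fq_nf, true_or, or_true]

theorem sylz : IsSylowIn 2 (closure {e, b}) (L ⊓ centralizer {z}) :=
  h.syl.of_le (le_inf h.syl.le (h.D_le h.dg.fq_ze h.dg.fq_zb)) inf_le_left

/-- a 2-element of `C_L(U)` lies in `U` -/
theorem cenU {c : Q} (hL : c ∈ L) (h2 : IsPGroup 2 (zpowers c)) (h3 : Commute c z)
    (h4 : Commute c e) : c = 1 ∨ c = z ∨ c = e ∨ c = e * z := by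
  obtain ⟨g, hg0, hg⟩ := h.sylz.exists_cj_le (fq_p2_sup (fq_p2 h.dg.e2) h2 h4) (sup_le
    (zpowers_le.2 (h.sylz.le DG.fq_e_mem))
    (zpowers_le.2 ⟨hL, mem_centralizer_singleton_iff.2 h3⟩))
  rw [cj_le_iff] at hg
  have a1 : g * z * g⁻¹ = z := mul_inv_eq_iff_eq_mul.2 (mem_centralizer_singleton_iff.1 hg0.2)
  have a2 := hg e (mem_sup_left (mem_zpowers e))
  have a3 := hg c (mem_sup_right (mem_zpowers c))
  have ci : ∀ {u v : Q}, g * u * g⁻¹ = g * v * g⁻¹ → u = v := fun e => conj_injective e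
  have a4 : g * e * g⁻¹ = e ∨ g * e * g⁻¹ = e * z ∨ g * e * g⁻¹ = b ∨ g * e * g⁻¹ = b * z := by
    rcases h.dg.fq_inv a2 (by rw [conj_mul, h.dg.e2, mul_one, mul_inv_cancel]) with a | a | a
    · exact absurd (conj_eq_one_iff.1 a) h.dg.fq_e1
    · exact absurd (ci (a.trans a1.symm)) h.dg.fq_ez
    · exact a
  rcases h.dg.fq_cen' a3 a4 (by rw [conj_mul, conj_mul, h4.eq]) with a | a | a | a
  · exact Or.inl (conj_eq_one_iff.1 a)
  · exact Or.inr (Or.inl (ci (a.trans a1.symm)))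
  · exact Or.inr (Or.inr (Or.inl (ci a)))
  · exact Or.inr (Or.inr (Or.inr (ci (by rw [a, ← conj_mul, a1]))))

/-- `C_L(U)` induces no translation -/
theorem trans_one {n y u : Q} (hL : n ∈ L) (h1 : Commute n z) (h2 : Commute n e) (h3 : Commute y z)
    (h4 : Commute y e) (hu : u = 1 ∨ u = z ∨ u = e ∨ u = e * z) (h5 : n * y * n⁻¹ = y * u) :
    u = 1 := by
  have cU : ∀ {x v : Q}, Commute x z → Commute x e → v = 1 ∨ v = z ∨ v = e ∨ v = e * z →
      Commute x v := fun a c hv => by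
    rcases hv with hv | hv | hv | hv <;> rw [hv]
    exacts [Commute.one_right _, a, c, c.mul_right a]
  refine fq_fix h5 (mul_inv_eq_iff_eq_mul.2 (cU h1 h2 hu)) ?_ fun v hv h6 => ?_
  · rcases hu with hu | hu | hu | hu <;> rw [hu] <;> simp only [h.dg.fq_nf]
  · exact (cU h3 h4 (h.cenU (zpowers_le.2 hL hv) h6
      (mul_inv_eq_iff_eq_mul.1 (fq_conj_of_zpowers hv (mul_inv_eq_iff_eq_mul.2 h1)))
      (mul_inv_eq_iff_eq_mul.1 (fq_conj_of_zpowers hv (mul_inv_eq_iff_eq_mul.2 h2))))).symm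

theorem nS : closure ({e, b} : Set Q) ≤ normalizer ({z, e, e * z} : Set Q) := (closure_le _).2 (by
  rintro x (hx | hx) <;> refine mem_normalizer_fintype ?_ <;> rintro n (hn | hn | hn) <;>
    rw [hx, hn] <;> simp only [h.dg.fq_nf, Set.mem_insert_iff, Set.mem_singleton_iff, true_or, or_true])

/-- `N_L(U)` is transitive on the involutions of `U` -/
theorem exists_three : ∃ x ∈ L, x * z * x⁻¹ = e ∧ x * e * x⁻¹ = e * z := by
  obtain ⟨g, hg, h1⟩ := h.hq.fq_conj h.eL h.zL h.dg.e2 h.dg.fq_e1 h.dg.z2 h.dg.z1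
  have z2 : g * z * g⁻¹ * (g * z * g⁻¹) = 1 := by rw [conj_mul, h.dg.z2, mul_one, mul_inv_cancel]
  obtain ⟨c, hc, h2⟩ := h.sylz.exists_conj_mem (x := g * z * g⁻¹) ⟨h.hq.nL.conj_mem _ h.zL g,
    mem_centralizer_singleton_iff.2 (by
      nth_rw 2 3 [← h1]; rw [conj_mul, conj_mul, h.dg.fq_ze])⟩ (fq_p2 z2)
  have hcz : c * z * c⁻¹ = z := mul_inv_eq_iff_eq_mul.2 (mem_centralizer_singleton_iff.1 hc.2)
  have a1 : c * g * e * (c * g)⁻¹ = z := by rw [← hcz, ← h1]; group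
  have a2 : c * g * z * (c * g)⁻¹ ∈ closure ({e, b} : Set Q) := by
    convert h2 using 1; group
  have a3 : c * g ∈ L := mul_mem hc.1 hg
  generalize c * g = k at a1 a2 a3
  have iv : ∀ {u v : Q}, k * u * k⁻¹ = v → k⁻¹ * v * k⁻¹⁻¹ = u := fun e => by rw [← e]; group
  have swap : ∀ v, v = b ∨ v = b * z → k * z * k⁻¹ ≠ v := fun v hv a4 => by
    have hS : IsSylowIn 2 (closure {e, b}) (L ⊓ normalizer ({z, b, b * z} : Set Q)) :=
      h.syl.of_le (le_inf h.syl.le (Set.pair_comm b e ▸ h.symm.nS)) inf_le_left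
    have k1 : ∀ m ∈ ({z, e, e * z} : Set Q), k * m * k⁻¹ ∈ ({z, b, b * z} : Set Q) := by
      rintro m (hm | hm | hm) <;> rw [hm] <;> try rw [← conj_mul]
      all_goals rcases hv with hv | hv <;>
        simp only [a1, a4, hv, Set.mem_insert_iff, Set.mem_singleton_iff] <;>
        simp only [h.dg.fq_nf, true_or, or_true]
    have k2 : ∀ n ∈ ({z, b, b * z} : Set Q), ∃ m ∈ ({z, e, e * z} : Set Q), n = k * m * k⁻¹ := by
      have a5 : k * (e * z) * k⁻¹ = z * v := by rw [← conj_mul, a1, a4]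
      rintro n (hn | hn | hn) <;> rw [hn]
      · exact ⟨e, by simp, a1.symm⟩
      · rcases hv with hv | hv
        · exact ⟨z, by simp, (a4.trans hv).symm⟩
        · exact ⟨e * z, by simp, by rw [a5, hv]; simp only [h.dg.fq_nf]⟩
      · rcases hv with hv | hv
        · exact ⟨e * z, by simp, by rw [a5, hv]; simp only [h.dg.fq_nf]⟩
        · exact ⟨z, by simp, (a4.trans hv).symm⟩
    obtain ⟨c, hc, h3⟩ := hS.exists_cj_le (isPGroup_cj k h.syl.pgroup) (cj_le_iff.2 fun x hx =>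
      ⟨h.hq.nL.conj_mem _ (h.syl.le hx) k, mem_normalizer_fintype fun n hn => by
        obtain ⟨m, hm, rfl⟩ := k2 n hn
        have := k1 _ ((h.nS hx m).1 hm)
        convert this using 1; group⟩)
    rw [← cj_mul] at h3
    have h4 := h.no_swap (mul_mem hc.1 a3) (mem_normalizer_of_cj_le h3)
    have h5 : c * k * e * (c * k)⁻¹ ∈ ({z, b, b * z} : Set Q) := by
      rw [show c * k * e * (c * k)⁻¹ = c * (k * e * k⁻¹) * c⁻¹ by group, a1]
      exact (hc.2 z).1 (Or.inl rfl)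
    have h6 : c * k * e * (c * k)⁻¹ * b = b * (c * k * e * (c * k)⁻¹) := by
      rcases h5 with h5 | h5 | h5 <;> rw [h5] <;> simp only [h.dg.fq_nf]
    refine h.dg.z1 ?_
    rcases h4 with h4 | h4 <;> rw [h4] at h6 <;> simp only [h.dg.fq_nf] at h6
    · exact left_eq_mul.1 (mul_left_cancel h6)
    · exact mul_eq_left.1 (mul_left_cancel h6)
  rcases h.dg.fq_inv a2 (by rw [conj_mul, h.dg.z2, mul_one, mul_inv_cancel]) with
    a | a | a | a | a | a
  · exact absurd (conj_eq_one_iff.1 a) h.dg.z1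
  · exact absurd (conj_injective (a1.trans a.symm)) h.dg.fq_ez
  · refine ⟨k⁻¹ * b, mul_mem (inv_mem a3) h.bL, ?_, ?_⟩
    · rw [← iv a1]
      nth_rw 2 [show z = b * z * b⁻¹ by simp only [h.dg.fq_nf]]
      group
    · have : k⁻¹ * (e * z) * k⁻¹⁻¹ = e * z := by
        rw [← conj_mul, iv a, iv a1, h.dg.fq_ze]
      rw [← this, show e * z = b * e * b⁻¹ by simp only [h.dg.fq_nf]]
      group
  · refine ⟨k⁻¹, inv_mem a3, iv a1, ?_⟩
    rw [show e = e * z * z by simp only [h.dg.fq_nf], ← conj_mul, iv a, iv a1]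
    simp only [h.dg.fq_nf]
  · exact absurd a (swap _ (Or.inl rfl))
  · exact absurd a (swap _ (Or.inr rfl))

theorem three_inv {σ : Q} (h1 : σ * z * σ⁻¹ = e) (h2 : σ * e * σ⁻¹ = e * z) :
    σ * (e * z) * σ⁻¹ = z := by
  rw [← conj_mul, h1, h2]; simp only [h.dg.fq_nf]

/-- an element of order 3 on `U` cannot fix both `y` and `y z` up to `C_L(U)` -/
theorem uniq {σ σ' y : Q} (hL : σ ∈ L) (h1 : σ * z * σ⁻¹ = e) (h2 : σ * e * σ⁻¹ = e * z)
    (hL' : σ' ∈ L) (h1' : σ' * z * σ'⁻¹ = e) (h2' : σ' * e * σ'⁻¹ = e * z) (yz : Commute y z)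
    (ye : Commute y e) (c1 : Commute σ y) (c2 : Commute σ' (y * z)) : False := by
  have iv : ∀ {u v : Q}, σ * u * σ⁻¹ = v → σ' * u * σ'⁻¹ = v → Commute (σ⁻¹ * σ') u :=
    fun {u v} a c => mul_inv_eq_iff_eq_mul.1 (by
      calc σ⁻¹ * σ' * u * (σ⁻¹ * σ')⁻¹ = σ⁻¹ * (σ' * u * σ'⁻¹) * σ := by group
        _ = u := by rw [c, ← a]; group)
  refine h.dg.fq_e1 (h.trans_one (mul_mem (inv_mem hL) hL') (iv h1 h1') (iv h2 h2')
    (yz.mul_left (Commute.refl z)) (ye.mul_left h.dg.fq_ze) (Or.inr (Or.inr (Or.inl rfl))) ?_)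
  calc σ⁻¹ * σ' * (y * z) * (σ⁻¹ * σ')⁻¹ = σ⁻¹ * (σ' * (y * z) * σ'⁻¹) * σ := by group
    _ = σ⁻¹ * (σ * y * σ⁻¹ * (σ * (e * z) * σ⁻¹)) * σ := by
      rw [c2.eq, mul_inv_cancel_right, c1.eq, mul_inv_cancel_right, h.three_inv h1 h2]
    _ = y * (e * z) := by group
    _ = _ := by simp only [h.dg.fq_nf]

theorem exists_sigma : ∃ σ ∈ L, σ * z * σ⁻¹ = e ∧ σ * e * σ⁻¹ = e * z ∧
    ∀ y ∈ T, Commute y e → Commute y b → Commute σ y ∨ Commute σ (y * z) := by
  have := h.hq.nL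
  obtain ⟨x, hx, h1, h2⟩ := h.exists_three
  have mC : ∀ {g : Q}, g ∈ centralizer ({z, e} : Set Q) ↔ Commute g z ∧ Commute g e :=
    ⟨fun a => ⟨(a z (Or.inl rfl)).symm, (a e (Or.inr rfl)).symm⟩, fun a u hu => by
      rcases hu with rfl | rfl
      exacts [a.1.symm, a.2.symm]⟩
  have cc : ∀ {g u v : Q}, Commute u v → Commute (g * u * g⁻¹) (g * v * g⁻¹) := fun a => by
    rw [Commute, SemiconjBy, conj_mul, conj_mul, a.eq]
  have xC : ∀ g ∈ centralizer ({z, e} : Set Q), x * g * x⁻¹ ∈ centralizer ({z, e} : Set Q) :=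
    fun g hg => mC.2 ⟨h.three_inv h1 h2 ▸ cc ((mC.1 hg).2.mul_right (mC.1 hg).1),
      h1 ▸ cc (mC.1 hg).1⟩
  set A := T ⊓ centralizer ({z, e} : Set Q)
  set C := L ⊓ centralizer ({z, e} : Set Q)
  have hAC : A ≤ normalizer (C : Set Q) := fun a ha => mem_normalizer_of_forall fun c hc =>
    ⟨h.hq.nL.conj_mem _ hc.1 a, (centralizer _).mul_mem ((centralizer _).mul_mem ha.2 hc.2)
      ((centralizer _).inv_mem ha.2)⟩
  have zA : z ∈ A := ⟨h.zT, mC.2 ⟨Commute.refl z, h.dg.fq_ze⟩⟩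
  have eA : e ∈ A := ⟨h.eT, mC.2 ⟨h.dg.fq_ze.symm, Commute.refl e⟩⟩
  have hA : IsSylowIn 2 A (A ⊔ C) := isSylowIn_of_maximal (h.hT.pgroup.to_inf_left) le_sup_left
    fun R hR h3 h4 r hr => by
      obtain ⟨a, ha, c, hc, rfl⟩ := (Coprime.mem_sup_iff_of_le_normalizer' hAC).1 (h4 hr)
      refine mul_mem ha ?_
      rcases h.cenU hc.1 (isPGroup_zpowers_of_mem hR ((R.mul_mem_cancel_left (h3 ha)).1 hr))
        (mC.1 hc.2).1 (mC.1 hc.2).2 with a | a | a | a <;> rw [a]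
      exacts [one_mem _, zA, eA, mul_mem eA zA]
  have hxn : x ∈ normalizer ((A ⊔ C : Subgroup Q) : Set Q) := mem_normalizer_of_cj_le (by
    rw [cj_sup]
    refine sup_le (cj_le_iff.2 fun a ha => ?_) (cj_le_iff.2 fun c hc =>
      mem_sup_right ⟨h.hq.nL.conj_mem _ hc.1 x, xC c hc.2⟩)
    rw [show x * a * x⁻¹ = a * (a⁻¹ * (x * a * x⁻¹)) by group]
    refine mul_mem (mem_sup_left ha) (mem_sup_right ⟨?_, (centralizer _).mul_mem
      ((centralizer _).inv_mem ha.2) (xC a ha.2)⟩)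
    rw [show a⁻¹ * (x * a * x⁻¹) = a⁻¹ * x * a⁻¹⁻¹ * x⁻¹ by group]
    exact L.mul_mem (h.hq.nL.conj_mem _ hx _) (L.inv_mem hx))
  obtain ⟨n, hn, hn'⟩ := hA.frattini hxn
  obtain ⟨a, ha, c, hc, rfl⟩ := (Coprime.mem_sup_iff_of_le_normalizer' hAC).1 hn
  have hσ : c * x ∈ normalizer (A : Set Q) :=
    (mul_mem_cancel_left (le_normalizer ha)).1 (mul_assoc a c x ▸ hn')
  have cx : ∀ u : Q, c * x * u * (c * x)⁻¹ = c * (x * u * x⁻¹) * c⁻¹ := fun u => by group
  have s1 : c * x * z * (c * x)⁻¹ = e := by rw [cx, h1, (mC.1 hc.2).2.eq, mul_inv_cancel_right]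
  have s2 : c * x * e * (c * x)⁻¹ = e * z := by
    rw [cx, h2, ((mC.1 hc.2).2.mul_right (mC.1 hc.2).1).eq, mul_inv_cancel_right]
  have sL : c * x ∈ L := mul_mem hc.1 hx
  refine ⟨c * x, sL, s1, s2, fun y hy ye yb => ?_⟩
  generalize c * x = σ at hσ s1 s2 sL
  have yz := h.dg.fq_cz ye yb
  have yA : y ∈ A := ⟨hy, mC.2 ⟨yz, ye⟩⟩
  have uA : y⁻¹ * (σ * y * σ⁻¹) ∈ A := mul_mem (inv_mem yA) (conj_mem_of_mem_normalizer hσ yA)
  have uL : y⁻¹ * (σ * y * σ⁻¹) ∈ L := by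
    rw [show y⁻¹ * (σ * y * σ⁻¹) = y⁻¹ * σ * y⁻¹⁻¹ * σ⁻¹ by group]
    exact mul_mem (h.hq.nL.conj_mem _ sL _) (inv_mem sL)
  have s3 := h.three_inv s1 s2
  have bz : b * z * b⁻¹ = z := by simp only [h.dg.fq_nf]
  have be : b * e * b⁻¹ = e * z := by simp only [h.dg.fq_nf]
  have bez : b * (e * z) * b⁻¹ = e := by simp only [h.dg.fq_nf]
  have by' : b * y * b⁻¹ = y := by rw [← yb.eq, mul_inv_cancel_right]
  have bad : ∀ v : Q, Commute v z → Commute v e → σ * v * σ⁻¹ = v → b * v * b⁻¹ = v * z → False :=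
    fun v v1 v2 v3 v4 => by
      have cn : ∀ u : Q, b * σ * b * σ * u * (b * σ * b * σ)⁻¹ =
          b * (σ * (b * (σ * u * σ⁻¹) * b⁻¹) * σ⁻¹) * b⁻¹ := fun u => by group
      refine h.dg.fq_e1 (h.trans_one (n := b * σ * b * σ)
        (mul_mem (mul_mem (mul_mem h.bL sL) h.bL) sL)
        (mul_inv_eq_iff_eq_mul.1 (by rw [cn, s1, be, s3, bz]))
        (mul_inv_eq_iff_eq_mul.1 (by rw [cn, s2, bez, s2, bez])) v1 v2
        (Or.inr (Or.inr (Or.inl rfl))) ?_)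
      rw [cn, v3, v4, ← conj_mul (b := σ), v3, s1, ← conj_mul, v4, be]
      simp only [h.dg.fq_nf]
  rcases h.dg.fq_cen (h.mem.2 ⟨uA.1, uL⟩) (mC.1 uA.2).2 with u | u | u | u <;>
    rw [inv_mul_eq_iff_eq_mul] at u
  · exact Or.inl (mul_inv_eq_iff_eq_mul.1 (by rw [u, mul_one]))
  · exact (bad (y * e) (yz.mul_left h.dg.fq_ze.symm) (ye.mul_left (Commute.refl e))
      (by rw [← conj_mul, u, s2]; simp only [h.dg.fq_nf])
      (by rw [← conj_mul, by', be, mul_assoc])).elim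
  · exact (bad (y * (e * z)) (yz.mul_left (by simp only [Commute, SemiconjBy, h.dg.fq_nf]))
      (ye.mul_left (by simp only [Commute, SemiconjBy, h.dg.fq_nf]))
      (by rw [← conj_mul, u, s3, mul_assoc])
      (by rw [← conj_mul, by', bez]; simp only [h.dg.fq_nf])).elim
  · exact Or.inr (mul_inv_eq_iff_eq_mul.1 (by rw [← conj_mul, u, s1]; simp only [h.dg.fq_nf]))

theorem not_yz {y l : Q} (ye : Commute y e) (yb : Commute y b) (hl : l ∈ L) :
    l * y * l⁻¹ ≠ y * z := fun h1 => by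
  have hS : IsSylowIn 2 (closure {e, b}) (L ⊓ centralizer {y * z}) :=
    h.syl.of_le (le_inf h.syl.le (h.D_le (ye.mul_left h.dg.fq_ze) (yb.mul_left h.dg.fq_zb)))
      inf_le_left
  obtain ⟨c, hc, h3⟩ := hS.exists_cj_le (isPGroup_cj l h.syl.pgroup) (cj_le_iff.2 fun x hx =>
    ⟨h.hq.nL.conj_mem _ (h.syl.le hx) l, mem_centralizer_singleton_iff.2 (by
      rw [← h1, conj_mul, conj_mul, mem_centralizer_singleton_iff.1 (h.D_le ye yb hx)])⟩)
  rw [← cj_mul] at h3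
  have h4 := mem_normalizer_of_cj_le h3
  refine h.dg.z1 (fq_fix (n := c * l) (y := y) ?_ (h.dg.fq_act (cj_le_iff.1 h3)).1 h.dg.z2
    fun u hu h5 => mem_centralizer_singleton_iff.1 (h.D_le ye yb
      (h.two_mem (zpowers_le.2 (mul_mem hc.1 hl) hu) h5 (zpowers_le.2 h4 hu))))
  calc c * l * y * (c * l)⁻¹ = c * (l * y * l⁻¹) * c⁻¹ := by group
    _ = y * z := by rw [h1, mem_centralizer_singleton_iff.1 hc.2, mul_inv_cancel_right]

section

variable {σ τ : Q} (sL : σ ∈ L) (s1 : σ * z * σ⁻¹ = e) (s2 : σ * e * σ⁻¹ = e * z)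
  (tL : τ ∈ L) (t1 : τ * z * τ⁻¹ = b) (t2 : τ * b * τ⁻¹ = b * z)
include sL s1 s2 tL t1 t2

theorem zstar0 {y : Q} (ye : Commute y e) (yb : Commute y b) (ys : Commute σ y) (yt : Commute τ y)
    (y2 : y * y ∈ zpowers t) : y ∈ zpowers t := by
  have := h.hq.nL
  have := h.hq.sL
  have hN : (zpowers t).Normal := ⟨fun x hx g => by rw [fq_cz' (h.hq.fq_cent g) hx]; exact hx⟩
  have tL1 : ∀ x ∈ zpowers t, x ∈ L → x = 1 := fun x hx hL =>
    (Holt.mem_zpowers_sq h.hq.fq_tt hx).resolve_right fun a => h.hq.fq_tL (a ▸ hL)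
  obtain ⟨W, -, -, w3, w4, w5⟩ := Holt.zstar_sec (H := L ⊔ centralizer {y}) (N := zpowers t)
    (zpowers_le.2 (mem_sup_right (mem_centralizer_singleton_iff.2 (h.hq.fq_cent y).symm)))
    le_normalizer_of_normal (mem_sup_right (mem_centralizer_singleton_iff.2 rfl)) y2
    fun g hg h1 => by
      obtain ⟨l, hl, c, hc, rfl⟩ := mem_sup_of_normal_left.1 hg
      have e1 : l * c * y * (l * c)⁻¹ = y * (y⁻¹ * l * y⁻¹⁻¹ * l⁻¹) := by
        calc l * c * y * (l * c)⁻¹ = l * (c * y * c⁻¹) * l⁻¹ := by group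
          _ = _ := by rw [mem_centralizer_singleton_iff.1 hc]; group
      have e2 : l * y * l⁻¹ = y * (y⁻¹ * l * y⁻¹⁻¹ * l⁻¹) := by group
      have dL : y⁻¹ * l * y⁻¹⁻¹ * l⁻¹ ∈ L := mul_mem (h.hq.nL.conj_mem _ hl _) (inv_mem hl)
      rw [e1] at h1 ⊢
      generalize y⁻¹ * l * y⁻¹⁻¹ * l⁻¹ = d at h1 e2 dL
      have e3 : y * d = d * y := by
        have := tL1 _ h1 (by
          rw [show ⁅y, y * d⁆ = y * (y * d * y⁻¹ * d⁻¹) * y⁻¹ by rw [commutatorElement_def]; group]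
          exact h.hq.nL.conj_mem _ (mul_mem (h.hq.nL.conj_mem _ dL _) (inv_mem dL)) _)
        exact mul_left_cancel ((commutatorElement_eq_one_iff_mul_comm.1 this).trans (mul_assoc _ _ _))
      have d2 : d * d = 1 := by
        have a1 : y * d * (y * d) = y * y := by rw [← e2, conj_mul, fq_cz' (h.hq.fq_cent l) y2]
        have a2 : y * d * (y * d) = y * y * (d * d) := by
          rw [mul_assoc, ← mul_assoc d, ← e3]; simp only [mul_assoc]
        exact mul_eq_left.1 (a2.symm.trans a1)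
      by_cases d1 : d = 1
      · rw [d1, mul_one, mul_inv_cancel]; exact one_mem _
      exfalso
      have hS : IsSylowIn 2 (closure {e, b}) (L ⊓ centralizer {y}) :=
        h.syl.of_le (le_inf h.syl.le (h.D_le ye yb)) inf_le_left
      obtain ⟨c, hc, h3⟩ := hS.exists_conj_mem (x := d)
        ⟨dL, mem_centralizer_singleton_iff.2 e3.symm⟩ (fq_p2 d2)
      have key : ∀ k ∈ L, Commute k y → k * (c * d * c⁻¹) * k⁻¹ ≠ z := fun k hk h4 h5 =>
        h.not_yz ye yb (mul_mem (mul_mem hk hc.1) hl) (by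
          calc k * c * l * y * (k * c * l)⁻¹ = k * (c * (l * y * l⁻¹) * c⁻¹) * k⁻¹ := by group
            _ = y * z := by
              rw [e2, ← conj_mul (b := c), mem_centralizer_singleton_iff.1 hc.2,
                mul_inv_cancel_right, ← conj_mul (b := k), h4.eq, mul_inv_cancel_right, h5])
      rcases h.dg.fq_inv h3 (by rw [conj_mul, d2, mul_one, mul_inv_cancel]) with
        a | a | a | a | a | a
      · exact d1 (conj_eq_one_iff.1 a)
      · exact key 1 (one_mem _) (Commute.one_left _) (by rw [a]; group)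
      · exact key σ⁻¹ (inv_mem sL) ys.inv_left (by rw [a, ← s1]; group)
      · exact key σ sL ys (by rw [a, h.three_inv s1 s2])
      · exact key τ⁻¹ (inv_mem tL) yt.inv_left (by rw [a, ← t1]; group)
      · exact key τ tL yt (by rw [a, h.symm.three_inv t1 t2])
  have hW : (W.subgroupOf L).Normal := ⟨fun x hx g => conj_mem_of_mem_normalizer (H := W)
    (w4 ⟨le_normalizer (mem_sup_left g.2), le_normalizer_of_normal (mem_top _)⟩) hx⟩
  rcases hW.eq_bot_or_eq_top with h1 | h1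
  · rw [← h.hq.cL]
    intro l hl
    have a1 : ⁅y, l⁆ ∈ L := mul_mem (h.hq.nL.conj_mem _ hl _) (inv_mem hl)
    have a2 : (⟨_, a1⟩ : L) ∈ W.subgroupOf L := w5 l (mem_sup_left hl)
    rw [h1, mem_bot] at a2
    exact (commutatorElement_eq_one_iff_mul_comm.1 (congrArg Subtype.val a2)).symm
  · have a2 : (⟨z, h.zL⟩ : L) ∈ W.subgroupOf L := h1 ▸ mem_top _
    have a3 := pow_relIndex_mem (zpowers t) (show z ∈ W from a2)
    obtain ⟨k, hk⟩ := w3
    rw [hk, pow_succ, pow_mul, pow_two, h.dg.z2, one_pow, one_mul] at a3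
    exact absurd (tL1 z a3 h.zL) h.dg.z1

theorem zstar {y : Q} (hy : y ∈ T) (ye : Commute y e) (yb : Commute y b) (ys : Commute σ y)
    (yt : Commute τ y) : y = 1 ∨ y = t := by
  obtain ⟨k, hk⟩ := isPGroup_iff_mem.1 h.hT.pgroup y hy
  have hk' : y ^ 2 ^ k ∈ zpowers t := hk ▸ one_mem _
  refine Holt.mem_zpowers_sq h.hq.fq_tt ?_
  clear hk hy
  induction k generalizing y with
  | zero => simpa using hk'
  | succ k ih =>
    refine h.zstar0 sL s1 s2 tL t1 t2 ye yb ys yt (ih (ye.mul_left ye) (yb.mul_left yb)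
      (ys.mul_right ys) (yt.mul_right yt) ?_)
    rwa [← pow_two, ← pow_mul, ← pow_succ']

end

/-- the structure of `Y = C_T(D)` -/
theorem cases : (∀ y ∈ T, Commute y e → Commute y b → y = 1 ∨ y = t ∨ y = z ∨ y = t * z) ∨
    ∃ s ∈ T, SG t z e b s ∧
      (∃ σ : Q, Commute σ t ∧ σ * z * σ⁻¹ = e ∧ σ * e * σ⁻¹ = e * z ∧ Commute σ (s * z)) ∧
      (∃ τ : Q, Commute τ t ∧ τ * z * τ⁻¹ = b ∧ τ * b * τ⁻¹ = b * z ∧ Commute τ s) ∧
      (∀ y ∈ T, Commute y e → Commute y b →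
        ∃ w, (w = 1 ∨ w = t ∨ w = z ∨ w = t * z) ∧ (y = w ∨ y = s * w)) ∧
      ∀ ρ ∈ T, ρ * e * ρ⁻¹ = b → ρ * b * ρ⁻¹ = e →
        ρ * s * ρ⁻¹ = s * z ∨ ρ * s * ρ⁻¹ = s * z * t := by
  obtain ⟨σ, sL, s1, s2, s3⟩ := h.exists_sigma
  obtain ⟨τ, tL, t1, t2, t3⟩ := h.symm.exists_sigma
  have zs := @zstar _ _ _ _ _ _ _ _ _ h _ _ sL s1 s2 tL t1 t2
  have ze : Commute z e := h.dg.fq_ze
  have zb : Commute z b := h.dg.fq_zb
  have mz : ∀ {y w : Q}, y * z = w → y = w * z := fun a => by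
    rw [← a, mul_assoc, h.dg.z2, mul_one]
  have zz : ∀ {y : Q}, y ∈ T → Commute y e → Commute y b → Commute σ (y * z) → Commute τ (y * z) →
      y = z ∨ y = t * z := fun hy ye yb a c => by
    rcases zs (mul_mem hy h.zT) (ye.mul_left ze) (yb.mul_left zb) a c with d | d
    · exact Or.inl ((mz d).trans (one_mul z))
    · exact Or.inr (mz d)
  by_cases hs : ∃ s ∈ T, Commute s e ∧ Commute s b ∧ Commute τ s ∧ Commute σ (s * z)
  swap
  · refine Or.inl fun y hy ye yb => ?_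
    rcases t3 y hy yb ye with a | a <;> rcases s3 y hy ye yb with c | c
    · rcases zs hy ye yb c a with d | d <;> simp only [d, true_or, or_true]
    · exact absurd ⟨y, hy, ye, yb, a, c⟩ hs
    · exact absurd ⟨y * z, mul_mem hy h.zT, ye.mul_left ze, yb.mul_left zb, a,
        by rwa [mul_assoc, h.dg.z2, mul_one]⟩ hs
    · rcases zz hy ye yb c a with d | d <;> simp only [d, true_or, or_true]
  obtain ⟨s, sT, se, sb, st, ss⟩ := hs
  have sz := h.dg.fq_cz se sb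
  have nσ : ¬ Commute σ z := fun a => h.dg.fq_ez (by rw [← s1, a.eq, mul_inv_cancel_right])
  have nτ : ¬ Commute τ z := fun a => h.dg.fq_symm.fq_ez (by rw [← t1, a.eq, mul_inv_cancel_right])
  have ct : ∀ {g u : Q}, Commute g (t * u) → Commute g u := fun {g u} a => by
    have := (h.hq.fq_cent g).inv_right.mul_right a
    rwa [inv_mul_cancel_left] at this
  have n1 : s ≠ 1 := fun a => nσ (by rwa [a, one_mul] at ss)
  have n2 : s ≠ t := fun a => nσ (ct (a ▸ ss))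
  have key : ∀ y ∈ T, Commute y e → Commute y b → Commute τ y → Commute σ (y * z) →
      y = s ∨ y = s * t := fun y hy ye yb a c => by
    have yz := h.dg.fq_cz ye yb
    have e1 : s⁻¹ * y = (s * z)⁻¹ * (y * z) := by
      rw [yz.eq, mul_inv_rev, sz.inv_left.inv_right.eq.symm]; group
    rcases zs (mul_mem (inv_mem sT) hy) (se.inv_left.mul_left ye) (sb.inv_left.mul_left yb)
      (e1 ▸ ss.inv_right.mul_right c) (st.inv_right.mul_right a) with d | d
    · exact Or.inl (inv_mul_eq_one.1 d).symm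
    · exact Or.inr (inv_mul_eq_iff_eq_mul.1 d)
  refine Or.inr ⟨s, sT, ⟨h.hq.fq_cent s, se, sb, fun a => ?_, ?_⟩,
    ⟨σ, h.hq.fq_cent σ, s1, s2, ss⟩, ⟨τ, h.hq.fq_cent τ, t1, t2, st⟩, fun y hy ye yb => ?_,
    fun ρ hρ r1 r2 => ?_⟩
  · have : s = 1 ∨ s = t ∨ s = z ∨ s = t * z := by
      clear n1 n2 key sz ss st sb se sT
      have tzz : t * z * z = t := by rw [mul_assoc, h.dg.z2, mul_one]
      induction a using closure_induction_left with
      | one => exact Or.inl rfl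
      | mul_left x hx y _ ih =>
        rcases hx with hx | hx <;> rcases ih with ih | ih | ih | ih <;> rw [hx, ih] <;>
          simp only [mul_one, h.hq.fq_tt, ← mul_assoc, one_mul, h.dg.fq_tz.eq.symm, true_or, or_true,
            h.dg.z2, tzz]
      | inv_mul_cancel x hx y _ ih =>
        have ti : t⁻¹ = t := inv_eq_of_mul_eq_one_right h.hq.fq_tt
        rcases hx with hx | hx <;> rcases ih with ih | ih | ih | ih <;> rw [hx, ih] <;>
          simp only [mul_one, h.hq.fq_tt, ← mul_assoc, one_mul, h.dg.fq_tz.eq.symm, true_or, or_true,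
            h.dg.z2, ti, h.dg.fq_zi, tzz]
    rcases this with a | a | a | a
    exacts [n1 a, n2 a, nτ (a ▸ st), nτ (ct (a ▸ st))]
  · refine zs (mul_mem sT sT) (se.mul_left se) (sb.mul_left sb) ?_ (st.mul_right st)
    have := ss.mul_right ss
    rwa [mul_assoc, ← mul_assoc z, ← sz.eq, mul_assoc, h.dg.z2, mul_one] at this
  · rcases t3 y hy yb ye with a | a <;> rcases s3 y hy ye yb with c | c
    · rcases zs hy ye yb c a with d | d
      exacts [⟨1, by simp, Or.inl d⟩, ⟨t, by simp, Or.inl d⟩]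
    · rcases key y hy ye yb a c with d | d
      exacts [⟨1, by simp, Or.inr (by rw [d, mul_one])⟩, ⟨t, by simp, Or.inr d⟩]
    · rcases key (y * z) (mul_mem hy h.zT) (ye.mul_left ze) (yb.mul_left zb) a
        (by rwa [mul_assoc, h.dg.z2, mul_one]) with d | d
      exacts [⟨z, by simp, Or.inr (mz d)⟩, ⟨t * z, by simp, Or.inr (by rw [mz d, mul_assoc])⟩]
    · rcases zz hy ye yb c a with d | d
      exacts [⟨z, by simp, Or.inl d⟩, ⟨t * z, by simp, Or.inl d⟩]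
  · have cc : ∀ {u v : Q}, Commute u v → Commute (ρ * u * ρ⁻¹) (ρ * v * ρ⁻¹) := fun a => by
      rw [Commute, SemiconjBy, conj_mul, conj_mul, a.eq]
    have rz := (h.dg.fq_act (h.nD (le_normalizer hρ))).1
    have c3 : ∀ {u v : Q}, τ * u * τ⁻¹ = v →
        ρ * τ * ρ⁻¹ * (ρ * u * ρ⁻¹) * (ρ * τ * ρ⁻¹)⁻¹ = ρ * v * ρ⁻¹ := fun a => by rw [← a]; group
    have u1 := c3 t1
    have u2 := c3 t2
    rw [rz, r2] at u1
    rw [← conj_mul (a := b), rz, r2] at u2
    have sT' : ρ * s * ρ⁻¹ ∈ T := mul_mem (mul_mem hρ sT) (inv_mem hρ)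
    have se' : Commute (ρ * s * ρ⁻¹) e := r2 ▸ cc sb
    have sb' : Commute (ρ * s * ρ⁻¹) b := r1 ▸ cc se
    have a1 : Commute σ (ρ * s * ρ⁻¹) := (s3 _ sT' se' sb').resolve_right fun a =>
      h.uniq (h.hq.nL.conj_mem _ tL ρ) u1 u2 sL s1 s2 (h.dg.fq_cz se' sb') se' (cc st) a
    rcases t3 _ sT' sb' se' with a | a
    · exfalso
      rcases zs sT' se' sb' a1 a with d | d
      · exact n1 (conj_eq_one_iff.1 d)
      · exact n2 (conj_injective (d.trans (mul_inv_eq_iff_eq_mul.2 (h.hq.fq_cent ρ)).symm))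
    · rcases key _ (mul_mem sT' h.zT) (se'.mul_left ze) (sb'.mul_left zb) a
        (by rwa [mul_assoc, h.dg.z2, mul_one]) with d | d
      · exact Or.inl (mz d)
      · exact Or.inr (by rw [mz d, mul_assoc, h.dg.fq_tz.eq, mul_assoc])

/-- `T = Y D` or `T = Y D ⟨ρ⟩` -/
theorem dec : (∀ x ∈ T, ∃ d, (d = 1 ∨ d = e ∨ d = b ∨ d = e * b) ∧ Commute (d * x) e ∧
    Commute (d * x) b) ∨ ∃ ρ ∈ T, ρ * e * ρ⁻¹ = b ∧ ρ * b * ρ⁻¹ = e ∧ ∀ x ∈ T, ∃ r, (r = 1 ∨ r = ρ) ∧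
      ∃ d, (d = 1 ∨ d = e ∨ d = b ∨ d = e * b) ∧ Commute (d * (r * x)) e ∧
        Commute (d * (r * x)) b := by
  by_cases h1 : ∃ x ∈ T, (x * e * x⁻¹ = b ∨ x * e * x⁻¹ = b * z) ∧
    (x * b * x⁻¹ = e ∨ x * b * x⁻¹ = e * z)
  swap
  · refine Or.inl fun x hx => ?_
    rcases (h.dg.fq_act (h.nD (le_normalizer hx))).2 with a | a
    · exact h.dg.fq_act1 a.1 a.2
    · exact absurd ⟨x, hx, a⟩ h1
  obtain ⟨x, hx, a1, a2⟩ := h1
  obtain ⟨d, hd, r1, r2⟩ := h.dg.fq_act2 a1 a2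
  have hρ := mul_mem (h.mem.1 hd).1 hx
  refine Or.inr ⟨d * x, hρ, r1, r2, fun y hy => ?_⟩
  generalize d * x = ρ at r1 r2 hρ
  have rz := (h.dg.fq_act (h.nD (le_normalizer hρ))).1
  rcases (h.dg.fq_act (h.nD (le_normalizer hy))).2 with a | a
  · exact ⟨1, Or.inl rfl, by rw [one_mul]; exact h.dg.fq_act1 a.1 a.2⟩
  have cy : ∀ u : Q, ρ * y * u * (ρ * y)⁻¹ = ρ * (y * u * y⁻¹) * ρ⁻¹ := fun u => by group
  refine ⟨ρ, Or.inr rfl, h.dg.fq_act1 ?_ ?_⟩
  · rcases a.1 with a | a <;> rw [cy, a]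
    · exact Or.inl r2
    · exact Or.inr (by rw [← conj_mul, r2, rz])
  · rcases a.2 with a | a <;> rw [cy, a]
    · exact Or.inl r1
    · exact Or.inr (by rw [← conj_mul, r1, rz])

theorem dT {d : Q} (hd : d = 1 ∨ d = e ∨ d = b ∨ d = e * b) : d ∈ T := by
  rcases hd with hd | hd | hd | hd <;> rw [hd]
  exacts [one_mem _, h.eT, h.bT, mul_mem h.eT h.bT]

theorem Ystr : ∃ s, ∀ y ∈ T, Commute y e → Commute y b →
    ∃ w, (w = 1 ∨ w = t ∨ w = z ∨ w = t * z) ∧ (y = w ∨ y = s * w) := by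
  rcases h.cases with a | ⟨s, -, -, -, -, a, -⟩
  · exact ⟨1, fun y hy ye yb => ⟨y, a y hy ye yb, Or.inl rfl⟩⟩
  · exact ⟨s, a⟩

theorem shape : Shape T t z e b := by
  rcases h.cases with a | ⟨s, sT, sg, hσ, hτ, a, hρ⟩
  · refine Or.inl fun y hy yz ye => ?_
    have mt : t ∈ closure ({t, z, e} : Set Q) := subset_closure (by simp)
    have mz : z ∈ closure ({t, z, e} : Set Q) := subset_closure (by simp)
    have me : e ∈ closure ({t, z, e} : Set Q) := subset_closure (by simp)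
    have key : ∀ y ∈ T, Commute y e → Commute y b → y ∈ closure ({t, z, e} : Set Q) :=
      fun y hy ye yb => by
        rcases a y hy ye yb with c | c | c | c <;> rw [c]
        exacts [one_mem _, mt, mz, mul_mem mt mz]
    have y1 : y * e * y⁻¹ = e := mul_inv_eq_iff_eq_mul.2 ye
    rcases (h.dg.fq_act (h.nD (le_normalizer hy))).2 with ⟨-, c | c⟩ | ⟨c | c, -⟩
    · exact key y hy ye (mul_inv_eq_iff_eq_mul.1 c)
    · refine (mul_mem_cancel_left me).1 (key _ (mul_mem h.eT hy) ((Commute.refl e).mul_left ye)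
        (mul_inv_eq_iff_eq_mul.1 ?_))
      rw [show e * y * b * (e * y)⁻¹ = e * (y * b * y⁻¹) * e⁻¹ by group, c]
      simp only [h.dg.fq_nf]
    · exact absurd (by rw [← y1.symm.trans c]) h.dg.fq_ncomm
    · refine absurd ?_ h.dg.fq_ncomm
      rw [y1.symm.trans c, mul_assoc, h.dg.fq_zb]
  refine Or.inr ⟨s, sg, hσ, hτ, ?_⟩
  have tT := h.hq.fq_tT h.hT
  have key : ∀ K : Subgroup Q, t ∈ K → s ∈ K → e ∈ K → b ∈ K → ∀ x ∈ T,
      (∃ d, (d = 1 ∨ d = e ∨ d = b ∨ d = e * b) ∧ Commute (d * x) e ∧ Commute (d * x) b) →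
      x ∈ K := by
    rintro K k1 k2 k3 k4 x hx ⟨d, hd, c1, c2⟩
    have kz : z ∈ K := h.dg.eb ▸ mul_mem (mul_mem k3 k4) (mul_mem k3 k4)
    have kd : d ∈ K := by
      rcases hd with hd | hd | hd | hd <;> rw [hd]
      exacts [one_mem _, k3, k4, mul_mem k3 k4]
    obtain ⟨w, hw, c⟩ := a _ (mul_mem (h.dT hd) hx) c1 c2
    have kw : w ∈ K := by
      rcases hw with hw | hw | hw | hw <;> rw [hw]
      exacts [one_mem _, k1, kz, mul_mem k1 kz]
    refine (mul_mem_cancel_left kd).1 ?_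
    rcases c with c | c <;> rw [c]
    exacts [kw, mul_mem k2 kw]
  rcases h.dec with c | ⟨ρ, rT, r1, r2, c⟩
  · refine Or.inl (le_antisymm (fun x hx => key _ (subset_closure (by simp))
      (subset_closure (by simp)) (subset_closure (by simp)) (subset_closure (by simp)) x hx (c x hx))
      ((closure_le _).2 ?_))
    rintro x (rfl | rfl | rfl | rfl)
    exacts [tT, sT, h.eT, h.bT]
  · refine Or.inr ⟨ρ, ⟨h.hq.fq_cent ρ, r1, r2, hρ ρ rT r1 r2⟩, le_antisymm (fun x hx => ?_)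
      ((closure_le _).2 ?_)⟩
    · obtain ⟨r, hr, c⟩ := c x hx
      have k0 : r ∈ closure ({t, s, e, b, ρ} : Set Q) := by
        rcases hr with hr | hr <;> rw [hr]
        exacts [one_mem _, subset_closure (by simp)]
      have rT' : r ∈ T := by
        rcases hr with hr | hr <;> rw [hr]
        exacts [one_mem _, rT]
      exact (mul_mem_cancel_left k0).1 (key _ (subset_closure (by simp)) (subset_closure (by simp))
        (subset_closure (by simp)) (subset_closure (by simp)) _ (mul_mem rT' hx) c)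
    · rintro x (rfl | rfl | rfl | rfl | rfl)
      exacts [tT, sT, h.eT, h.bT, rT]

theorem card_le : Nat.card T ≤ 64 := by
  obtain ⟨s, hs⟩ := h.Ystr
  obtain ⟨ρ, rT, hρ⟩ : ∃ ρ ∈ T, ∀ x ∈ T, ∃ r, (r = 1 ∨ r = ρ) ∧
      ∃ d, (d = 1 ∨ d = e ∨ d = b ∨ d = e * b) ∧ Commute (d * (r * x)) e ∧
        Commute (d * (r * x)) b := by
    rcases h.dec with c | ⟨ρ, rT, -, -, c⟩
    · exact ⟨1, one_mem _, fun x hx => ⟨1, Or.inl rfl, by rw [one_mul]; exact c x hx⟩⟩
    · exact ⟨ρ, rT, c⟩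
  let f : Fin 2 × Fin 4 × Fin 2 × Fin 4 → Q := fun p =>
    (![1, ρ] p.1)⁻¹ * ((![1, e, b, e * b] p.2.1)⁻¹ * (![1, s] p.2.2.1 * ![1, t, z, t * z] p.2.2.2))
  have hf : (T : Set Q) ⊆ Set.range f := fun x hx => by
    obtain ⟨r, hr, d, hd, c1, c2⟩ := hρ x hx
    have rT' : r ∈ T := by
      rcases hr with hr | hr <;> rw [hr]
      exacts [one_mem _, rT]
    obtain ⟨w, hw, c⟩ := hs _ (mul_mem (h.dT hd) (mul_mem rT' hx)) c1 c2
    obtain ⟨i, hi⟩ : ∃ i, ![1, ρ] i = r := by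
      rcases hr with hr | hr
      exacts [⟨0, hr.symm⟩, ⟨1, hr.symm⟩]
    obtain ⟨j, hj⟩ : ∃ j, ![1, e, b, e * b] j = d := by
      rcases hd with hd | hd | hd | hd
      exacts [⟨0, hd.symm⟩, ⟨1, hd.symm⟩, ⟨2, hd.symm⟩, ⟨3, hd.symm⟩]
    obtain ⟨l, hl⟩ : ∃ l, ![1, t, z, t * z] l = w := by
      rcases hw with hd | hd | hd | hd
      exacts [⟨0, hd.symm⟩, ⟨1, hd.symm⟩, ⟨2, hd.symm⟩, ⟨3, hd.symm⟩]
    obtain ⟨k, hk⟩ : ∃ k, ![1, s] k * w = d * (r * x) := by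
      rcases c with c | c
      exacts [⟨0, (one_mul w).trans c.symm⟩, ⟨1, c.symm⟩]
    exact ⟨(i, j, k, l), by simp only [f, hi, hj, hl, hk]; group⟩
  calc Nat.card T ≤ Nat.card (Set.range f) := Nat.card_mono (Set.toFinite _) hf
    _ ≤ Nat.card (Fin 2 × Fin 4 × Fin 2 × Fin 4) := Finite.card_range_le f
    _ = 64 := by simp

end FqB

/-- FQ1 -/
theorem HQ.shape (h : HQ t L) (hT : IsSylowIn 2 T ⊤) :
    ∃ z e b, DG t z e b ∧ T ⊓ L = closure {e, b} ∧ Shape T t z e b := by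
  obtain ⟨z, e, b, h1⟩ := h.fq_exists hT
  exact ⟨z, e, b, h1.dg, h1.eq, h1.shape⟩

/-- FQ1 -/
theorem HQ.card_le (h : HQ t L) (hT : IsSylowIn 2 T ⊤) : Nat.card T ≤ 64 := by
  obtain ⟨z, e, b, h1⟩ := h.fq_exists hT
  exact h1.card_le

end CfsgLib.Dih8
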