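import Cfsg.Agent.Lib.Dih8.Defs
import Cfsg.Agent.Lib.TwoGrp.FusModel
import Cfsg.Agent.Lib.Symp.Order
import Cfsg.Agent.Lib.Unitary.Center

/-! PO1: which components occur (plans/DIH8.md) -/

set_option autoImplicit false

namespace CfsgLib.Dih8

open Subgroup CfsgLib.Tech Cfsg Matrix

/-- PO1: `n` is the order of `Sp₄(4)`, `U₅(2)`, `L₅(2)`, `He` or `HS` -/
theorem q_cases {E : Type} [Field E] [Fintype E] (hq : Fintype.card E % 16 = 7 ∨ Fintype.card E % 16 = 9) {n : ℕ}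
    (hn : n = 979200 ∨ n = 13685760 ∨ n = 9999360 ∨ n = 4030387200 ∨ n = 44352000)
    (h : Nat.card (ProjectiveSpecialLinearGroup (Fin 2) E) ∣ n) :
    (Fintype.card E = 9 ∧ Nat.card (ProjectiveSpecialLinearGroup (Fin 2) E) = 360) ∨
      (Fintype.card E = 7 ∧ Nat.card (ProjectiveSpecialLinearGroup (Fin 2) E) = 168) := by
  have hc := Classical.psl2_card_mul (F := E)
  generalize Fintype.card E = q at hq hc ⊢
  rw [Nat.gcd_eq_left (by omega)] at hc
  have h2 : q * (q ^ 2 - 1) ∣ 2 * n := hc ▸ Nat.mul_dvd_mul_left 2 h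
  have h3 : q < 2100 := by
    by_contra! h4
    have h5 := Nat.le_of_dvd (by omega) h2
    have h6 : 2100 ^ 2 ≤ q ^ 2 := Nat.pow_le_pow_left h4 2
    have := Nat.mul_le_mul h4 (Nat.sub_le_sub_right h6 1)
    omega
  have : q = 9 ∨ q = 7 := (by decide +kernel : ∀ n ∈ [979200, 13685760, 9999360, 4030387200, 44352000], ∀ q < 2100,
    q % 16 = 7 ∨ q % 16 = 9 → q * (q ^ 2 - 1) ∣ 2 * n → q = 9 ∨ q = 7) n (by simpa using hn) q h3 hq h2
  rcases this with rfl | rfl <;> omega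

/-- PO1 -/
theorem card_sp {E : Type} [Field E] [Fintype E] (h : Fintype.card E = 4) : Nat.card (PSp 2 E) = 979200 := by
  have := Symp.card_PSp (F := E) (m := 2) (by norm_num)
  simpa [h, Finset.prod_range_succ] using this

/-- PO1 -/
theorem card_su {E : Type} [Field E] [Fintype E] (h : Fintype.card E = 4) : Nat.card (PSU 5 E 2) = 13685760 := by
  have := Unitary.card_PSU (n := 5) (q := 2) h (by norm_num)
  simp [Finset.prod_range_succ, Nat.even_iff] at this
  omega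

/-- PO1: Sylow 2-subgroups of the components -/
theorem syl_psl {E : Type} [Field E] [Fintype E] (hq : Fintype.card E % 16 = 7 ∨ Fintype.card E % 16 = 9) :
    IsSimpleGroup (ProjectiveSpecialLinearGroup (Fin 2) E) ∧
      ∃ D : Subgroup (ProjectiveSpecialLinearGroup (Fin 2) E), IsSylowIn 2 D ⊤ ∧ Nonempty (D ≃* DihedralGroup 4) := by
  refine ⟨Classical.psl_fin_isSimpleGroup 2 le_rfl fun _ => by omega, ?_⟩
  obtain ⟨m, h1, h2⟩ : ∃ m, Fintype.card E ^ 2 - 1 = 2 ^ (2 + 2) * m ∧ ¬ 2 ∣ m := by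
    generalize Fintype.card E = q at hq
    have : q ^ 2 % 32 = 17 := by
      rw [Nat.pow_mod]
      rcases (by omega : q % 32 = 7 ∨ q % 32 = 9 ∨ q % 32 = 23 ∨ q % 32 = 25) with h | h | h | h <;> rw [h]
    exact ⟨(q ^ 2 - 1) / 16, by omega, by omega⟩
  obtain ⟨T, r, s, h⟩ := TwoGrp.psl2_isDih (Nat.odd_iff.2 (by omega)) h1 h2
  exact ⟨T, .of_sylow_top T, TwoGrp.nonempty_mulEquiv_dihedral h.ord h.ss h.conj h.notMem h.mem⟩

/-- PO1 -/
theorem syl_a7 : IsSimpleGroup (alternatingGroup (Fin 7)) ∧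
    ∃ D : Subgroup (alternatingGroup (Fin 7)), IsSylowIn 2 D ⊤ ∧ Nonempty (D ≃* DihedralGroup 4) := by
  refine ⟨alternatingGroup.isSimpleGroup (by simp), ?_⟩
  let r : alternatingGroup (Fin 7) := ⟨Equiv.swap 0 1 * Equiv.swap 1 2 * Equiv.swap 2 3 * Equiv.swap 4 5,
    Equiv.Perm.mem_alternatingGroup.2 (by decide)⟩
  let s : alternatingGroup (Fin 7) := ⟨Equiv.swap 1 3 * Equiv.swap 4 5, Equiv.Perm.mem_alternatingGroup.2 (by decide)⟩
  obtain ⟨e⟩ := TwoGrp.nonempty_sup_mulEquiv_dihedral (r := r) (s := s)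
    (orderOf_eq_prime_pow (p := 2) (n := 1) (by decide) (by decide)) (by decide) (by decide) fun ⟨i, e⟩ =>
      absurd (e ▸ (Commute.zpow_self r i).eq : s * r = r * s) (by decide)
  have hc : Nat.card ↥(zpowers r ⊔ zpowers s) = 2 ^ 3 := by rw [Nat.card_congr e.toEquiv, DihedralGroup.nat_card]; rfl
  refine ⟨_, ⟨le_top, .of_card hc, fun h => ?_⟩, ⟨e⟩⟩
  have h1 := card_mul_relIndex' (le_top (a := zpowers r ⊔ zpowers s))
  have h2 := two_mul_nat_card_alternatingGroup (α := Fin 7)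
  rw [Nat.card_perm, Nat.card_fin] at h2
  rw [hc, card_top] at h1
  rw [show Nat.factorial 7 = 5040 from rfl] at h2
  omega

end CfsgLib.Dih8
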