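import Cfsg.Agent.Lib.Dih8.PostS

/-! POH: an outer involution of `He` centralising elements of orders 5 and 7 (plans/DIH8.md):
the graph automorphism interchanging the generators `f` and `g` of the presentation. -/

set_option autoImplicit false
set_option maxRecDepth 100000

namespace CfsgLib.Dih8

open Subgroup CfsgLib.Tech Cfsg

section

open CosetEnum KInv KInv.FixN KInv.HeX He

/-- interchange the letters of `f` and `g` -/
private def swL (x : ℕ) : ℕ := if x / 2 = 5 then x + 2 else if x / 2 = 6 then x - 2 else x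

private def swI (i : ℕ) : ℕ := if i = 5 then 6 else if i = 6 then 5 else i

private theorem ev_sw {Γ : Type*} [Group Γ] (f : ℕ → Γ) : ∀ w : List ℕ, ev (fun i => f (swI i)) w = ev f (w.map swL)
  | [] => rfl
  | x :: w => by
    rw [List.map_cons, ev_cons, ev_cons, ev_sw f w]
    congr 1
    have h1 : swL x % 2 = x % 2 := by unfold swL; split_ifs <;> omega
    have h2 : swL x / 2 = swI (x / 2) := by unfold swL swI; split_ifs <;> omega
    simp only [evL, h1, h2]

private theorem sq_g : ∀ i ∈ [0, 1, 2, 3, 4, 5, 6], g (swI i) * g (swI i) = 1 := fun i hi => by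
  have h := one_of (w := [2 * swI i, 2 * swI i]) (by
    revert i; decide +kernel)
  simpa [ev_cons, ev_nil, evL_two_mul] using h

private theorem rel_g : ∀ r ∈ M0_rels, ev (fun i => g (swI i)) r = 1 := fun r hr => by
  rw [ev_sw]
  exact one_of (allL_sound (p := fun r => allL (fixesP M0_nets (r.map swL)) (chain.map Lev.p)) (by decide +kernel) r hr)

private noncomputable def swH : Spor.He →* Spor.He := PresentedGroup.toGroup (lift_rel (invOk_imOf sq_g) rel_g)

private theorem swH_g (i : ℕ) : swH (g i) = g (swI i) := by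
  have h : ∀ x, swH (g (idx x)) = g (swI (idx x)) := fun x => by rw [hg]; exact PresentedGroup.toGroup.of _
  by_cases hi : i < 7
  · interval_cases i
    exacts [h .a, h .b, h .c, h .d, h .e, h .f, h .g]
  · have h1 : g i = 1 := List.getD_eq_default _ _ (by simpa [gl] using hi)
    rw [show swI i = i by unfold swI; split_ifs <;> omega, h1, map_one]

private theorem swH_ev (w : List ℕ) : swH (ev g w) = ev g (w.map swL) := by
  rw [map_ev, ← ev_sw]; simp only [swH_g]

private theorem swH_swH (x : Spor.He) : swH (swH x) = x :=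
  DFunLike.congr_fun (PresentedGroup.ext (φ := swH.comp swH) (ψ := .id _) fun x => by
    rw [← hg, MonoidHom.comp_apply, swH_g, swH_g]
    cases x <;> rfl) x

private theorem not_inner (v : Spor.He) (h : ∀ x, swH x = v * x * v⁻¹) : False := by
  have h1 : ∀ w, φ (ev g (w.map swL)) (φ v 0) = φ v (φ (ev g w) 0) := fun w => by
    rw [← swH_ev, h, ← mul_app, inv_mul_cancel_right, mul_app]
  have h2 : φ v 0 = 899 := by
    obtain ⟨p, hp⟩ := Set.ncard_eq_one.1 (fixB_sound S (K := 12) (ws := [[4], [6], [12]]) (n := 1) (by norm_num)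
      (by decide +kernel))
    have k : ∀ q < 2058, (∀ w ∈ [[4], [6], [12]], φ (ev g w) q = q) → q = p := fun q h1 h2 =>
      hp.le (show q ∈ Fx φ 2058 _ from ⟨h1, fun _ ⟨w, hw, e⟩ => e ▸ h2 w hw⟩)
    refine (k _ (hlt v 0 (by norm_num)) fun w hw => ?_).trans (k 899 (by norm_num) fun w hw => S.fixesP_sound
      (allL_sound (p := fun w => fixesP M0_nets w 899) (by decide +kernel) w hw)).symm
    have k2 : ∀ w ∈ [[4], [6], [10]], φ (ev g (w.map swL)) (φ v 0) = φ v 0 := fun w hw => by
      rw [h1, S.fixesP_sound (allL_sound (p := fun w => fixesP M0_nets w 0) (by decide +kernel) w hw)]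
    simp only [List.mem_cons, List.not_mem_nil, or_false] at hw
    rcases hw with rfl | rfl | rfl
    exacts [k2 [4] (by simp), k2 [6] (by simp), k2 [10] (by simp)]
  have h3 := S.movesP_sound (w := [2, 4, 6, 4, 6, 12, 10, 6, 4, 2, 6, 10]) (p := 0) (q := 899) (by decide +kernel)
  have h4 := S.movesP_sound (w := [2, 4, 6, 4, 6, 12, 10, 6, 4, 2, 6, 10] ++ [12, 6, 4, 6, 4, 2].map swL) (p := 59)
    (q := 899) (by decide +kernel)
  rw [ev_append, mul_app, ← h2, h1, S.movesP_sound mov2_ok, ← mul_app] at h4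
  rw [← h2, ← mul_app] at h3
  have h5 : 59 ∈ orbS φ (gen g hs) 70 := ⟨_, hs_eq ▸ h3, h4⟩
  rw [(S.orbitB_sound sub2_ok).1] at h5
  exact absurd (show Nat.testBit _ 59 = true from h5) (by decide +kernel)

theorem exists_out_He : ∃ α : MulAut Spor.He, α * α = 1 ∧ α ∉ (MulAut.conj : Spor.He →* _).range ∧
    (∃ x, orderOf x = 5 ∧ α x = x) ∧ ∃ y, orderOf y = 7 ∧ α y = y := by
  refine ⟨{ swH with invFun := swH, left_inv := swH_swH, right_inv := swH_swH }, MulEquiv.ext swH_swH,
    fun ⟨v, hv⟩ => not_inner v fun x => (DFunLike.congr_fun hv x).symm, ⟨_, ord_x, (swH_ev xw).trans (congrArg _ (by decide))⟩,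
    ev g (powW [2, 4, 6, 8] 3), ?_, (swH_ev (powW [2, 4, 6, 8] 3)).trans (congrArg _ (by decide))⟩
  exact order_of (n := 0) (by norm_num) (by decide +kernel) (by decide +kernel) (by norm_num)

end

theorem postHe2 {G : Type*} [Group G] [Finite G] {K : Subgroup G} {t : G} (nK : K.Normal)
    (cK : centralizer (K : Set G) = ⊥) (e : Spor.IsoHe K) (ht : t ∉ K) :
    ∃ v, v ∉ K ∧ v * v = 1 ∧ 35 ∣ Nat.card (centralizer ({v} : Set G)) := by
  obtain ⟨α, h1, h2, ⟨x, ox, hx⟩, y, oy, hy⟩ := exists_out_He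
  obtain ⟨e⟩ := e
  let β : MulAut K := MulAut.congr e.symm α
  have hβ : ∀ k, β k = e.symm (α (e k)) := fun _ => rfl
  have inj : Function.Injective (MulAut.conjNormal : G →* MulAut K) := (injective_iff_map_eq_one _).2 fun g hg => by
    refine mem_bot.1 (cK ▸ mem_centralizer_iff.2 fun k hk => ?_)
    have := congrArg Subtype.val (DFunLike.congr_fun hg ⟨k, hk⟩)
    simp only [MulAut.conjNormal_apply, MulAut.one_apply] at this
    exact (mul_inv_eq_iff_eq_mul.1 this).symm
  have hI : ∀ k : K, MulAut.conjNormal k.1 = MulAut.conj k := fun k => MulEquiv.ext fun _ => Subtype.ext rfl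
  have h3 : (MulAut.conjNormal : G →* MulAut K).range = ⊤ := by
    have h4 : Inn K ≤ (MulAut.conjNormal : G →* MulAut K).range := by rintro _ ⟨k, rfl⟩; exact ⟨k, hI k⟩
    have h5 : (Inn K).index = 2 := (MultC.card_out_congr e).trans Cfsg.Agent.S2075.result
    have h6 := relIndex_mul_index h4
    have h7 : (Inn K).relIndex (MulAut.conjNormal : G →* MulAut K).range ≠ 1 := fun h => by
      obtain ⟨k, hk⟩ := relIndex_eq_one.1 h ⟨t, rfl⟩
      exact ht (inj ((hI k).trans hk) ▸ k.2)
    rw [h5] at h6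
    rw [((Nat.dvd_prime Nat.prime_two).1 (Dvd.intro _ h6)).resolve_left h7] at h6
    exact index_eq_one.1 (by omega)
  obtain ⟨v, hv⟩ := h3.ge (mem_top β)
  have h4 : ∀ a, α a = a → orderOf a ∣ Nat.card (centralizer ({v} : Set G)) := fun a ha => by
    rw [← e.symm.orderOf_eq, ← orderOf_coe]
    refine Subgroup.orderOf_dvd_natCard _ (mem_centralizer_singleton_iff.2 ?_)
    have := congrArg Subtype.val (DFunLike.congr_fun hv (e.symm a))
    rw [hβ, e.apply_symm_apply, ha, MulAut.conjNormal_apply] at this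
    exact (mul_inv_eq_iff_eq_mul.1 this).symm
  refine ⟨v, fun h => h2 ⟨e ⟨v, h⟩, MulEquiv.ext fun a => e.symm.injective ?_⟩, inj ?_,
    (show Nat.Coprime 5 7 by norm_num).mul_dvd_of_dvd_of_dvd (ox ▸ h4 x hx) (oy ▸ h4 y hy)⟩
  · have := DFunLike.congr_fun ((hI ⟨v, h⟩).symm.trans hv) (e.symm a)
    rw [hβ, e.apply_symm_apply] at this
    rw [← this]; simp
  · rw [map_mul, hv, map_one, ← map_mul, h1, map_one]

end CfsgLib.Dih8
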