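import Cfsg.Agent.Lib.Dih8.FrQ

/-! KIL: normal forms in `T₁ = ⟨t, s, e, b⟩` and `T = T₁ ⟨ρ⟩` (plans/DIH8.md) -/

set_option autoImplicit false

namespace CfsgLib.Dih8

open Subgroup CfsgLib.Tech Cfsg

variable {G : Type*} [Group G] {t z e b s ρ : G}

namespace KL

theorem ext2 {H : Subgroup G} {x : G} (hn : ∀ y ∈ H, x * y * x⁻¹ ∈ H) (h2 : x * x ∈ H) {A : Set G}
    (hA : ∀ a ∈ A, a ∈ H ∨ a = x) {u : G} (hu : u ∈ closure A) : u ∈ H ∨ ∃ a ∈ H, u = a * x := by
  have hn' : ∀ y ∈ H, x⁻¹ * y * x ∈ H := fun y hy => by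
    have := mul_mem (mul_mem (inv_mem h2) (hn y hy)) h2
    convert this using 1; group
  induction hu using closure_induction with
  | mem a ha => exact (hA a ha).imp id fun h => ⟨1, one_mem _, by rw [h, one_mul]⟩
  | one => exact .inl (one_mem _)
  | mul u v _ _ hu hv =>
    rcases hu with hu | ⟨a, ha, rfl⟩ <;> rcases hv with hv | ⟨c, hc, rfl⟩
    · exact .inl (mul_mem hu hv)
    · exact .inr ⟨u * c, mul_mem hu hc, by group⟩
    · exact .inr ⟨a * (x * v * x⁻¹), mul_mem ha (hn v hv), by group⟩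
    · left
      have := mul_mem (mul_mem ha (hn c hc)) h2
      convert this using 1; group
  | inv u _ hu =>
    rcases hu with hu | ⟨a, ha, rfl⟩
    · exact .inl (inv_mem hu)
    · exact .inr ⟨x⁻¹ * (a⁻¹ * (x * x)⁻¹) * x, hn' _ (mul_mem (inv_mem ha) (inv_mem h2)), by group⟩

theorem comm_closure {A : Set G} {x : G} (h : ∀ a ∈ A, Commute a x) {u : G} (hu : u ∈ closure A) :
    Commute u x :=
  mem_centralizer_singleton_iff.1 ((closure_le (centralizer {x})).2
    (fun a ha => mem_centralizer_singleton_iff.2 (h a ha)) hu)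

theorem conj_closure {A : Set G} {H : Subgroup G} {x : G} (h : ∀ a ∈ A, x * a * x⁻¹ ∈ H) {u : G}
    (hu : u ∈ closure A) : x * u * x⁻¹ ∈ H :=
  cj_le_iff.1 (map_le_iff_le_comap.2 ((closure_le _).2 h)) u hu

theorem inv_of_sq {x : G} (h : x * x = 1) : x⁻¹ = x := inv_eq_of_mul_eq_one_right h

theorem conj_of_comm {x y : G} (h : Commute x y) : x * y * x⁻¹ = y := by rw [h.eq, mul_inv_cancel_right]

theorem sq_mul {x y : G} (h : Commute x y) : x * y * (x * y) = x * x * (y * y) :=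
  h.symm.mul_mul_mul_comm x y

theorem comm_of_conj {x y : G} (h : x * y * x⁻¹ = y) : Commute x y := mul_inv_eq_iff_eq_mul.1 h

theorem norm [Finite G] {A : Set G} {x : G} (h : ∀ a ∈ A, x * a * x⁻¹ ∈ closure A) :
    x ∈ normalizer (closure A : Set G) :=
  mem_normalizer_of_forall fun _ hu => conj_closure h hu

/-- if `C_S(t) ≠ S`, some element of `S` normalises `C_S(t)` and moves `t` -/
theorem ext [Finite G] {S T : Subgroup G} (hS : IsPGroup 2 S) (h : S ⊓ centralizer {t} = T) (hn : ¬ S ≤ T) :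
    ∃ x ∈ S, x ∈ normalizer (T : Set G) ∧ x * t * x⁻¹ ≠ t := by
  obtain ⟨x, hx, h1, h2⟩ := exists_mem_normalizer_of_lt hS (Q := T)
    (lt_of_le_of_ne (h ▸ inf_le_left) fun e => hn e.ge)
  exact ⟨x, hx, h2, fun e => h1 (h ▸ ⟨hx, mem_centralizer_singleton_iff.2 (comm_of_conj e)⟩)⟩

theorem conj_r (h : e * e = 1) (ρ : G) : e * (ρ * e) * e⁻¹ = (ρ * e)⁻¹ * (ρ * ρ) := by
  rw [mul_inv_rev, ← congrArg (· * ρ⁻¹ * (ρ * ρ)) (inv_of_sq h).symm]; group

end KL

open KL

namespace DG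

variable (d : DG t z e b)
include d

theorem be : b * e = (e * b)⁻¹ := by rw [mul_inv_rev, inv_of_sq d.e2, inv_of_sq d.b2]

theorem be2 : b * e * (b * e) = z := by
  rw [d.be, ← mul_inv_rev, d.eb, inv_of_sq d.z2]

theorem ze : Commute z e := by
  change _ * _ = _ * _
  calc z * e = e * (b * e * (b * e)) := by rw [← d.eb]; group
    _ = _ := by rw [d.be2]

theorem zb : Commute z b := by
  change _ * _ = _ * _
  calc z * b = b * (e * b * (e * b)) := by rw [← d.be2]; group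
    _ = _ := by rw [d.eb]

theorem zD : z ∈ closure {e, b} := by
  have he : e ∈ closure {e, b} := subset_closure (by simp)
  have hb : b ∈ closure {e, b} := subset_closure (by simp)
  rw [← d.eb]
  exact mul_mem (mul_mem he hb) (mul_mem he hb)

theorem comm_z {x : G} (he : Commute x e) (hb : Commute x b) : Commute x z := by
  rw [← d.eb]
  exact (he.mul_right hb).mul_right (he.mul_right hb)

theorem tz : Commute t z := d.comm_z d.te d.tb

theorem t1 : t ≠ 1 := fun h => d.tD (h ▸ one_mem _)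

theorem tz1 : t ≠ z := fun h => d.tD (h ▸ d.zD)

theorem tz1' : t * z ≠ 1 := fun h => d.tz1 (by rw [eq_inv_of_mul_eq_one_left h, inv_of_sq d.z2])

theorem ncomm : ¬ Commute e b := fun h => d.z1 (by
  rw [← d.eb, sq_mul h, d.e2, d.b2, one_mul])

theorem beb : b * e * b⁻¹ = e * z := by
  rw [← d.be2, inv_of_sq d.b2]
  calc b * e * b = e * e * (b * e * b) * 1 := by rw [d.e2]; group
    _ = e * e * (b * e * b) * (e * e) := by rw [d.e2]
    _ = e * (e * b * (e * b)) * e * e := by group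
    _ = _ := by rw [d.eb, d.be2, mul_assoc, d.e2, mul_one]

theorem ebe : e * b * e⁻¹ = b * z := by
  rw [inv_of_sq d.e2]
  calc e * b * e = e * b * (e * b) * b := by rw [mul_assoc (e * b), mul_assoc e b b, d.b2, mul_one]
    _ = _ := by rw [d.eb, d.zb.eq]

/-- `b` is not `e` times an element commuting with `e` -/
theorem ne_b {y : G} (hy : Commute y e) : b ≠ y * e := fun h =>
  d.ncomm (h ▸ (hy.mul_left (Commute.refl e)).symm)

theorem symm : DG t z b e :=
  ⟨d.b2, d.e2, d.z2, d.z1, d.be2, d.t2, d.tb, d.te, by rw [Set.pair_comm]; exact d.tD⟩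

theorem memZ {u : G} (hu : u ∈ closure {t, z}) : u = 1 ∨ u = t ∨ u = z ∨ u = t * z := by
  have h1 : ∀ v ∈ closure ({t} : Set G), v = 1 ∨ v = t := fun v hv => by
    rcases ext2 (H := ⊥) (x := t) (fun y hy => by simpa using hy) d.t2 (fun a ha => .inr ha) hv with
      h | ⟨a, ha, rfl⟩
    · exact .inl h
    · exact .inr (by rw [mem_bot.1 ha, one_mul])
  rcases ext2 (H := closure {t}) (x := z) (fun y hy => by
      rw [conj_of_comm (comm_closure (fun a ha => ha ▸ d.tz) hy).symm]; exact hy)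
    (by rw [d.z2]; exact one_mem _)
    (fun a ha => ha.imp (fun h => subset_closure h) id) hu with h | ⟨a, ha, rfl⟩
  · rcases h1 u h with h | h <;> simp [h]
  · rcases h1 a ha with h | h <;> simp [h]

theorem sqZ {u : G} (hu : u ∈ closure {t, z}) : u * u = 1 := by
  rcases d.memZ hu with rfl | rfl | rfl | rfl
  · exact one_mul _
  · exact d.t2
  · exact d.z2
  · rw [sq_mul d.tz, d.t2, d.z2, one_mul]

end DG

theorem KL.tZ (t z : G) : t ∈ closure {t, z} := subset_closure (by simp)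
theorem KL.zZ (t z : G) : z ∈ closure {t, z} := subset_closure (by simp)
theorem KL.ZY : closure {t, z} ≤ closure {t, z, s} := closure_mono (by intro x hx; simp at hx ⊢; tauto)
theorem KL.s_Y (t z s : G) : s ∈ closure {t, z, s} := subset_closure (by simp)

namespace SG

variable (d : DG t z e b) (g : SG t z e b s)
include d g

theorem sz : Commute s z := d.comm_z g.se g.sb

omit d in
theorem symm : SG t z b e s := ⟨g.st, g.sb, g.se, g.sY, g.s2⟩

omit d in
theorem s2Z : s * s ∈ closure {t, z} := by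
  rcases g.s2 with h | h <;> rw [h]
  · exact one_mem _
  · exact tZ t z

theorem Ye {y : G} (hy : y ∈ closure {t, z, s}) : Commute y e :=
  comm_closure (by rintro a (rfl | rfl | rfl); exacts [d.te, d.ze, g.se]) hy

theorem Yb {y : G} (hy : y ∈ closure {t, z, s}) : Commute y b :=
  comm_closure (by rintro a (rfl | rfl | rfl); exacts [d.tb, d.zb, g.sb]) hy

theorem Ys {y : G} (hy : y ∈ closure {t, z, s}) : Commute y s :=
  comm_closure (by rintro a (rfl | rfl | rfl); exacts [g.st.symm, (g.sz d).symm, Commute.refl _]) hy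

theorem Yt {y : G} (hy : y ∈ closure {t, z, s}) : Commute y t :=
  comm_closure (by rintro a (rfl | rfl | rfl); exacts [Commute.refl _, d.tz.symm, g.st]) hy

theorem YT {y u : G} (hy : y ∈ closure {t, z, s}) (hu : u ∈ closure {t, s, e, b}) : Commute y u :=
  (comm_closure (by
    rintro a (rfl | rfl | rfl | rfl)
    exacts [(g.Yt d hy).symm, (g.Ys d hy).symm, (g.Ye d hy).symm, (g.Yb d hy).symm]) hu).symm

theorem Y_le : closure {t, z, s} ≤ closure {t, s, e, b} := by
  refine (closure_le _).2 ?_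
  rintro a (rfl | rfl | rfl)
  · exact subset_closure (by simp)
  · exact closure_mono (by intro x hx; simp at hx ⊢; tauto) d.zD
  · exact subset_closure (by simp)

theorem memY {y : G} (hy : y ∈ closure {t, z, s}) : y ∈ closure {t, z} ∨ ∃ a ∈ closure {t, z}, y = a * s :=
  ext2 (fun y hy => by rw [conj_of_comm (g.Ys d (ZY hy)).symm]; exact hy) g.s2Z
    (by rintro a (rfl | rfl | rfl); exacts [.inl (tZ _ _), .inl (zZ _ _), .inr rfl]) hy

theorem sqY {y : G} (hy : y ∈ closure {t, z, s}) : y ∈ closure {t, z} ∧ y * y = 1 ∨ y * y = s * s := by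
  rcases g.memY d hy with h | ⟨a, ha, rfl⟩
  · exact .inl ⟨h, d.sqZ h⟩
  · right
    rw [sq_mul (g.Ys d (ZY ha)), d.sqZ ha, one_mul]

theorem sqY' {y : G} (hy : y ∈ closure {t, z, s}) : y * y = 1 ∨ y * y = t := by
  rcases g.sqY d hy with h | h
  · exact .inl h.2
  · rw [h]; exact g.s2

/-- normal forms in `T₁` -/
theorem memT1 {u : G} (hu : u ∈ closure {t, s, e, b}) :
    ∃ y ∈ closure {t, z, s}, u = y ∨ u = y * e ∨ u = y * b ∨ u = y * (e * b) := by
  have h1 : ∀ v ∈ closure {t, z, s, e}, v ∈ closure {t, z, s} ∨ ∃ a ∈ closure {t, z, s}, v = a * e :=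
    fun v hv => ext2 (fun y hy => by rw [conj_of_comm (g.Ye d hy).symm]; exact hy)
      (by rw [d.e2]; exact one_mem _)
      (by rintro a (rfl | rfl | rfl | rfl); exacts [.inl (ZY (tZ _ _)), .inl (ZY (zZ _ _)), .inl (s_Y _ _ _),
        .inr rfl]) hv
  have m : ∀ a ∈ ({t, z, s, e} : Set G), a ∈ closure {t, z, s, e} := fun a ha => subset_closure ha
  rcases ext2 (H := closure {t, z, s, e}) (x := b) (fun y hy => conj_closure (by
      rintro a (rfl | rfl | rfl | rfl)
      · rw [conj_of_comm d.tb.symm]; exact m _ (by simp)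
      · rw [conj_of_comm d.zb.symm]; exact m _ (by simp)
      · rw [conj_of_comm g.sb.symm]; exact m _ (by simp)
      · rw [d.beb]; exact mul_mem (m _ (by simp)) (m _ (by simp))) hy)
    (by rw [d.b2]; exact one_mem _)
    (by rintro a (rfl | rfl | rfl | rfl); exacts [.inl (m _ (by simp)), .inl (m _ (by simp)),
      .inl (m _ (by simp)), .inr rfl]) hu with h | ⟨a, ha, rfl⟩
  · rcases h1 u h with h | ⟨y, hy, rfl⟩
    · exact ⟨u, h, .inl rfl⟩
    · exact ⟨y, hy, .inr (.inl rfl)⟩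
  · rcases h1 a ha with h | ⟨y, hy, rfl⟩
    · exact ⟨a, h, .inr (.inr (.inl rfl))⟩
    · exact ⟨y, hy, .inr (.inr (.inr (mul_assoc _ _ _)))⟩

/-- the centre of `T₁` -/
theorem cenT1 {u : G} (hu : u ∈ closure {t, s, e, b}) (he : Commute u e) (hb : Commute u b) :
    u ∈ closure {t, z, s} := by
  obtain ⟨y, hy, rfl | rfl | rfl | rfl⟩ := g.memT1 d hu
  · exact hy
  · exact absurd (by simpa using (g.Yb d hy).inv_left.mul_left hb) d.ncomm
  · exact absurd (by simpa using (g.Ye d hy).inv_left.mul_left he) d.symm.ncomm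
  · exact absurd (by
      simpa using (Commute.refl e).inv_left.mul_left ((g.Ye d hy).inv_left.mul_left he)) d.symm.ncomm

theorem conj_b {u : G} (hu : u ∈ closure {t, s, e, b}) : u * b * u⁻¹ = b ∨ u * b * u⁻¹ = b * z := by
  have key : ∀ y ∈ closure {t, z, s}, y * (b * z) * y⁻¹ = b * z := fun y hy =>
    conj_of_comm ((g.Yb d hy).mul_right (d.comm_z (g.Ye d hy) (g.Yb d hy)))
  obtain ⟨y, hy, rfl | rfl | rfl | rfl⟩ := g.memT1 d hu
  · exact .inl (conj_of_comm (g.Yb d hy))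
  · right
    calc _ = y * (e * b * e⁻¹) * y⁻¹ := by group
      _ = _ := by rw [d.ebe, key y hy]
  · exact .inl (conj_of_comm ((g.Yb d hy).mul_left (Commute.refl b)))
  · right
    calc _ = y * (e * b * e⁻¹) * y⁻¹ := by group
      _ = _ := by rw [d.ebe, key y hy]

theorem conj_e {u : G} (hu : u ∈ closure {t, s, e, b}) : u * e * u⁻¹ = e ∨ u * e * u⁻¹ = e * z :=
  g.symm.conj_b d.symm (by rw [Set.pair_comm b e]; exact hu)

theorem sqT1 {u : G} (hu : u ∈ closure {t, s, e, b}) : u * u ∈ closure {t, z} := by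
  have key : ∀ y ∈ closure {t, z, s}, y * y ∈ closure {t, z} := fun y hy => by
    rcases g.sqY' d hy with h | h <;> rw [h]
    exacts [one_mem _, tZ _ _]
  obtain ⟨y, hy, rfl | rfl | rfl | rfl⟩ := g.memT1 d hu
  · exact key _ hy
  · rw [sq_mul (g.Ye d hy), d.e2, mul_one]; exact key _ hy
  · rw [sq_mul (g.Yb d hy), d.b2, mul_one]; exact key _ hy
  · rw [sq_mul ((g.Ye d hy).mul_right (g.Yb d hy)), d.eb]; exact mul_mem (key _ hy) (zZ _ _)

end SG

namespace RG

variable (d : DG t z e b) (g : SG t z e b s) (r : RG t z e b s ρ)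
include d r

theorem rz : Commute ρ z := comm_of_conj <| by
  calc _ = (ρ * e * ρ⁻¹) * (ρ * b * ρ⁻¹) * ((ρ * e * ρ⁻¹) * (ρ * b * ρ⁻¹)) := by rw [← d.eb]; group
    _ = _ := by rw [r.re, r.rb, d.be2]

theorem Zr {u : G} (hu : u ∈ closure {t, z}) : Commute u ρ :=
  comm_closure (by rintro a (rfl | rfl); exacts [r.rt.symm, (r.rz d).symm]) hu

theorem rs' : ∃ w ∈ closure {t, z}, w ≠ 1 ∧ ρ * s * ρ⁻¹ = s * w := by
  rcases r.rs with h | h
  · exact ⟨z, zZ _ _, d.z1, h⟩
  · exact ⟨z * t, mul_mem (zZ _ _) (tZ _ _), by rw [← d.tz.eq]; exact d.tz1', by rw [h, mul_assoc]⟩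

theorem ncomm : ¬ Commute ρ s := fun h => by
  obtain ⟨w, -, h1, h2⟩ := r.rs' d
  rw [conj_of_comm h] at h2
  exact h1 (left_eq_mul.1 h2)

theorem conjY {y : G} (hy : y ∈ closure {t, z, s}) : ρ * y * ρ⁻¹ ∈ closure {t, z, s} := by
  refine conj_closure ?_ hy
  rintro a (rfl | rfl | rfl)
  · rw [conj_of_comm r.rt]; exact ZY (tZ _ _)
  · rw [conj_of_comm (r.rz d)]; exact ZY (zZ _ _)
  · obtain ⟨w, hw, -, h⟩ := r.rs' d
    rw [h]; exact mul_mem (s_Y _ _ _) (ZY hw)

include g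

theorem conjT1 {y : G} (hy : y ∈ closure {t, s, e, b}) : ρ * y * ρ⁻¹ ∈ closure {t, s, e, b} := by
  refine conj_closure ?_ hy
  rintro a (rfl | rfl | rfl | rfl)
  · exact g.Y_le d (r.conjY d (ZY (tZ _ _)))
  · exact g.Y_le d (r.conjY d (s_Y _ _ _))
  · rw [r.re]; exact subset_closure (by simp)
  · rw [r.rb]; exact subset_closure (by simp)

theorem cenY {y : G} (hy : y ∈ closure {t, z, s}) (h : Commute y ρ) : y ∈ closure {t, z} := by
  rcases g.memY d hy with h1 | ⟨a, ha, rfl⟩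
  · exact h1
  · exact absurd (by simpa using ((r.Zr d ha).inv_left.mul_left h).symm) (r.ncomm d)

theorem out_e {a : G} (ha : a ∈ closure {t, s, e, b}) :
    ∃ w ∈ closure {t, z}, a * ρ * e * (a * ρ)⁻¹ = w * b := by
  have : a * ρ * e * (a * ρ)⁻¹ = a * b * a⁻¹ := by rw [← r.re]; group
  rw [this]
  rcases g.conj_b d ha with h | h
  · exact ⟨1, one_mem _, by rw [h, one_mul]⟩
  · exact ⟨z, zZ _ _, by rw [h, d.zb.eq]⟩

theorem out_ne {a y : G} (ha : a ∈ closure {t, s, e, b}) (hy : y ∈ closure {t, z, s}) :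
    a * ρ * e * (a * ρ)⁻¹ ≠ y * e := fun h => by
  obtain ⟨w, hw, h1⟩ := r.out_e d g ha
  refine d.ne_b (g.Ye d (mul_mem (inv_mem (ZY hw)) hy)) ?_
  rw [mul_assoc, ← h, h1, inv_mul_cancel_left]

theorem out_Y {a y : G} (ha : a ∈ closure {t, s, e, b}) (hy : y ∈ closure {t, z, s}) :
    a * ρ * y * (a * ρ)⁻¹ = ρ * y * ρ⁻¹ := by
  calc _ = a * (ρ * y * ρ⁻¹) * a⁻¹ := by group
    _ = _ := conj_of_comm (g.YT d (r.conjY d hy) ha).symm

variable (h2 : ρ * ρ ∈ closure {t, s, e, b})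
include h2

theorem r2Z : ρ * ρ ∈ closure {t, z} := by
  refine r.cenY d g (g.cenT1 d h2 (comm_of_conj ?_) (comm_of_conj ?_)) ((Commute.refl ρ).mul_left (Commute.refl ρ))
  · calc _ = ρ * (ρ * e * ρ⁻¹) * ρ⁻¹ := by group
      _ = _ := by rw [r.re, r.rb]
  · calc _ = ρ * (ρ * b * ρ⁻¹) * ρ⁻¹ := by group
      _ = _ := by rw [r.rb, r.re]

theorem memT {u : G} (hu : u ∈ closure {t, s, e, b, ρ}) :
    u ∈ closure {t, s, e, b} ∨ ∃ a ∈ closure {t, s, e, b}, u = a * ρ :=
  ext2 (fun _ hy => r.conjT1 d g hy) h2 (by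
    rintro a (rfl | rfl | rfl | rfl | rfl)
    exacts [.inl (subset_closure (by simp)), .inl (subset_closure (by simp)), .inl (subset_closure (by simp)),
      .inl (subset_closure (by simp)), .inr rfl]) hu

theorem ZT {u v : G} (hu : u ∈ closure {t, z}) (hv : v ∈ closure {t, s, e, b, ρ}) : Commute u v := by
  rcases r.memT d g h2 hv with h | ⟨a, ha, rfl⟩
  · exact g.YT d (ZY hu) h
  · exact (g.YT d (ZY hu) ha).mul_right (r.Zr d hu)

/-- the centre of `T` -/
theorem cenT {u : G} (hu : u ∈ closure {t, s, e, b, ρ}) (he : Commute u e) (hb : Commute u b)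
    (hr : Commute u ρ) : u ∈ closure {t, z} := by
  rcases r.memT d g h2 hu with h | ⟨a, ha, rfl⟩
  · exact r.cenY d g (g.cenT1 d h he hb) hr
  · exact absurd ((conj_of_comm he).trans (one_mul e).symm) (r.out_ne d g ha (one_mem _))

theorem r_sq : ρ * e * (ρ * e) = ρ * ρ * (b * e) := by
  calc _ = (ρ * e * ρ⁻¹) * (ρ * ρ) * e := by group
    _ = _ := by rw [r.re, ← (g.Yb d (ZY (r.r2Z d g h2))).eq, mul_assoc]

theorem r_four : ρ * e * (ρ * e) * (ρ * e * (ρ * e)) = z := by
  have := ZY (s := s) (r.r2Z d g h2)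
  rw [r.r_sq d g h2, sq_mul ((g.Yb d this).mul_right (g.Ye d this)), d.sqZ (r.r2Z d g h2), one_mul, d.be2]

/-- fourth powers in `T` -/
theorem four {u : G} (hu : u ∈ closure {t, s, e, b, ρ}) : u * u * (u * u) = 1 ∨ u * u * (u * u) = z := by
  rcases r.memT d g h2 hu with h | ⟨a, ha, rfl⟩
  · exact .inl (d.sqZ (g.sqT1 d h))
  have m : ∀ a ∈ ({t, s, e, b} : Set G), a ∈ closure {t, s, e, b} := fun a ha => subset_closure ha
  have key : ∀ y ∈ closure {t, z, s}, ∀ v ∈ closure {t, s, e, b},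
      y * v * ρ * (y * v * ρ) * (y * v * ρ * (y * v * ρ)) = v * (ρ * v * ρ⁻¹) * (v * (ρ * v * ρ⁻¹)) := by
    intro y hy v hv
    have a1 : y * (ρ * y * ρ⁻¹) ∈ closure {t, z} := by
      rcases g.memY d hy with h1 | ⟨a, ha, rfl⟩
      · rw [conj_of_comm (r.Zr d h1).symm]; exact mul_mem h1 h1
      · obtain ⟨w, hw, -, h⟩ := r.rs' d
        have : a * s * (ρ * (a * s) * ρ⁻¹) = a * (s * (ρ * a * ρ⁻¹) * s⁻¹) * (s * (ρ * s * ρ⁻¹)) := by group
        rw [this, conj_of_comm (r.Zr d ha).symm, conj_of_comm (g.Ys d (ZY ha)).symm, h, ← mul_assoc s]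
        exact mul_mem (mul_mem ha ha) (mul_mem g.s2Z hw)
    have a2 := mul_mem a1 (r.r2Z d g h2)
    have a3 : y * v * ρ * (y * v * ρ) = y * (ρ * y * ρ⁻¹) * (ρ * ρ) * (v * (ρ * v * ρ⁻¹)) := by
      have b1 := (g.YT d (r.conjY d hy) hv).eq
      have b2 := (g.YT d (ZY (r.r2Z d g h2)) (mul_mem hv (r.conjT1 d g hv))).eq
      calc _ = y * (v * (ρ * y * ρ⁻¹)) * (ρ * v * ρ⁻¹) * (ρ * ρ) := by group
        _ = y * (ρ * y * ρ⁻¹) * (v * (ρ * v * ρ⁻¹) * (ρ * ρ)) := by rw [← b1]; group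
        _ = _ := by rw [← b2]; group
    rw [a3, sq_mul (g.YT d (ZY a2) (mul_mem hv (r.conjT1 d g hv))), d.sqZ a2, one_mul]
  obtain ⟨y, hy, rfl | rfl | rfl | rfl⟩ := g.memT1 d ha
  · left
    simpa using key a hy 1 (one_mem _)
  · right
    rw [key y hy e (m _ (by simp)), r.re, d.eb]
  · right
    rw [key y hy b (m _ (by simp)), r.rb, d.be2]
  · left
    rw [key y hy _ (mul_mem (m e (by simp)) (m b (by simp)))]
    have : ρ * (e * b) * ρ⁻¹ = (e * b)⁻¹ := by
      calc _ = (ρ * e * ρ⁻¹) * (ρ * b * ρ⁻¹) := by group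
        _ = _ := by rw [r.re, r.rb, d.be]
    rw [this, mul_inv_cancel, one_mul]

/-- automorphisms of `T` fix `z` -/
theorem nz {x : G} (hx : x ∈ normalizer (closure {t, s, e, b, ρ} : Set G)) : x * z * x⁻¹ = z := by
  have hr : ρ * e ∈ closure {t, s, e, b, ρ} := mul_mem (subset_closure (by simp)) (subset_closure (by simp))
  have := r.four d g h2 (conj_mem_of_mem_normalizer hx hr)
  have e1 : x * (ρ * e) * x⁻¹ * (x * (ρ * e) * x⁻¹) * (x * (ρ * e) * x⁻¹ * (x * (ρ * e) * x⁻¹)) = x * z * x⁻¹ := by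
    rw [← r.r_four d g h2]; group
  rw [e1] at this
  exact this.resolve_left fun h => d.z1 (by simpa using h)

/-- automorphisms of `T` move `t` at most to `t z` -/
theorem nt {x : G} (hx : x ∈ normalizer (closure {t, s, e, b, ρ} : Set G)) :
    x * t * x⁻¹ = t ∨ x * t * x⁻¹ = t * z := by
  have c : ∀ v ∈ closure {t, s, e, b, ρ}, Commute (x * t * x⁻¹) v := fun v hv => by
    have := (r.ZT d g h2 (tZ t z) (conj_mem_of_mem_normalizer' hx hv)).eq
    change _ * _ = _ * _
    calc _ = x * (t * (x⁻¹ * v * x)) * x⁻¹ := by group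
      _ = _ := by rw [this]; group
  rcases d.memZ (r.cenT d g h2 (conj_mem_of_mem_normalizer hx (subset_closure (by simp)))
    (c e (subset_closure (by simp))) (c b (subset_closure (by simp))) (c ρ (subset_closure (by simp)))) with
    h | h | h | h
  · exact absurd (by simpa using h) d.t1
  · exact .inl h
  · rw [← r.nz d g h2 hx] at h
    exact absurd (by simpa using h) d.tz1
  · exact .inr h

end RG

end CfsgLib.Dih8
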