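import Cfsg.Agent.Lib.Dih8.E3
import Cfsg.Agent.Lib.Dih8.E5
import Cfsg.Agent.Lib.Dih8.E4a

/-! E10: orbit clash, change of the base, shared tables (plans/DIH8.md, part II) -/

set_option autoImplicit false

namespace CfsgLib.Dih8

open Subgroup CfsgLib.Tech CfsgLib.MOrb Cfsg

universe u

variable {c : Cfg} {s s' : St} {a : Aux}

theorem AuxS.k6 {x k : ℕ} {w : List ℕ} (h : AuxS.{u} c s x a) (e : k6B c s a k w = true) : Sound.{u} c s x := by
  intro G _ _ F φ v hy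
  have h := h G F φ v hy
  simp only [k6B, an_iff, Nat.ble_eq, allL_iff] at e
  obtain ⟨k1, k3, e1, e2⟩ := e
  have hk : k = 1 ∨ k = 2 ∨ k = 3 := by omega
  obtain ⟨g, -, hg⟩ := h.apk v w
  have h32 := h.ex_32 v
  have c : ∀ x ∈ xg k, ∃ y < a.n, g * φ x * g⁻¹ = φ y ∧ tb (xm k) y = true := fun x hx =>
    hg x ((ex_xg hk x hx).1.trans_le h32) _ (e1 x hx)
  have hn : g ∈ normalizer (F.X k : Set G) := ex_norm fun x hx => by
    obtain ⟨y, -, h1, h2⟩ := c x hx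
    rw [← v.base x (ex_xg hk x hx).1, h1, v.base y (ex_xm_lt h2)]
    exact (F.toFr.ex_memX hk).2 ⟨y, h2, rfl⟩
  obtain ⟨y, hy1, h1, h2⟩ := c 1 (by rcases hk with rfl | rfl | rfl <;> simp [xg])
  obtain ⟨y', hy2, h3, h4⟩ := hg 1 (by omega) _ e2
  obtain rfl : y = y' := h.ex_inj v hy1 hy2 (h1.symm.trans h3)
  have h5 := ex_xm_lt h2
  refine absurd ?_ (ex_not.1 h4)
  rw [tb_eq]
  exact (F.orb k hk y).1 ⟨h5, g, hn, by rw [← v.ex_one, h1, v.base y h5]⟩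

theorem AuxS.jump2 {x χ : ℕ} {ws : List (List ℕ)} {w0 : List ℕ} (h : AuxS.{u} c s x a)
    (e : jmp2B s a s' χ ws w0 = true) (hw : wfB s'.lv = true) (h' : Sound.{u} c s' 0) : Sound.{u} c s x := by
  intro G _ _ F φ v hy
  have h := h G F φ v hy
  have hw := wfB_sound hw
  simp only [jmp2B, relB, an_iff, orr_iff, ne_iff, lt_iff, allN_iff, all2_iff, frc_eq, Nat.beq_eq, Nat.ble_eq,
    len_eq, nth_eq, Nat.pow_eq] at e
  obtain ⟨h1, h2, h3, h4, h5, h6⟩ := e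
  have hC := consB_sound (hw.le.trans (by norm_num)) h1
  have R := v.rep
  have R' : Rep s'.lv fun x => φ (lk χ x) := by
    refine R.comp hw hC (fun j hj => ?_) fun x hx e => (h3 x hx).resolve_right fun e' => e' e
    have k1 : j < 12 := (Nat.pow_lt_pow_iff_right one_lt_two).1 (hj.trans_le (hw.le.trans (by norm_num)))
    obtain ⟨k2, k3⟩ := (h2 j k1).resolve_left (not_le.2 hj)
    beta_reduce
    refine ⟨by rw [← k2, R.map _ (hC.2.1 _ hj) _ (hC.2.1 _ hj)], fun i hi => ?_⟩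
    rw [← k3 i hi, R.map _ (hC.2.1 _ hj) _ (hC.2.1 _ ((Nat.pow_lt_pow_right one_lt_two hi).trans hj))]
  obtain ⟨g₀, -, hg₀⟩ := h.apk v w0
  refine h' G F (fun x => g₀⁻¹ * φ (lk χ x) * g₀) ⟨⟨hw, fun x hx y hy => ?_, fun x hx y hy e => ?_⟩,
    fun x hx => ?_, fun m hm => ?_, fun e => absurd h6 e⟩ trivial
  · have := R'.map x hx y hy
    beta_reduce at this
    rw [this]; group
  · exact R'.inj x hx y hy (mul_left_cancel (mul_right_cancel e))
  · obtain ⟨y, -, k1, k2⟩ := hg₀ x (hx.trans_le (h.ex_32 v)) _ (h4 x hx)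
    rw [Nat.eq_of_beq_eq_true k2, ← k1, ← v.base x hx]; group
  · obtain ⟨j, hj, rfl⟩ := List.getElem_of_mem hm
    have k1 := h5 j hj
    rw [List.getD_eq_getElem _ _ hj] at k1
    obtain ⟨g, -, hg⟩ := h.apk v (ws.getD j [])
    refine ⟨g₀⁻¹ * g * g₀, k1.imp fun x y k2 => ?_⟩
    obtain ⟨y', -, k3, k4⟩ := hg _ (h.n ▸ hC.2.1 x k2.1) _ k2.2
    beta_reduce
    rw [Nat.eq_of_beq_eq_true k4, ← k3]; group

theorem aux_base2 {l : Lv} {mt kt : List ℕ} {kx : ℕ} {ms : List (ℕ × Bool)} {ws : List (List (List ℕ))}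
    (h : towB l a = true) (hl : s.lv = l) (e : stB c s (a.setM mt kx kt) ms ws = true) :
    AuxS.{u} c s 0 (a.setM mt kx kt) := by
  subst hl
  refine aux_base (ms := ms) (ws := ws) ?_
  have h' : towB s.lv (a.setM mt kx kt) = true := h
  simp only [auxB, towB, stB, an_iff] at h' e ⊢
  exact ⟨h'.1, h'.2.1, h'.2.2.1, h'.2.2.2.1, h'.2.2.2.2.1, h'.2.2.2.2.2, e⟩

end CfsgLib.Dih8
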