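import Cfsg.Agent.Lib.Dih8.Box
import Cfsg.Agent.Lib.TL2.Basic

/-! ORB: the conjugates of `t` in `T` (plans/DIH8.md) -/

set_option autoImplicit false
set_option linter.unusedSectionVars false

namespace CfsgLib.Dih8

open Subgroup CfsgLib.Tech CfsgLib.MOrb Cfsg

variable {G : Type*} [Group G] [Finite G] {md : ℕ}

/-- the orbit of `x` under the normaliser of `X h` -/
def Fr.orb (F : Fr G md) (h : ℕ) (x : G) : Set G := {y | ∃ n ∈ normalizer (F.X h : Set G), n * x * n⁻¹ = y}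

/-- tables: conjugating element, its effect, the representative of the class -/
def orbTab : ℕ → ℕ × ℕ × ℕ
  | 0 => (0x8008000000008008010010000000000000010010000000000000000000000000,
      0x1701601701601301201301200d00c00d00c00b00a00b00a007006005004003002001000,
      0x7006007006003002003002005004005004003002003002007006005004003002001000)
  | 1 => (0xc00c008008000000000000000000000000000000000000000000000000000000000000004004000000000000000000000000000000020020030030000000008008010010000000000000010010020020000000000000000000,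
      0x2102002102000000000000000000000000000000000000000000000000000000000000002102002102000000000000000000000000000d00c00d00c01301201301200d00c00d00c00b00a00b00a005004005004003002001000,
      0x21020021020000000000000000000000000000000000000000000000000000000000000021020021020000000000000000000000000005004005004003002003002005004005004003002003002005004005004003002001000)
  | _ => (0x20020030030000000008008010010000000000000010010020020000000000000000000,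
      0xd00c00d00c01301201301200d00c00d00c00b00a00b00a005004005004003002001000,
      0x5004005004003002003002005004005004003002003002005004005004003002001000)

set_option synthInstance.maxSize 2048 in
set_option synthInstance.maxHeartbeats 200000 in
theorem orbTab_ok : ∀ md ≤ 2, ∀ a < sz (lvT md), mul (lvT md) a a = 0 →
    (lk (orbTab md).1 a < sz (lvT md) ∧ lk (orbTab md).2.1 a < sz (lvT md) ∧
      mul (lvT md) (lk (orbTab md).1 a) a = mul (lvT md) (lk (orbTab md).2.1 a) (lk (orbTab md).1 a) ∧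
      (lk (orbTab md).2.2 a = lk (orbTab md).2.1 a ∨
        (lk (orbTab md).2.1 a < 16 ∧ lk (orbTab md).2.2 a = lk sgT (lk (orbTab md).2.1 a)) ∨
        (lk (orbTab md).2.1 a < 32 ∧ lk taT (lk (orbTab md).2.1 a) < 32 ∧
          lk (orbTab md).2.2 a = lk taT (lk (orbTab md).2.1 a)))) ∧
    ∀ b < sz (lvT md), kcl md a = kcl md b →
      mul (lvT md) b b = 0 ∧ lk (orbTab md).2.2 a = lk (orbTab md).2.2 b := by decide +kernel

theorem orb_sz (md : ℕ) : 32 ≤ sz (lvT md) := match md with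
  | 0 => le_rfl
  | 1 => by decide
  | _ + 2 => show 32 ≤ 2 * 32 by decide

omit [Finite G] in
theorem Fr.orb_cj (F : Fr G md) {x a b : ℕ} (hx : x < sz (lvT md)) (ha : a < sz (lvT md)) (hb : b < sz (lvT md))
    (h : mul (lvT md) x a = mul (lvT md) b x) : F.j x * F.j a * (F.j x)⁻¹ = F.j b := by
  rw [← F.rep.map x hx a ha, h, F.rep.map b hb x hx, mul_inv_cancel_right]

omit [Finite G] in
theorem Fr.orb_m5 (F : Fr G md) {x y : ℕ} (hx : x < 32) (hy : y < 32) : F.j x * F.j y = F.j (m5 x y) :=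
  (F.rep.base.map x hx y hy).symm.trans (by rw [mul_nil])

omit [Finite G] in
theorem Fr.orb_cj5 (F : Fr G md) {x a b : ℕ} (hx : x < 32) (ha : a < 32) (hb : b < 32) (h : m5 x a = m5 b x) :
    F.j x * F.j a * (F.j x)⁻¹ = F.j b := by rw [F.orb_m5 hx ha, h, ← F.orb_m5 hb hx, mul_inv_cancel_right]

omit [Finite G] in
theorem Fr.orb_comm (F : Fr G md) {x y : ℕ} (hx : x < sz (lvT md)) (hy : y < sz (lvT md)) :
    Commute (F.j x) (F.j y) ↔ mul (lvT md) x y = mul (lvT md) y x := by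
  rw [commute_iff_eq, ← F.rep.map x hx y hy, ← F.rep.map y hy x hx]
  exact ⟨F.rep.inj _ (F.rep.wf.lt hx hy) _ (F.rep.wf.lt hy hx), fun h => by rw [h]⟩

omit [Finite G] in
theorem Fr.orb_sq (F : Fr G md) {x : ℕ} (hx : x < sz (lvT md)) : F.j x * F.j x = 1 ↔ mul (lvT md) x x = 0 := by
  rw [← F.rep.map x hx x hx, F.rep.eq_one (F.rep.wf.lt hx hx)]

/-- involutions of `T` with the same label are conjugate -/
theorem Fr.conj_of_kcl (F : Fr G md) (h : md ≤ 2) {a b : ℕ} (ha : a < sz (lvT md)) (hb : b < sz (lvT md))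
    (h2 : mul (lvT md) a a = 0) (hk : kcl md a = kcl md b) : IsConj (F.j a) (F.j b) := by
  have key : ∀ a < sz (lvT md), mul (lvT md) a a = 0 → IsConj (F.j a) (F.j (lk (orbTab md).2.2 a)) := fun a ha h2 => by
    obtain ⟨⟨h1, h3, h4, h5⟩, -⟩ := orbTab_ok md h a ha h2
    refine (isConj_iff.2 ⟨_, F.orb_cj h1 ha h3 h4⟩).trans ?_
    rcases h5 with e | ⟨h6, e⟩ | ⟨h6, h7, e⟩ <;> rw [e]
    exacts [isConj_iff.2 ⟨_, F.hσ _ h6⟩, isConj_iff.2 ⟨_, F.hτ _ h6 h7⟩]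
  obtain ⟨h3, h4⟩ := (orbTab_ok md h a ha h2).2 b hb hk
  exact (key a ha h2).trans (h4 ▸ (key b hb h3).symm)

theorem Fr.D_sq (F : Fr G md) {a : ℕ} (ha : a < sz (lvT md)) (hd : F.D (F.j a)) : mul (lvT md) a a = 0 ∧ a ≠ 0 := by
  refine ⟨(F.orb_sq ha).1 (TL2.sq_of_isConj hd F.tt), ?_⟩
  rintro rfl
  rw [D, F.rep.one, isConj_one_left, F.rep.eq_one (lt_of_lt_of_le (by decide) (orb_sz md))] at hd
  exact one_ne_zero hd

theorem Fr.not_D_z (F : Fr G md) (h : md ≤ 2) : ¬ F.D (F.j 2) := by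
  intro hd
  have hs := orb_sz md
  have k1 : ∀ md ≤ 2, ∀ x < sz (lvT md), mul (lvT md) x 2 = mul (lvT md) 2 x := by decide +kernel
  have k2 : ∀ md ≤ 2, ∀ x < sz (lvT md), ∀ y < sz (lvT md), mul (lvT md) x y ≠ mul (lvT md) 1 (mul (lvT md) y x) := by
    decide +kernel
  obtain ⟨g, e, hg⟩ := F.emb hd F.rep.isPGroup fun r hr => by
    obtain ⟨x, hx, rfl⟩ := F.rep.mem_img.1 hr
    exact (F.orb_comm hx (by omega)).2 (k1 md h x hx)
  obtain ⟨x, hx, e1⟩ := hg (F.j 16) (F.rep.mem_img.2 ⟨16, by omega, rfl⟩)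
  obtain ⟨y, hy, e2⟩ := hg (F.j 8) (F.rep.mem_img.2 ⟨8, by omega, rfl⟩)
  have := F.rep.wf.lt hy hx
  refine k2 md h x hx y hy (F.rep.inj _ (F.rep.wf.lt hx hy) _ (F.rep.wf.lt (by omega) this) ?_)
  rw [F.rep.map _ hx _ hy, F.rep.map _ (by omega) _ this, F.rep.map _ hy _ hx, ← e, ← e1, ← e2, conj_mul, conj_mul,
    conj_mul, F.orb_m5 (by decide) (by decide), F.orb_m5 (by decide) (by decide), F.orb_m5 (by decide) (by decide)]
  rfl

theorem orb_norm {g : G} {s : Set G} (h : ∀ x ∈ s, g * x * g⁻¹ ∈ closure s) : g ∈ normalizer (closure s : Set G) :=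
  mem_normalizer_of_cj_le (by
    rw [cj, MonoidHom.map_closure, closure_le]
    rintro _ ⟨x, hx, rfl⟩
    exact h x hx)

omit [Finite G] in
theorem Fr.orb_w (F : Fr G md) {s : List ℕ} (hs : ∀ x ∈ s, x < sz (lvT md)) (w : List ℕ) (hw : ∀ x ∈ w, x ∈ s) :
    w.foldr (mul (lvT md)) 0 < sz (lvT md) ∧ F.j (w.foldr (mul (lvT md)) 0) ∈ gp F.j s := by
  induction w with
  | nil => exact ⟨lt_of_lt_of_le (show 0 < 32 by decide) (orb_sz md), by rw [List.foldr_nil, F.rep.one]; exact one_mem _⟩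
  | cons a w ih =>
    have h1 := hw a List.mem_cons_self
    obtain ⟨h2, h3⟩ := ih fun x hx => hw x (List.mem_cons_of_mem _ hx)
    exact ⟨F.rep.wf.lt (hs a h1) h2, by
      rw [List.foldr_cons, F.rep.map _ (hs a h1) _ h2]; exact mul_mem (subset_closure ⟨a, h1, rfl⟩) h3⟩

/-- `x` normalises `⟨s⟩`, certified by the words `W` -/
def OrbN (md x : ℕ) (s : List ℕ) (W : List (List ℕ)) : Prop :=
  x < sz (lvT md) ∧ (∀ a ∈ s, a < sz (lvT md)) ∧
    ∀ a ∈ s, ∃ w ∈ W, (∀ y ∈ w, y ∈ s) ∧ mul (lvT md) x a = mul (lvT md) (w.foldr (mul (lvT md)) 0) x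

noncomputable instance (md x : ℕ) (s : List ℕ) (W : List (List ℕ)) : Decidable (OrbN md x s W) := by
  unfold OrbN; infer_instance

theorem Fr.orb_n (F : Fr G md) {x : ℕ} {s : List ℕ} {W : List (List ℕ)} (h : OrbN md x s W) :
    F.j x ∈ normalizer (gp F.j s : Set G) := orb_norm (by
  rintro _ ⟨a, ha, rfl⟩
  obtain ⟨w, -, h1, h2⟩ := h.2.2 a ha
  rw [F.orb_cj h.1 (h.2.1 a ha) (F.orb_w h.2.1 w h1).1 h2]
  exact (F.orb_w h.2.1 w h1).2)

theorem Fr.orb_sr' (F : Fr G md) {a b c d : ℕ} (W : List (List ℕ)) (h1 : OrbN md b [a] W) (h2 : OrbN md c [a, b] W)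
    (h3 : OrbN md d [a, b, c] W) (h4 : ∀ i < (lvT md).length + 5, ∃ w ∈ W, (∀ y ∈ w, y ∈ [a, b, c, d]) ∧
      w.foldr (mul (lvT md)) 0 = 2 ^ i) : SectionalPRankLE 2 4 (img (lvT md) F.j) := by
  have e1 : gp F.j [a] = closure {F.j a} := by rw [gp]; congr 1; ext; simp [eq_comm]
  have e2 : gp F.j [a, b] = closure {F.j a, F.j b} := by rw [gp]; congr 1; ext; simp [eq_comm]
  have e3 : gp F.j [a, b, c] = closure {F.j a, F.j b, F.j c} := by rw [gp]; congr 1; ext; simp [eq_comm]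
  have e4 : gp F.j [a, b, c, d] = closure {F.j a, F.j b, F.j c, F.j d} := by rw [gp]; congr 1; ext; simp [eq_comm]
  have k1 := F.orb_n h1
  have k2 := F.orb_n h2
  have k3 := F.orb_n h3
  have k4 : img (lvT md) F.j ≤ gp F.j [a, b, c, d] := by
    rw [← F.rep.gp_pow, gp, closure_le]
    rintro _ ⟨x, hx, rfl⟩
    obtain ⟨i, hi, rfl⟩ := List.mem_map.1 hx
    obtain ⟨w, -, h5, h6⟩ := h4 i (List.mem_range.1 hi)
    rw [← h6]
    refine (F.orb_w (fun x hx => ?_) w h5).2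
    rcases List.mem_append.1 (show x ∈ [a, b, c] ++ [d] from hx) with hx | hx
    exacts [h3.2.1 x hx, List.mem_singleton.1 hx ▸ h3.1]
  rw [e1] at k1
  rw [e2] at k2
  rw [e3] at k3
  rw [e4] at k4
  exact sr_cyc4 k1 k2 k3 k4

theorem Fr.orb_sr (F : Fr G md) (h : md ≤ 2) : SectionalPRankLE 2 4 (img (lvT md) F.j) := by
  interval_cases md
  · exact F.orb_sr' (a := 1) (b := 4) (c := 24) (d := 8) [[1], [4], [24], [8], [24, 24], [24, 24, 24], [8, 24]]
      (by decide +kernel) (by decide +kernel) (by decide +kernel) (by decide +kernel)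
  all_goals
    exact F.orb_sr' (a := 40) (b := 1) (c := 4) (d := 8) [[40], [1], [4], [8], [40, 40, 40, 40], [40, 40, 40, 40, 40],
      [40, 40, 40, 40, 40, 40, 40], [1, 40, 40, 40, 40, 40, 40, 40], [8, 40], [8, 40, 40], [1, 8, 40, 40]]
      (by decide +kernel) (by decide +kernel) (by decide +kernel) (by decide +kernel)

/-- `T` is not a Sylow 2-subgroup of `G` -/
theorem Fr.exists_nT (F : Fr G md) (h : md ≤ 2) :
    ∃ n ∈ normalizer (img (lvT md) F.j : Set G), n * F.j 1 * n⁻¹ ≠ F.j 1 := by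
  by_contra hn
  push Not at hn
  have hS : IsSylowIn 2 (img (lvT md) F.j) ⊤ := isSylowIn_of_isSylowIn_normalizer le_top
    (F.syl.of_le (le_inf le_top le_normalizer) fun n h =>
      mem_centralizer_singleton_iff.2 (mul_inv_eq_iff_eq_mul.1 (hn n h.2)))
  exact F.rk (sr_of_le (F.sylK hS) inf_le_left (F.orb_sr h))

theorem Fr.orb_card_le (F : Fr G md) {E : Subgroup G} {S : Finset ℕ} (h : ∀ g ∈ E, ∃ a ∈ S, F.j a = g) :
    Nat.card E ≤ S.card := by
  classical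
  rw [← SetLike.coe_sort_coe, Nat.card_coe_set_eq]
  refine (Set.ncard_le_ncard (t := (S.image F.j : Set G)) (fun g hg => by simpa using h g hg)).trans ?_
  rw [Set.ncard_coe_finset]
  exact Finset.card_image_le

theorem Fr.orb_card_eq (F : Fr G md) {E : Subgroup G} {S : Finset ℕ} (hS : ∀ a ∈ S, a < 32)
    (h : ∀ g, g ∈ E ↔ ∃ a ∈ S, F.j a = g) : Nat.card E = S.card := by
  classical
  have hs := orb_sz md
  rw [← SetLike.coe_sort_coe, Nat.card_coe_set_eq, show (E : Set G) = (S.image F.j : Set G) from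
    Set.ext fun g => by simpa using h g, Set.ncard_coe_finset]
  exact Finset.card_image_of_injOn fun a ha b hb => F.rep.inj a ((hS a ha).trans_le hs) b ((hS b hb).trans_le hs)

theorem Fr.orb_cardX (F : Fr G md) {h : ℕ} (hh : h = 1 ∨ h = 2) : Nat.card (F.X h) = 16 := by
  rcases hh with rfl | rfl
  · exact F.orb_card_eq (S := Finset.range 16) (fun a ha => (Finset.mem_range.1 ha).trans (by decide))
      fun g => by simp [F.mem_X1]
  · exact (F.orb_card_eq (S := (Finset.range 32).filter fun a => lk taT a < 32)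
      (fun a ha => Finset.mem_range.1 (Finset.mem_filter.1 ha).1) fun g => by simp [F.mem_X2, and_assoc]).trans
        (by decide +kernel)

theorem Fr.orb_el (F : Fr G md) {h : ℕ} (hh : h = 1 ∨ h = 2) {x : G} (hx : x ∈ F.X h) : x * x = 1 := by
  have k : ∀ a < 32, a < 16 ∨ lk taT a < 32 → m5 a a = 0 := by decide +kernel
  rcases hh with rfl | rfl
  · obtain ⟨a, ha, rfl⟩ := F.mem_X1.1 hx
    rw [F.orb_m5 (by omega) (by omega), k a (by omega) (Or.inl ha), F.rep.one]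
  · obtain ⟨a, ha, h1, rfl⟩ := F.mem_X2.1 hx
    rw [F.orb_m5 ha ha, k a ha (Or.inr h1), F.rep.one]

set_option synthInstance.maxSize 2048 in
/-- `A` and `B` are the only elementary abelian subgroups of order 16 of `T` -/
theorem Fr.orb_e16 (F : Fr G md) (hm : md ≤ 2) {E : Subgroup G} (hE : ∀ g ∈ E, ∃ a < sz (lvT md), F.j a = g)
    (el : ∀ g ∈ E, g * g = 1) (hc : Nat.card E = 16) : E = F.X 1 ∨ E = F.X 2 := by
  have k1 : ∀ md ≤ 2, ∀ v < sz (lvT md), 32 ≤ v → mul (lvT md) v v = 0 → ((Finset.range (sz (lvT md))).filter fun x =>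
      mul (lvT md) x x = 0 ∧ mul (lvT md) x v = mul (lvT md) v x).card ≤ 8 := by decide +kernel
  have k2 : ∀ v < 32, 16 ≤ v → m5 v v = 0 → ∀ x < 32, m5 x x = 0 → m5 x v = m5 v x → lk taT x < 32 := by decide +kernel
  have hs := orb_sz md
  have h1 : ∀ g ∈ E, ∃ a < 32, F.j a = g := fun g hg => by
    obtain ⟨v, hv, rfl⟩ := hE g hg
    refine ⟨v, lt_of_not_ge fun h => ?_, rfl⟩
    have := (F.orb_card_le (E := E) fun x hx => by
      obtain ⟨a, ha, rfl⟩ := hE x hx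
      exact ⟨a, Finset.mem_filter.2 ⟨Finset.mem_range.2 ha, (F.orb_sq ha).1 (el _ hx),
        (F.orb_comm ha hv).1 (Sect.comm_of_sq el hx hg)⟩, rfl⟩).trans (k1 md hm v hv h ((F.orb_sq hv).1 (el _ hg)))
    omega
  by_cases h2 : E ≤ F.X 1
  · exact Or.inl (eq_of_le_of_card_ge h2 (by rw [hc, F.orb_cardX (Or.inl rfl)]))
  obtain ⟨g, hg, h3⟩ := SetLike.not_le_iff_exists.1 h2
  obtain ⟨v, hv, rfl⟩ := h1 g hg
  refine Or.inr (eq_of_le_of_card_ge (fun x hx => ?_) (by rw [hc, F.orb_cardX (Or.inr rfl)]))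
  obtain ⟨a, ha, rfl⟩ := h1 x hx
  refine F.mem_X2.2 ⟨a, ha, k2 v hv (le_of_not_gt fun h => h3 (F.mem_X1.2 ⟨v, h, rfl⟩)) ?_ a ha ?_ ?_, rfl⟩
  · rw [← F.rep.wf.mul32 hv hv]; exact (F.orb_sq (by omega)).1 (el _ hg)
  · rw [← F.rep.wf.mul32 ha ha]; exact (F.orb_sq (by omega)).1 (el _ hx)
  · rw [← F.rep.wf.mul32 ha hv, ← F.rep.wf.mul32 hv ha]
    exact (F.orb_comm (by omega) (by omega)).1 (Sect.comm_of_sq el hx hg)

theorem Fr.orb_cjX (F : Fr G md) (hm : md ≤ 2) {h : ℕ} (hh : h = 1 ∨ h = 2) {g : G}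
    (hg : ∀ r ∈ F.X h, ∃ a < sz (lvT md), g * r * g⁻¹ = F.j a) : cj g (F.X h) = F.X 1 ∨ cj g (F.X h) = F.X 2 := by
  refine F.orb_e16 hm ?_ ?_ (by rw [card_cj, F.orb_cardX hh]) <;> rintro _ ⟨x, hx, rfl⟩
  · obtain ⟨a, ha, e⟩ := hg x hx
    exact ⟨a, ha, e.symm⟩
  · rw [← map_mul, F.orb_el hh hx, map_one]

set_option synthInstance.maxSize 2048 in
theorem Fr.orb_rho (F : Fr G md) (hm : md ≤ 2) (h0 : md ≠ 0) :
    Commute (F.j 32) (F.j 1) ∧ cj (F.j 32) (F.X 1) = F.X 2 ∧ cj (F.j 32) (F.X 2) = F.X 1 := by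
  have k : ∀ md ≤ 2, md ≠ 0 → 32 < sz (lvT md) ∧ ∀ a < 32, lk rhoT a < 32 ∧ (a < 16 ↔ lk taT (lk rhoT a) < 32) ∧
      (lk taT a < 32 ↔ lk rhoT a < 16) ∧ mul (lvT md) 32 a = mul (lvT md) (lk rhoT a) 32 := by decide +kernel
  obtain ⟨h1, h2⟩ := k md hm h0
  have c : ∀ a < 32, F.j 32 * F.j a * (F.j 32)⁻¹ = F.j (lk rhoT a) := fun a ha =>
    F.orb_cj h1 (by omega) ((h2 a ha).1.trans h1) (h2 a ha).2.2.2
  refine ⟨mul_inv_eq_iff_eq_mul.1 (c 1 (by decide)), eq_of_le_of_card_ge (cj_le_iff.2 fun x hx => ?_) ?_,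
    eq_of_le_of_card_ge (cj_le_iff.2 fun x hx => ?_) ?_⟩
  · obtain ⟨a, ha, rfl⟩ := F.mem_X1.1 hx
    exact F.mem_X2.2 ⟨_, (h2 a (by omega)).1, (h2 a (by omega)).2.1.1 ha, (c a (by omega)).symm⟩
  · rw [card_cj, F.orb_cardX (Or.inl rfl), F.orb_cardX (Or.inr rfl)]
  · obtain ⟨a, ha, h3, rfl⟩ := F.mem_X2.1 hx
    exact F.mem_X1.2 ⟨_, (h2 a ha).2.2.1.1 h3, (c a ha).symm⟩
  · rw [card_cj, F.orb_cardX (Or.inl rfl), F.orb_cardX (Or.inr rfl)]

theorem Fr.orb_conjX (F : Fr G md) (hm : md ≤ 2) {h : ℕ} (hh : h = 1 ∨ h = 2) {d : G} (hx : d ∈ F.X h) (hd : F.D d) :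
    ∃ g : G, g * d * g⁻¹ = F.j 1 ∧ ∃ h', (h' = h ∨ (md = 0 ∧ h' = 3 - h)) ∧ cj g (F.X h) = F.X h' := by
  obtain ⟨g, e, hg⟩ := F.emb hd (Gold.isPGroup_of_elem fun _ => F.orb_el hh)
    fun r hr => Sect.comm_of_sq (fun _ => F.orb_el hh) hr hx
  have h1 := F.orb_cjX hm hh hg
  by_cases h0 : md = 0
  · rcases hh with rfl | rfl <;> rcases h1 with h1 | h1
    exacts [⟨g, e, 1, Or.inl rfl, h1⟩, ⟨g, e, 2, Or.inr ⟨h0, rfl⟩, h1⟩, ⟨g, e, 1, Or.inr ⟨h0, rfl⟩, h1⟩,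
      ⟨g, e, 2, Or.inl rfl, h1⟩]
  obtain ⟨r1, r2, r3⟩ := F.orb_rho hm h0
  have e' : F.j 32 * g * d * (F.j 32 * g)⁻¹ = F.j 1 := by
    rw [show F.j 32 * g * d * (F.j 32 * g)⁻¹ = F.j 32 * (g * d * g⁻¹) * (F.j 32)⁻¹ by group, e, r1.eq,
      mul_inv_cancel_right]
  rcases hh with rfl | rfl <;> rcases h1 with h1 | h1
  exacts [⟨g, e, 1, Or.inl rfl, h1⟩, ⟨_, e', 1, Or.inl rfl, by rw [cj_mul, h1, r3]⟩,
    ⟨_, e', 2, Or.inl rfl, by rw [cj_mul, h1, r2]⟩, ⟨g, e, 2, Or.inl rfl, h1⟩]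

/-- a conjugate of `t` in `X h` is conjugate to `t` by an element mapping `X h` to `A` or `B` -/
theorem Fr.conjX (F : Fr G md) (hm : md ≤ 2) {h : ℕ} (hh : h = 1 ∨ h = 2) {d : G} (hx : d ∈ F.X h) (hd : F.D d) :
    ∃ g : G, g * d * g⁻¹ = F.j 1 ∧ ∃ h', (h' = h ∨ (md = 0 ∧ h' = 3 - h)) ∧ ∀ x, x ∈ F.X h ↔ g * x * g⁻¹ ∈ F.X h' := by
  obtain ⟨g, e, h', h1, h2⟩ := F.orb_conjX hm hh hx hd
  exact ⟨g, e, h', h1, fun x => by rw [← h2, conj_mem_cj]⟩

theorem Fr.orb_sup (F : Fr G md) : F.X 1 ⊔ F.X 2 = F.X 3 := by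
  rw [X, X, X, gp, gp, gp, ← Subgroup.closure_union, ← Set.image_union]
  congr 2
  ext x
  simp only [xg, Set.mem_union, Set.mem_ofPred_eq, List.mem_cons, List.not_mem_nil]
  tauto

theorem Fr.orb_cen (F : Fr G md) {a : ℕ} (ha : a < 8) {x : ℕ} (hx : x < 32) : Commute (F.j x) (F.j a) := by
  have k : ∀ a < 8, ∀ x < 32, m5 x a = m5 a x := by decide +kernel
  rw [commute_iff_eq, F.orb_m5 hx (by omega), k a ha x hx, F.orb_m5 (by omega) hx]

theorem Fr.conjT (F : Fr G md) (hm : md ≤ 2) {a : ℕ} (ha : a < 8) (hd : F.D (F.j a)) : F.j a ∈ F.orb 3 (F.j 1) := by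
  have hs := orb_sz md
  obtain ⟨g, e, hg⟩ := F.emb hd (R := F.X 3) (F.rep.isPGroup.to_le fun x hx => by
    obtain ⟨a, ha, rfl⟩ := F.mem_X3.1 hx
    exact F.rep.mem_img.2 ⟨a, by omega, rfl⟩) fun r hr => by
      obtain ⟨x, hx, rfl⟩ := F.mem_X3.1 hr
      exact F.orb_cen ha hx
  have key : ∀ h, h = 1 ∨ h = 2 → F.X h ≤ F.X 3 := by
    rintro _ (rfl | rfl) <;> rw [← F.orb_sup]
    exacts [le_sup_left, le_sup_right]
  have le : ∀ h, h = 1 ∨ h = 2 → cj g (F.X h) ≤ F.X 3 := fun h hh => by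
    rcases F.orb_cjX hm hh fun r hr => hg r (key h hh hr) with e | e <;> rw [e]
    exacts [key 1 (Or.inl rfl), key 2 (Or.inr rfl)]
  refine ⟨g⁻¹, inv_mem (mem_normalizer_of_cj_le ?_), by rw [← e]; group⟩
  nth_rewrite 1 [← F.orb_sup]
  rw [cj_sup]
  exact sup_le (le 1 (Or.inl rfl)) (le 2 (Or.inr rfl))

theorem Fr.orbT_lt (F : Fr G md) {x : G} (hx : x ∈ F.orb 3 (F.j 1)) : ∃ a < 8, F.j a = x := by
  have k : ∀ a < 32, m5 8 a = m5 a 8 → m5 16 a = m5 a 16 → a < 8 := by decide +kernel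
  have hs := orb_sz md
  obtain ⟨n, hn, rfl⟩ := hx
  obtain ⟨a, ha, e⟩ := F.mem_X3.1 (conj_mem_of_mem_normalizer hn (F.mem_X3.2 ⟨1, by decide, rfl⟩))
  have key : ∀ y < 32, m5 y a = m5 a y := fun y hy => by
    obtain ⟨b, hb, e'⟩ := F.mem_X3.1 (conj_mem_of_mem_normalizer' hn (F.mem_X3.2 ⟨y, hy, rfl⟩))
    rw [← F.rep.wf.mul32 hy ha, ← F.rep.wf.mul32 ha hy, ← F.orb_comm (by omega) (by omega), e,
      show F.j y = n * F.j b * n⁻¹ by rw [e']; group]
    exact (F.orb_cen (a := 1) (by decide) hb).conj n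
  exact ⟨a, k a ha (key 8 (by decide)) (key 16 (by decide)), e⟩

omit [Finite G] in
theorem orb_pow {j : ℕ → G} {g : G} {p : ℕ → Prop} {f : ℕ → ℕ} (h : ∀ a, p a → p (f a) ∧ g * j a * g⁻¹ = j (f a))
    (i : ℕ) {a : ℕ} (ha : p a) : p (f^[i] a) ∧ g ^ i * j a * (g ^ i)⁻¹ = j (f^[i] a) := by
  induction i with
  | zero => exact ⟨ha, by simp⟩
  | succ i ih =>
    rw [Function.iterate_succ_apply', ← (h _ ih.1).2, ← ih.2]
    exact ⟨(h _ ih.1).1, by group⟩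

/-- `|Aut_{C(t)}(X)| = 6` -/
theorem Fr.orb_six (F : Fr G md) {X : Subgroup G} {g : G} {p : ℕ → Prop} {f : ℕ → ℕ} {y : ℕ} (hy : y < 32)
    (hX : ∀ x, x ∈ X ↔ ∃ a, p a ∧ F.j a = x) (lt : ∀ a, p a → a < 32) (h1 : p 1) (f1 : f 1 = 1)
    (hg : ∀ a, p a → p (f a) ∧ g * F.j a * g⁻¹ = F.j (f a)) (hp : ∀ a, p a → p (m5 (m5 y a) y) ∧ m5 y a = m5 (m5 (m5 y a) y) y)
    (h2 : ∀ x < 32, ∃ u < 2, ∀ a, p a → m5 x a = m5 ((fun a => m5 (m5 y a) y)^[u] a) x)
    (act : ∀ n, Commute n (F.j 1) → n ∈ normalizer (X : Set G) →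
      ∃ x < 32, ∃ i < 3, ∀ a ∈ X, n * a * n⁻¹ = F.j x * g ^ i * a * (F.j x * g ^ i)⁻¹)
    (inj : ∀ u < 2, ∀ i < 3, ∀ u' < 2, ∀ i' < 3, (∀ a, p a → (fun a => m5 (m5 y a) y)^[u] (f^[i] a) =
      (fun a => m5 (m5 y a) y)^[u'] (f^[i'] a)) → u = u' ∧ i = i') :
    (centralizer (X : Set G)).relIndex (normalizer (X : Set G) ⊓ centralizer {F.j 1}) = 6 := by
  have hs := orb_sz md
  have hy' : ∀ a, p a → p (m5 (m5 y a) y) ∧ F.j y * F.j a * (F.j y)⁻¹ = F.j (m5 (m5 y a) y) := fun a ha =>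
    ⟨(hp a ha).1, F.orb_cj5 hy (lt a ha) (lt _ (hp a ha).1) (hp a ha).2⟩
  have cj : ∀ (u i : ℕ) a, p a → p ((fun a => m5 (m5 y a) y)^[u] (f^[i] a)) ∧
      F.j y ^ u * g ^ i * F.j a * (F.j y ^ u * g ^ i)⁻¹ = F.j ((fun a => m5 (m5 y a) y)^[u] (f^[i] a)) :=
    fun u i a ha => ⟨(orb_pow hy' u (orb_pow hg i ha).1).1, by
      rw [← (orb_pow hy' u (orb_pow hg i ha).1).2, ← (orb_pow hg i ha).2]; group⟩
  have mem : ∀ u i : ℕ, F.j y ^ u * g ^ i ∈ normalizer (X : Set G) ⊓ centralizer {F.j 1} := fun u i =>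
    ⟨mem_normalizer_of_forall fun x hx => by
      obtain ⟨a, ha, rfl⟩ := (hX x).1 hx
      exact (hX _).2 ⟨_, (cj u i a ha).1, (cj u i a ha).2.symm⟩, mem_centralizer_singleton_iff.2
      (((F.orb_cen (by decide) hy).pow_left u).mul_left (Commute.pow_left (mul_inv_eq_iff_eq_mul.1
        ((hg 1 h1).2.trans (by rw [f1]))) i)).eq⟩
  have eqv : ∀ a b : ↥(normalizer (X : Set G) ⊓ centralizer {F.j 1}),
      (QuotientGroup.mk a : _ ⧸ (centralizer (X : Set G)).subgroupOf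
        (normalizer (X : Set G) ⊓ centralizer {F.j 1})) = QuotientGroup.mk b ↔ ∀ x ∈ X, a.1 * x * a.1⁻¹ = b.1 * x * b.1⁻¹ := fun a b => by
    rw [QuotientGroup.eq, mem_subgroupOf, mem_centralizer_iff]
    refine forall₂_congr fun x _ => ?_
    rw [coe_mul, coe_inv]
    constructor <;> intro h
    · rw [show a.1 * x * a.1⁻¹ = a.1 * (x * (a.1⁻¹ * b.1)) * b.1⁻¹ by group, h]; group
    · rw [show x * (a.1⁻¹ * b.1) = a.1⁻¹ * (a.1 * x * a.1⁻¹) * b.1 by group, h]; group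
  refine (Nat.card_eq_of_bijective (fun q : Fin 2 × Fin 3 => (QuotientGroup.mk ⟨_, mem q.1 q.2⟩ :
    _ ⧸ (centralizer (X : Set G)).subgroupOf (normalizer (X : Set G) ⊓ centralizer {F.j 1})))
      ⟨fun q q' e => ?_, fun n => ?_⟩).symm.trans (by simp)
  · have := inj _ q.1.2 _ q.2.2 _ q'.1.2 _ q'.2.2 fun a ha => F.rep.inj _ ((lt _ (cj _ _ a ha).1).trans_le hs) _
      ((lt _ (cj _ _ a ha).1).trans_le hs) (by
        rw [← (cj _ _ a ha).2, ← (cj _ _ a ha).2]; exact (eqv _ _).1 e _ ((hX _).2 ⟨a, ha, rfl⟩))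
    exact Prod.ext (Fin.ext this.1) (Fin.ext this.2)
  · obtain ⟨n, rfl⟩ := QuotientGroup.mk_surjective n
    obtain ⟨x, hx, i, hi, e⟩ := act n (mem_centralizer_singleton_iff.1 n.2.2) n.2.1
    obtain ⟨u, hu, e'⟩ := h2 x hx
    refine ⟨(⟨u, hu⟩, ⟨i, hi⟩), (eqv _ _).2 fun w hw => ?_⟩
    obtain ⟨a, ha, rfl⟩ := (hX w).1 hw
    rw [e _ hw, (cj u i a ha).2, ← F.orb_cj5 hx (lt _ (orb_pow hg i ha).1) (lt _ (cj u i a ha).1)
      (e' _ (orb_pow hg i ha).1), ← (orb_pow hg i ha).2]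
    group

set_option synthInstance.maxSize 2048 in
theorem Fr.orb_six' (F : Fr G md) {h : ℕ} (hh : h = 1 ∨ h = 2) :
    (centralizer (F.X h : Set G)).relIndex (normalizer (F.X h : Set G) ⊓ centralizer {F.j 1}) = 6 := by
  rcases hh with rfl | rfl
  · have k1 : ∀ a < 16, lk sgT a < 16 := by decide +kernel
    exact F.orb_six (p := (· < 16)) (f := lk sgT) (y := 16) (g := F.σ) (by decide) (fun _ => F.mem_X1)
      (fun a ha => ha.trans (by decide)) (by decide) (by decide +kernel) (fun a ha => ⟨k1 a ha, F.hσ a ha⟩)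
      (by decide +kernel) (by decide +kernel) (fun n h1 h2 => F.actA h1 h2 F.hσ) (by decide +kernel)
  · have k1 : ∀ a < 32, lk taT a < 32 → lk taT (lk taT a) < 32 := by decide +kernel
    have k2 : ∀ a < 32, lk taT a < 32 → (m5 (m5 8 a) 8 < 32 ∧ lk taT (m5 (m5 8 a) 8) < 32) ∧
        m5 8 a = m5 (m5 (m5 8 a) 8) 8 := by decide +kernel
    have k3 : ∀ x < 32, ∃ u < 2, ∀ a < 32, lk taT a < 32 → m5 x a = m5 ((fun a => m5 (m5 8 a) 8)^[u] a) x := by
      decide +kernel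
    have k4 : ∀ u < 2, ∀ i < 3, ∀ u' < 2, ∀ i' < 3, (∀ a < 32, lk taT a < 32 →
        (fun a => m5 (m5 8 a) 8)^[u] ((lk taT)^[i] a) = (fun a => m5 (m5 8 a) 8)^[u'] ((lk taT)^[i'] a)) →
        u = u' ∧ i = i' := by decide +kernel
    exact F.orb_six (p := fun a => a < 32 ∧ lk taT a < 32) (f := lk taT) (y := 8) (g := F.τ) (by decide)
      (fun _ => by simp only [F.mem_X2, and_assoc]) (fun a ha => ha.1) (by decide +kernel) (by decide +kernel)
      (fun a ha => ⟨⟨ha.2, k1 a ha.1 ha.2⟩, F.hτ a ha.1 ha.2⟩) (fun a ha => k2 a ha.1 ha.2)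
      (fun x hx => (k3 x hx).imp fun u hu => ⟨hu.1, fun a ha => hu.2 a ha.1 ha.2⟩)
      (fun n h1 h2 => F.actB h1 h2 F.hτ) fun u hu i hi u' hu' i' hi' e => k4 u hu i hi u' hu' i' hi'
        fun a h1 h2 => e a ⟨h1, h2⟩

/-- `Aut_G(X h)` has order `6 · |orbit|` for the orbit of every conjugate of `t` -/
theorem Fr.orb_card (F : Fr G md) (hm : md ≤ 2) {h : ℕ} (hh : h = 1 ∨ h = 2) {d : G} (hx : d ∈ F.X h) (hd : F.D d) :
    (centralizer (F.X h : Set G)).relIndex (normalizer (F.X h : Set G)) = 6 * (F.orb h d).ncard := by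
  obtain ⟨g, e, h', h1, h2⟩ := F.orb_conjX hm hh hx hd
  have h3 := F.orb_six' (h := h') (by omega)
  rw [← h2, ← e, ← cj_centralizer, ← cj_normalizer, ← cj_centralizer_singleton, ← cj_inf, relIndex_cj] at h3
  have h4 := TL2.card_conj (normalizer (F.X h : Set G)) d
  have h5 := card_mul_relIndex' (show normalizer (F.X h : Set G) ⊓ centralizer {d} ≤ _ from inf_le_left)
  rw [← h5, mul_comm] at h4
  rw [← relIndex_mul_relIndex _ (normalizer (F.X h : Set G) ⊓ centralizer {d}) _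
    (le_inf (centralizer_le_normalizer _) (centralizer_le (Set.singleton_subset_iff.2 hx))) inf_le_left, h3,
    ← Nat.eq_of_mul_eq_mul_left Nat.card_pos h4]
  rfl

/-- in mode 0 the normaliser of `T₁` is regular on the orbit of `t` modulo the centraliser of `Z(T₁)` -/
theorem Fr.regT (F : Fr G 0) {n : G} (hn : n ∈ normalizer (F.X 3 : Set G)) (ht : Commute n (F.j 1)) {a : ℕ}
    (ha : a < 8) : n * F.j a * n⁻¹ = F.j a := by
  obtain ⟨x, hx, e⟩ := F.actT ht hn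
  rw [e _ (F.mem_X3.2 ⟨a, by omega, rfl⟩), (F.orb_cen ha hx).eq, mul_inv_cancel_right]

end CfsgLib.Dih8
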