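import Cfsg.Agent.Lib.Dih8.E3
import Cfsg.Agent.Lib.Dih8.E4
import Cfsg.Agent.Lib.Dih8.E5
import Cfsg.Agent.Lib.Dih8.E6
import Cfsg.Agent.Lib.Dih8.E7
import Cfsg.Agent.Lib.Dih8.E8
import Cfsg.Agent.Lib.Dih8.E9
import Cfsg.Agent.Lib.Dih8.E10
import Cfsg.Agent.Lib.Dih8.E11
import Cfsg.Agent.Lib.Dih8.E12
import Cfsg.Agent.Lib.Dih8.E13
import Cfsg.Agent.Lib.Dih8.E14
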