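import Cfsg.Agent.Lib.Dih8.Defs
import Cfsg.Agent.S2690
import Cfsg.Agent.Lib.Classical.SLCard

/-! PO2: which components occur (plans/DIH8.md) -/

set_option autoImplicit false

namespace CfsgLib.Dih8

open Subgroup CfsgLib.Tech Cfsg Matrix

variable {G : Type*} [Group G] [Finite G] {K : Subgroup G} {t : G}

local notation "S5" => SpecialLinearGroup (Fin 5) (ZMod 2)

private def tr (s : S5) : ZMod 2 := trace (SpecialLinearGroup.coeMonoidHom s)

private theorem tr_conj (g s : S5) : tr (g * s * g⁻¹) = tr s := by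
  rw [tr, tr, map_mul, trace_mul_comm, ← map_mul, ← mul_assoc, inv_mul_cancel, one_mul]

private theorem aut5 (β : MulAut S5) : (∃ g, ∀ s, β s = g * s * g⁻¹) ∨ ∀ s, tr (β s) = tr s⁻¹ := by
  have h : center S5 = ⊥ := eq_bot_of_card_eq _ (by rw [Classical.sl_card_center]; simp)
  let ε : S5 ≃* ProjectiveSpecialLinearGroup (Fin 5) (ZMod 2) :=
    QuotientGroup.quotientBot.symm.trans (QuotientGroup.quotientMulEquivOfEq h.symm)
  obtain ⟨δ, φ, γ, σ, ⟨g, hδ⟩, hφ, hγ, e⟩ := Cfsg.Agent.S2690.result (p := 2) (f := 1) (ZMod.card 2) le_rfl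
    (by norm_num) (by norm_num) ((ε.symm.trans β).trans ε)
  have hd : ∀ g : GL (Fin 5) (ZMod 2), g.1.det = 1 := fun g =>
    (by decide : ∀ r : ZMod 2, r ≠ 0 → r = 1) _ (GeneralLinearGroup.det_ne_zero g)
  let g' : S5 := ⟨g.1, hd g⟩
  have hi : ((g'⁻¹ : S5) : Matrix (Fin 5) (Fin 5) (ZMod 2)) = (g⁻¹ : GL (Fin 5) (ZMod 2)).1 := by
    rw [GeneralLinearGroup.coe_inv, inv_def, hd, Ring.inverse_one, one_smul]; rfl
  have key : ∀ s s' : S5, γ (ε s) = ε s' → β s = g' * s' * g'⁻¹ := fun s s' hs => ε.injective <| by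
    have h1 := congrArg (· (ε s)) e
    simp only [MulEquiv.trans_apply, MulEquiv.symm_apply_apply, MulAut.mul_apply, hs] at h1
    rw [h1, show φ (ε s') = ε s' from hφ s' s' (by ext i j; simp [Subsingleton.elim σ (RingEquiv.refl _)])]
    exact hδ s' _ (by rw [← hi]; rfl)
  rcases hγ with rfl | hγ
  · exact .inl ⟨g', fun s => key s s rfl⟩
  · exact .inr fun s => by rw [key s s⁻¹.transpose (hγ _ _ rfl), tr_conj]; exact trace_transpose _

private def x7 : S5 := ⟨!![0, 0, 1, 0, 0; 1, 0, 1, 0, 0; 0, 1, 0, 0, 0; 0, 0, 0, 1, 0; 0, 0, 0, 0, 1], by decide +kernel⟩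

private theorem tr7 {y : S5} (hy : orderOf y = 7) : tr y ≠ tr y⁻¹ := by
  have := Fact.mk Nat.prime_seven
  have h7 : x7 ^ 7 = 1 := Subtype.ext (by decide +kernel)
  have hx : orderOf x7 = 7 := orderOf_eq_prime h7 fun e => absurd (congrArg Subtype.val e) (by decide +kernel)
  have hs : IsSylowIn 7 (zpowers x7) ⊤ := ⟨le_top, .of_card (n := 1) (by rw [Nat.card_zpowers, hx]; rfl), fun h => by
    have h1 := card_mul_relIndex' (le_top (a := zpowers x7))
    rw [card_top, Nat.card_zpowers, hx, Classical.sl_card] at h1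
    simp [Finset.prod_range_succ, -relIndex_top_right] at h1
    omega⟩
  obtain ⟨g, -, hg⟩ := hs.exists_conj_mem (mem_top y) (.of_card (n := 1) (by rw [Nat.card_zpowers, hy]; rfl))
  rw [← mem_powers_iff_mem_zpowers, (isOfFinOrder_of_finite _).mem_powers_iff_mem_range_orderOf, hx] at hg
  obtain ⟨i, hi, e⟩ := Finset.mem_image.1 hg
  have h0 : i ≠ 0 := by
    rintro rfl
    rw [pow_zero, eq_comm, conj_eq_one_iff] at e
    simp [e] at hy
  have e' : g * y⁻¹ * g⁻¹ = x7 ^ (7 - i) := by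
    rw [← conj_inv, ← e, inv_eq_iff_mul_eq_one, ← pow_add, Nat.add_sub_cancel' (Finset.mem_range.1 hi).le, h7]
  rw [← tr_conj g, ← tr_conj g y⁻¹, ← e, e', tr, tr, map_pow, map_pow]
  clear e e'
  revert i
  decide +kernel

/-- PO2: an outer automorphism of `L₅(2)` centralises no element of order 7 -/
theorem postL (nK : K.Normal) (cK : centralizer (K : Set G) = ⊥)
    (e : K ≃* SpecialLinearGroup (Fin 5) (ZMod 2)) (ht : t ∉ K) : ¬ 7 ∣ Nat.card ↥(K ⊓ centralizer {t}) := fun h => by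
  have := Fact.mk Nat.prime_seven
  obtain ⟨⟨x, hxK, hxt⟩, hx⟩ := exists_prime_orderOf_dvd_card' 7 h
  rcases aut5 ((e.symm.trans (MulAut.conjNormal t)).trans e) with ⟨g, hg⟩ | hg
  · obtain ⟨k, rfl⟩ := e.surjective g
    have : (k : G)⁻¹ * t ∈ centralizer (K : Set G) := fun s hs => by
      have := hg (e ⟨s, hs⟩)
      simp only [MulEquiv.trans_apply, MulEquiv.symm_apply_apply, ← map_inv, ← map_mul, e.injective.eq_iff] at this
      have := congrArg Subtype.val this
      simp only [MulAut.conjNormal_apply, coe_mul, coe_inv] at this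
      calc s * ((k : G)⁻¹ * t) = (k : G)⁻¹ * (k * s * (k : G)⁻¹) * t := by group
        _ = _ := by rw [← this]; group
    rw [cK, mem_bot, inv_mul_eq_one] at this
    exact ht (this ▸ k.2)
  · refine tr7 (y := e ⟨x, hxK⟩) (by rw [e.orderOf_eq, orderOf_mk, ← hx, ← orderOf_coe]) ?_
    rw [← hg]
    simp only [MulEquiv.trans_apply, MulEquiv.symm_apply_apply]
    exact congrArg (tr <| e ·) (Subtype.ext (eq_mul_inv_of_mul_eq (mem_centralizer_singleton_iff.1 hxt)))

end CfsgLib.Dih8
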