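import Cfsg.Agent.Lib.Dih8.Defs

/-! PO3: which components occur (plans/DIH8.md) -/

set_option autoImplicit false

namespace CfsgLib.Dih8

open Subgroup CfsgLib.Tech Cfsg Matrix

private theorem ord_of_dvd {G : Type*} [Group G] [Finite G] {x : G} {n : ℕ} (h : n ∣ orderOf x) :
    ∃ c : G, orderOf c = n :=
  ⟨_, orderOf_pow_orderOf_div (orderOf_pos x).ne' h⟩

private theorem ord_mul {G : Type*} [Group G] [Finite G] {N : Subgroup G} (nN : N.Normal) {p r : ℕ} (hp : p.Prime)
    (hr : r.Prime) (hpr : p ≠ r) (hi : r ∣ N.index) (hN : p ∣ Nat.card N)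
    (hk : ∀ k, 0 < k → p ^ k ∣ Nat.card N → p ^ k % r ≠ 1 % r) : ∃ c : G, orderOf c = p * r := by
  have := Fact.mk hp
  have := Fact.mk hr
  obtain ⟨P⟩ : Nonempty (Sylow p N) := inferInstance
  have h1 := P.normalizer_sup_eq_top
  have h2 : Nat.card (P.map N.subtype) = p ^ (Nat.card N).factorization p := by
    rw [card_map_of_injective N.subtype_injective, P.card_eq_multiplicity]
  set P' := (P : Subgroup N).map N.subtype
  rw [← relIndex_top_right, ← h1, relIndex_sup_right] at hi
  obtain ⟨y, hy⟩ := exists_prime_orderOf_dvd_card' r (hi.trans (relIndex_dvd_card _ _))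
  let _ : MulAction (zpowers y) P' := MulAction.compHom _ (P'.normalizerMonoidHom.comp (zpowers y).subtype)
  have h3 := (IsPGroup.of_card (p := r) (n := 1) (by rw [Nat.card_zpowers, hy, pow_one])
    : IsPGroup r (zpowers y)).card_modEq_card_fixedPoints P'
  obtain ⟨x, hx, h4⟩ : ∃ x ∈ MulAction.fixedPoints (zpowers y) P', x ≠ 1 := by
    by_contra! h
    have e : MulAction.fixedPoints (zpowers y) P' = {1} :=
      Set.eq_singleton_iff_unique_mem.2 ⟨fun g => map_one (P'.normalizerMonoidHom g.1), h⟩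
    rw [e, h2, Nat.card_coe_set_eq, Set.ncard_singleton] at h3
    exact hk _ (hp.factorization_pos_of_dvd Nat.card_pos.ne' hN) (Nat.ordProj_dvd _ _) h3
  have h5 : Commute (x : G) y := eq_mul_of_mul_inv_eq (congrArg Subtype.val (hx ⟨y, mem_zpowers y⟩)) |>.symm
  obtain ⟨j, hj⟩ := (IsPGroup.iff_orderOf.1 (IsPGroup.of_card h2)) x
  rw [← orderOf_coe] at hj hy
  refine ord_of_dvd (x := (x : G) * y) ?_
  rw [h5.orderOf_mul_eq_mul_orderOf_of_coprime (by rw [hj, hy]; exact ((Nat.coprime_primes hp hr).2 hpr).pow_left _),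
    hj, hy]
  refine Nat.mul_dvd_mul_right (dvd_pow_self _ ?_) _
  rintro rfl
  exact h4 (by simpa using hj)

private theorem post {C Q : Type*} [Group C] [Finite C] [Group Q] {π : C →* Q} (sj : Function.Surjective π)
    {L : Subgroup Q} (nL : L.Normal) {p r : ℕ} (hp : p.Prime) (hr : r.Prime) (hpr : p ≠ r) (h1 : r ∣ Nat.card L)
    (h2 : ¬ p ∣ Nat.card L) (h3 : p ∣ Nat.card C) (h4 : ∀ k, 0 < k → p ^ k ∣ Nat.card C → p ^ k % r ≠ 1 % r)
    (h5 : ∀ k, 0 < k → r ^ k ∣ Nat.card L → r ^ k % p ≠ 1 % p) : ∃ c : C, orderOf c = p * r := by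
  have := Finite.of_surjective π sj
  have e : π.ker.index = Nat.card Q := by rw [index_ker, MonoidHom.range_eq_top.2 sj, card_top]
  rw [← π.ker.card_mul_index, hp.dvd_mul] at h3
  rcases h3 with h3 | h3
  · exact ord_mul inferInstance hp hr hpr (e ▸ h1.trans L.card_subgroup_dvd_card) h3 fun k hk h =>
      h4 k hk (h.trans π.ker.card_subgroup_dvd_card)
  · rw [e, ← L.card_mul_index, hp.dvd_mul] at h3
    obtain ⟨c, hc⟩ := ord_mul nL hr hp hpr.symm (h3.resolve_left h2) h1 h5
    obtain ⟨c, rfl⟩ := sj c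
    exact ord_of_dvd (mul_comm p r ▸ hc ▸ orderOf_map_dvd π c)

private theorem lt_of_dvd {p k j n : ℕ} (h : p ^ k ∣ n) (h' : ¬ p ^ j ∣ n) : k < j :=
  lt_of_not_ge fun e => h' ((pow_dvd_pow p e).trans h)

/-- PO3: a group of order divisible by 35 with a quotient having a normal subgroup of order 168 or 360 -/
theorem post35 {C Q : Type*} [Group C] [Finite C] [Group Q] {π : C →* Q} (sj : Function.Surjective π)
    {L : Subgroup Q} (nL : L.Normal) (hL : Nat.card L = 168 ∨ Nat.card L = 360) (h35 : 35 ∣ Nat.card C)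
    (h5 : ¬ 125 ∣ Nat.card C) (h7 : ¬ 2401 ∣ Nat.card C) : ∃ c : C, orderOf c = 35 := by
  rcases hL with hL | hL
  · refine post sj nL Nat.prime_five Nat.prime_seven (by norm_num) (by norm_num [hL]) (by norm_num [hL]) (by omega)
      (fun k hk h => ?_) fun k hk h => ?_
    · have := lt_of_dvd (j := 3) h h5
      interval_cases k <;> norm_num
    · have := lt_of_dvd (j := 2) h (by norm_num [hL])
      interval_cases k; norm_num
  · refine post sj nL Nat.prime_seven Nat.prime_five (by norm_num) (by norm_num [hL]) (by norm_num [hL]) (by omega)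
      (fun k hk h => ?_) fun k hk h => ?_
    · have := lt_of_dvd (j := 4) h h7
      interval_cases k <;> norm_num
    · have := lt_of_dvd (j := 2) h (by norm_num [hL])
      interval_cases k; norm_num

end CfsgLib.Dih8
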