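import Cfsg.Agent.Lib.Dih8.Defs
import Cfsg.Agent.Lib.SylT.L5i
import Cfsg.Agent.Lib.SylT.U5d
import Cfsg.Agent.Lib.SylT.HSd

/-! REC: recognition of `K` from a presentation of its Sylow 2-subgroup (plans/DIH8.md) -/

set_option autoImplicit false
set_option maxHeartbeats 400000

namespace CfsgLib.Dih8

open Subgroup CfsgLib.Tech CfsgLib.MOrb Cfsg CfsgLib.SylT

variable {G : Type*} [Group G] [Finite G] {K M : Subgroup G} {x : ℕ → G}

/-- conjugate relations of `UT₅(2)`, letters `x₃₄ x₄₅ x₁₂ x₃₅ x₂₃ x₂₄ x₁₃ x₂₅ x₁₄ x₁₅` -/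
def lcj (i j : ℕ) : List ℕ := ([[[], [1, 3], [2], [3], [4, 5], [5], [6, 8]], [[], [], [2], [3], [4], [5, 7], [6], [7], [8, 9]],
  [[], [], [], [3], [4, 6], [5, 8], [6], [7, 9]], [[], [], [], [], [4, 7], [5], [6, 9]]].getD i []).getD j [j]

theorem pcL : PcRel (fun i => (W2.TG.o (512 / 2 ^ i) : TL)) 10 (fun _ => []) lcj := by decide +kernel

/-- a presented 2-group embeds onto a Sylow 2-subgroup of `K` -/
theorem rec_hom {T : Type*} [Group T] [Finite T] {g : ℕ → T} {n : ℕ} {sq : ℕ → List ℕ} {cj : ℕ → ℕ → List ℕ}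
    (hl : PcOk n sq cj) (hr : PcRel x n sq cj) (hg : PcRel g n sq cj) (hT : Nat.card T = 2 ^ n)
    (ht : ∀ S : Subgroup T, (∀ i < n, g i ∈ S) → S = ⊤) (hM : IsSylowIn 2 M K) (hc : Nat.card M = 2 ^ n)
    (hx : ∀ i < n, x i ∈ M) {k : ℕ} (hk : k < n) (hz : x k ≠ 1)
    (hi : ∀ φ : T →* K, φ (g k) ≠ 1 → Function.Injective φ) :
    ∃ φ : T →* K, Function.Injective φ ∧ IsSylowIn 2 φ.range ⊤ := by
  obtain ⟨ψ, hψ⟩ := exists_hom_pc hl hr hg hT.ge ht
  have h1 : K.comap ψ = ⊤ := ht _ fun i hi => by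
    rw [mem_comap, hψ i hi]; exact hM.le (hx i hi)
  let φ : T →* K := ψ.codRestrict K fun a => (mem_comap.1 (h1 ▸ mem_top a : a ∈ K.comap ψ))
  have h2 : Function.Injective φ := hi φ fun e => hz (by
    rw [← hψ k hk]; exact congrArg Subtype.val e)
  have h3 : Nat.card φ.range = 2 ^ n := by
    rw [← hT]; exact (Nat.card_congr (MonoidHom.ofInjective h2).toEquiv).symm
  refine ⟨φ, h2, (IsSylowIn.of_sylow_top hM.toSylow).of_card_le (IsPGroup.of_card h3) le_top ?_⟩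
  rw [hM.coe_toSylow, h3, ← hc]
  exact (Nat.card_congr (subgroupOfEquivOfLe hM.le).toEquiv).le


theorem recL (hK : IsSimpleGroup K) (hM : IsSylowIn 2 M K) (hc : Nat.card M = 1024) (hx : ∀ i < 10, x i ∈ M)
    (hr : PcRel x 10 (fun _ => []) lcj) (hz : x 9 ≠ 1) :
    Nonempty (K ≃* Matrix.SpecialLinearGroup (Fin 5) (ZMod 2)) ∨ Nonempty (K ≃* M24) ∨ Spor.IsoHe K := by
  obtain ⟨φ, h1, h2⟩ := rec_hom (T := TL) (by decide) hr pcL TL.card_T
    (fun S hS => W2.TG.eq_top_of_genB TL.gen4 (by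
      simp only [List.forall_mem_cons]
      exact ⟨hS 2 (by norm_num), hS 4 (by norm_num), hS 0 (by norm_num), hS 1 (by norm_num), by simp⟩))
    hM hc hx (k := 9) (by norm_num) hz fun φ h => TL.inj_of h
  exact TL.SL.core ⟨h1, h2⟩

theorem recU (hK : IsSimpleGroup K) (hM : IsSylowIn 2 M K) (hc : Nat.card M = 1024) (hx : ∀ i < 10, x i ∈ M)
    (hr : PcRel x 10 TU.psq TU.pcj) (hz : x 9 ≠ 1) :
    ∃ (E : Type) (_ : Field E) (_ : Fintype E), Fintype.card E = 4 ∧ Nonempty (K ≃* PSU 5 E 2) := by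
  obtain ⟨φ, h1, h2⟩ := rec_hom (T := TU) (g := TU.pg) (by decide) hr (by decide +kernel) TU.card_T
    (fun S hS => W2.TG.eq_top_of_genB TU.gen4 (by
      simp only [List.forall_mem_cons]
      exact ⟨hS 4 (by norm_num), hS 3 (by norm_num), hS 1 (by norm_num), hS 0 (by norm_num), by simp⟩))
    hM hc hx (k := 9) (by norm_num) hz fun φ h => TU.inj_of h
  obtain ⟨ψ, h3, h4⟩ := TU.exists_U5
  exact ⟨_, _, _, Classical.card_GF4, TU.s0513 Classical.card_GF4 h2.toSylowTop h4.toSylowTop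
    ⟨(MonoidHom.ofInjective h1).symm.trans (MonoidHom.ofInjective h3)⟩⟩

theorem recH (hK : IsSimpleGroup G) (hM : IsSylowIn 2 M ⊤) (hc : Nat.card M = 512) (hx : ∀ i < 9, x i ∈ M)
    (hr : PcRel x 9 TH.psq TH.pcj) (hz : x 8 ≠ 1) : Spor.IsoHS G := by
  obtain ⟨φ, h1, h2⟩ := rec_hom (T := TH) (g := TH.pg) (by decide) hr (by decide +kernel) TH.card_T
    (fun S hS => W2.TG.eq_top_of_genB TH.gen3 (by
      simp only [List.forall_mem_cons]
      exact ⟨hS 3 (by norm_num), hS 1 (by norm_num), hS 0 (by norm_num), by simp⟩))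
    hM hc hx (k := 8) (by norm_num) hz fun φ h => TH.inj_of h
  have h3 : IsSylowIn 2 ((topEquiv (G := G)).toMonoidHom.comp φ).range ⊤ := by
    rw [MonoidHom.range_comp]; exact CFun.sylIn_map_top h2 topEquiv.surjective
  obtain ⟨π, h4⟩ := TH.SH.hyp (φ := (topEquiv (G := G)).toMonoidHom.comp φ) ⟨topEquiv.injective.comp h1, h3⟩
  exact h4.nonempty_equiv

end CfsgLib.Dih8
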