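import Cfsg.Agent.Lib.Dih8.Defs
import Cfsg.Agent.Lib.Dih8.Rec

/-! The certificate checker for the trees of 2-subgroups (plans/DIH8.md, part II): definitions. -/

set_option autoImplicit false

namespace CfsgLib.Dih8

open Subgroup CfsgLib.Tech CfsgLib.MOrb Cfsg

universe u

noncomputable section

/-! ### loops -/

def an (a b : Bool) : Bool := Bool.rec false b a
def orr (a b : Bool) : Bool := Bool.rec b true a
def ne (a b : ℕ) : Bool := Bool.rec true false (Nat.beq a b)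
def lt (a b : ℕ) : Bool := Nat.ble (Nat.succ a) b
def tb (m i : ℕ) : Bool := Nat.beq (Nat.land (Nat.shiftRight m i) 1) 1
def cnd {α : Type} (b : Bool) (x y : α) : α := Bool.rec (motive := fun _ => α) y x b
def allN (n : ℕ) (p : ℕ → Bool) : Bool := Nat.rec (motive := fun _ => Bool) true (fun i r => Bool.rec false r (p i)) n
def anyN (n : ℕ) (p : ℕ → Bool) : Bool := Nat.rec (motive := fun _ => Bool) false (fun i r => Bool.rec r true (p i)) n
def allL {α : Type} (l : List α) (p : α → Bool) : Bool :=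
  List.rec (motive := fun _ => Bool) true (fun a _ r => Bool.rec false r (p a)) l
def anyL {α : Type} (l : List α) (p : α → Bool) : Bool :=
  List.rec (motive := fun _ => Bool) false (fun a _ r => Bool.rec r true (p a)) l
/-- both lists have the same length and `p` holds at every position -/
def all2 (l : List ℕ) (p : ℕ → ℕ → Bool) : List ℕ → Bool :=
  List.rec (motive := fun _ => List ℕ → Bool) (fun m => List.rec (motive := fun _ => Bool) true (fun _ _ _ => false) m)
    (fun a _ r m => List.rec (motive := fun _ => Bool) false (fun b t _ => Bool.rec false (r t) (p a b)) m) l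
def nth {α : Type} (d : α) (l : List α) : ℕ → α :=
  List.rec (motive := fun _ => ℕ → α) (fun _ => d) (fun a _ r i => Nat.rec (motive := fun _ => α) a (fun j _ => r j) i) l
def snoc (l : List ℕ) (y : ℕ) : List ℕ := List.rec (motive := fun _ => List ℕ) [y] (fun a _ r => a :: r) l
def len {α : Type} (l : List α) : ℕ := List.rec (motive := fun _ => ℕ) 0 (fun _ _ r => Nat.succ r) l
def memL (x : ℕ) (l : List ℕ) : Bool := anyL l (Nat.beq x)
/-- `l.map f`, evaluated, passed to `k` -/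
def mapK {α : Type} (f : ℕ → ℕ) (l : List ℕ) : (List ℕ → α) → α :=
  List.rec (motive := fun _ => (List ℕ → α) → α) (fun k => k []) (fun a _ r k => frc (f a) fun y => r fun t => k (y :: t)) l
/-- the generators `1, 2, 4, .., 2 ^ (k - 1)` -/
def pows (k : ℕ) : List ℕ := (List.range k).map (2 ^ ·)
/-- parity of `x &&& m` (12 bits) -/
def par (m x : ℕ) : ℕ := frc (Nat.land x m) fun y => frc (Nat.xor y (Nat.shiftRight y 8)) fun y =>
  frc (Nat.xor y (Nat.shiftRight y 4)) fun y => frc (Nat.xor y (Nat.shiftRight y 2)) fun y =>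
    Nat.land (Nat.xor y (Nat.shiftRight y 1)) 1
def hs (ys : List ℕ) : ℕ := List.rec (motive := fun _ => ℕ) 0 (fun a _ r => Nat.mod (Nat.add (Nat.mul r 4099) a) 1000003) ys

/-- the product of the members of `gs` selected by the bits of `b`, multiplied to `acc` from the right -/
def evA (m : ℕ → ℕ → ℕ) (gs : List ℕ) : ℕ → ℕ → ℕ :=
  List.rec (motive := fun _ => ℕ → ℕ → ℕ) (fun _ acc => acc) (fun g _ r b acc =>
    Nat.rec (motive := fun _ => ℕ) acc (fun _ _ => frc (Nat.shiftRight b 1) fun b' =>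
      Bool.rec (motive := fun _ => ℕ) (frc (m acc g) (r b')) (r b' acc) (Nat.beq (Nat.land b 1) 0)) b) gs
def ev (m : ℕ → ℕ → ℕ) (gs : List ℕ) (b : ℕ) : ℕ := frc b fun b => evA m gs b 0

/-- `p` holds for all pairs of products of corresponding sublists, multiplied to `x`, `y` from the right -/
def mkT (m : ℕ → ℕ → ℕ) (gs : List ℕ) : List ℕ → ℕ → ℕ → (ℕ → ℕ → Bool) → Bool :=
  List.rec (motive := fun _ => List ℕ → ℕ → ℕ → (ℕ → ℕ → Bool) → Bool) (fun _ x y p => p x y)
    (fun g _ r is x y p => List.rec (motive := fun _ => Bool) false (fun i t _ =>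
      Bool.rec false (frc (m x g) fun x' => frc (m y i) fun y' => r t x' y' p) (r t x y p)) is) gs
/-- the bit mask of the products of the sublists of `gs` -/
def mkM (m : ℕ → ℕ → ℕ) (gs : List ℕ) : ℕ → ℕ → ℕ :=
  List.rec (motive := fun _ => ℕ → ℕ → ℕ) (fun x acc => Nat.lor acc (Nat.shiftLeft 1 x))
    (fun g _ r x acc => frc (r x acc) fun acc' => frc (m x g) fun x' => r x' acc') gs

/-! ### towers -/

def consB (l : Lv) (n B : ℕ) : Bool := frc (sz l) fun N =>
  an (Nat.beq (lk B 0) 0) (an (allN n fun x => lt (lk B x) N)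
    (allN 12 fun i => frc (Nat.pow 2 i) fun g => orr (Nat.ble n g) (frc (lk B g) fun bg =>
      allN g fun x => Nat.beq (lk B (Nat.add x g)) (mul l (lk B x) bg))))

def wfB (l : Lv) : Bool := List.rec (motive := fun _ => Bool) true (fun a l r =>
  an (Nat.beq a.1 (sz l)) (an (Nat.ble a.1 1024) (an (lt a.2.2 a.1) (an (consB l a.1 a.2.1) r)))) l

/-- `x ↦ par m x` is a homomorphism -/
def homB (l : Lv) (m : ℕ) : Bool := List.rec (motive := fun _ => Bool) (Nat.beq (Nat.land m 2) 0) (fun a _ r =>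
  an (Nat.beq (par m a.2.2) 0) (an (allN 12 fun i => frc (Nat.pow 2 i) fun g =>
    orr (Nat.ble a.1 g) (Nat.beq (par m (lk a.2.1 g)) (par m g))) r)) l

/-! ### states -/

/-- tower, conjugation maps (generators, images), and a code `tm` of an element acting as `ρ` (or `0`) -/
structure St where
  lv : Lv
  mp : List (List ℕ × List ℕ)
  tm : ℕ

def root (md : ℕ) : St := ⟨[], ([1, 2, 4, 8], [1, 8, 14, 10]) :: ([1, 2, 4, 16], [1, 16, 4, 18]) ::
  cnd (Nat.beq md 0) [] [([1, 2, 4, 8, 16], [1, 2, 6, 16, 8])], 0⟩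

variable {G : Type u} [Group G]

def CJ (φ ψ : ℕ → G) (g : G) (xs ys : List ℕ) : Prop := List.Forall₂ (fun x y => g * φ x * g⁻¹ = ψ y) xs ys

structure Valid {md : ℕ} (F : Fr G md) (s : St) (φ : ℕ → G) : Prop where
  rep : Rep s.lv φ
  base : ∀ x < 32, φ x = F.j x
  maps : ∀ m ∈ s.mp, ∃ g : G, CJ φ φ g m.1 m.2
  tm : s.tm ≠ 0 → md ≠ 0 ∧ s.tm < sz s.lv ∧
    ∃ c : G, (∀ a < 32, c * F.j a * c⁻¹ = F.j a) ∧ c * φ s.tm * c⁻¹ = F.j 32

/-- contexts: `0` nothing, `1` the tower is not a Sylow subgroup, `m + 2` it is one and `m` describes `K` -/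
def Hyp {md : ℕ} (F : Fr G md) (s : St) (φ : ℕ → G) : ℕ → Prop
  | 0 => True
  | 1 => ¬ IsSylowIn 2 (img s.lv φ) ⊤
  | m + 2 => IsSylowIn 2 (img s.lv φ) ⊤ ∧ ∀ x < sz s.lv, φ x ∈ F.K ↔ par m x = 0

def Sound (c : Cfg) (s : St) (x : ℕ) : Prop :=
  ∀ (G : Type u) [Group G] [Finite G] (F : Cf G c) (φ : ℕ → G), Valid F.toFr s φ → Hyp F.toFr s φ x → F.toFr.Out

inductive AllS (c : Cfg) : List St → Prop
  | nil : AllS c []
  | cons {s : St} {l : List St} : Sound.{u} c s 0 → AllS c l → AllS c (s :: l)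

/-- `Sound c s (m + 2)` for the listed masks -/
inductive AllM (c : Cfg) (s : St) : List ℕ → Prop
  | nil : AllM c s []
  | cons {m : ℕ} {l : List ℕ} : Sound.{u} c s (m + 2) → AllM c s l → AllM c s (m :: l)

/-! ### auxiliary tables -/

structure Aux where
  n : ℕ
  k : ℕ
  /-- inverses -/
  iv : ℕ
  /-- number of classes, class of a code, conjugator to the representative, representatives, log of the order -/
  nc : ℕ
  ci : ℕ
  cp : ℕ
  rp : ℕ
  od : ℕ
  /-- tables `x ↦ y + 1` of conjugation maps -/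
  mt : List ℕ
  /-- order of the centraliser (or `0`), index `+ 1` of its list of elements (or `0`) -/
  cn : ℕ
  cx : ℕ
  cl : List (List ℕ)
  /-- index `+ 1` of the table of labels `+ 1` of the pairs `(rp i, y)` -/
  kx : ℕ
  kt : List ℕ
  /-- `1`: not conjugate to `t`, `2`: conjugate to `t` -/
  ds : ℕ
  lam : ℕ
  /-- bit `i * nc + j`: the classes are not fused; there is no embedding of centralisers -/
  nf : ℕ
  ne : ℕ

def Aux.setDs (a : Aux) (d : ℕ) : Aux := { a with ds := d }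
def Aux.setLam (a : Aux) (m : ℕ) : Aux := { a with lam := m }
def Aux.setNf (a : Aux) (f : ℕ) : Aux := { a with nf := f }
def Aux.setNe (a : Aux) (f : ℕ) : Aux := { a with ne := f }

/-- the elements of the centraliser of `rp i`, `[]` if not listed -/
def Aux.cli (a : Aux) (i : ℕ) : List ℕ := Nat.rec (motive := fun _ => List ℕ) [] (fun j _ => nth [] a.cl j) (lk a.cx i)

/-- an element conjugating `φ x` to `φ y` and the centraliser of `φ x` in the tower into the tower -/
def Emb (n : ℕ) (φ : ℕ → G) (x y : ℕ) : Prop :=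
  ∃ g : G, g * φ x * g⁻¹ = φ y ∧ ∀ r < n, Commute (φ r) (φ x) → ∃ r' < n, g * φ r * g⁻¹ = φ r'

structure AuxOk {md : ℕ} (F : Fr G md) (s : St) (φ : ℕ → G) (a : Aux) : Prop where
  n : a.n = sz s.lv
  k : a.n = 2 ^ a.k
  iv : ∀ x < a.n, lk a.iv x < a.n ∧ φ (lk a.iv x) = (φ x)⁻¹
  cls : ∀ x < a.n, lk a.ci x < a.nc ∧ lk a.cp x < a.n ∧
    φ (lk a.cp x) * φ x * (φ (lk a.cp x))⁻¹ = φ (lk a.rp (lk a.ci x))
  rp : ∀ i < a.nc, lk a.rp i < a.n ∧ lk a.ci (lk a.rp i) = i ∧ orderOf (φ (lk a.rp i)) = 2 ^ lk a.od i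
  r1 : lk a.rp (lk a.ci 1) = 1
  cc : ∀ x < a.n, ∀ y < a.n, ∀ p < a.n, φ p * φ x * (φ p)⁻¹ = φ y → lk a.ci x = lk a.ci y
  mt : ∀ T ∈ a.mt, ∃ g : G, ∀ x < a.n, ∀ y, lk T x = y + 1 → y < a.n ∧ g * φ x * g⁻¹ = φ y
  cn : ∀ i < a.nc, lk a.cn i ≠ 0 → lk a.cn i = Nat.card ↥(img s.lv φ ⊓ centralizer {φ (lk a.rp i)})
  cl : ∀ i < a.nc, lk a.cx i ≠ 0 → ∀ y, y ∈ a.cli i ↔ y < a.n ∧ Commute (φ y) (φ (lk a.rp i))
  kt : ∀ i < a.nc, ∀ j, lk a.kx i = j + 1 → ∀ y < a.n, ∀ k, lk (nth 0 a.kt j) y = k + 1 →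
    F.Kp (φ (lk a.rp i)) (φ y) k
  ds : ∀ i < a.nc, (lk a.ds i = 1 → ¬ F.D (φ (lk a.rp i))) ∧ (lk a.ds i = 2 → F.D (φ (lk a.rp i)))
  lam : ∀ x < a.n, ∀ y < a.n, IsConj (φ x) (φ y) → par a.lam x = par a.lam y
  nf : ∀ i < a.nc, ∀ j < a.nc, tb a.nf (i * a.nc + j) = true → ¬ IsConj (φ (lk a.rp i)) (φ (lk a.rp j))
  ne : ∀ i < a.nc, ∀ j < a.nc, tb a.ne (i * a.nc + j) = true → ¬ Emb a.n φ (lk a.rp i) (lk a.rp j)

def AuxS (c : Cfg) (s : St) (x : ℕ) (a : Aux) : Prop :=
  ∀ (G : Type u) [Group G] [Finite G] (F : Cf G c) (φ : ℕ → G), Valid F.toFr s φ → Hyp F.toFr s φ x →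
    AuxOk F.toFr s φ a

/-- `p x p⁻¹` -/
def cj (l : Lv) (a : Aux) (p x : ℕ) : ℕ := mul l (mul l p x) (lk a.iv p)
def com (l : Lv) (x y : ℕ) : Bool := Nat.beq (mul l x y) (mul l y x)

/-- words: a letter `p < a.n` conjugates by `φ p`, a letter `4096 + j` uses the table `j`; the head acts first;
values are shifted by one, `0` is "undefined" -/
def apw (l : Lv) (a : Aux) (w : List ℕ) : ℕ → ℕ :=
  List.rec (motive := fun _ => ℕ → ℕ) (fun x => x) (fun p _ r x => Nat.rec (motive := fun _ => ℕ) 0 (fun x' _ =>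
    frc (cnd (lt p a.n) (Nat.succ (cj l a p x')) (lk (nth 0 a.mt (Nat.sub p 4096)) x')) r) x) w
/-- the image of `x` under `w` is passed to `k`; `false` if undefined -/
def apk (l : Lv) (a : Aux) (w : List ℕ) (x : ℕ) (k : ℕ → Bool) : Bool :=
  Nat.rec (motive := fun _ => Bool) false (fun y _ => k y) (apw l a w (Nat.succ x))

/-- label `+ 1` of the pair `(d, y)`, or `0` -/
def kap (l : Lv) (a : Aux) (d y : ℕ) : ℕ :=
  Nat.rec (motive := fun _ => ℕ) 0 (fun j _ => lk (nth 0 a.kt j) (cj l a (lk a.cp d) y)) (lk a.kx (lk a.ci d))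

/-- the classes `i`, `j` are not fused -/
def nfT (a : Aux) (i j : ℕ) : Bool :=
  orr (ne (lk a.od i) (lk a.od j)) (orr (Nat.beq (Nat.mul (lk a.ds i) (lk a.ds j)) 2)
    (orr (tb a.nf (Nat.add (Nat.mul i a.nc) j)) (ne (par a.lam (lk a.rp i)) (par a.lam (lk a.rp j)))))
def neT (a : Aux) (i j : ℕ) : Bool := orr (nfT a i j) (orr (tb a.ne (Nat.add (Nat.mul i a.nc) j))
  (an (ne (lk a.cn j) 0) (lt (lk a.cn j) (lk a.cn i))))
def clash (a : Aux) (x y : ℕ) : Bool := nfT a (lk a.ci x) (lk a.ci y)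
/-- `φ x` is not conjugate to `F.j y` -/
def clashT (c : Cfg) (a : Aux) (x y : ℕ) : Bool := frc (lk a.ci x) fun i =>
  orr (ne (Nat.min 3 (lk a.od i)) (Nat.land (Nat.shiftRight (lk (kT c.md) y) 3) 3))
    (Nat.beq (lk a.ds i) (cnd (tb c.dp (kcl c.md y)) 1 2))
def kapT (md d y : ℕ) : ℕ := cnd (Nat.beq d 1) (Nat.succ (kcl md y)) 0

/-- `p` holds for all `y` with `y x y⁻¹ = z` -/
def cos (l : Lv) (a : Aux) (x z : ℕ) (p : ℕ → Bool) : Bool := frc (lk a.ci x) fun i =>
  orr (ne i (lk a.ci z)) (frc (lk a.cp x) fun u => frc (lk a.iv (lk a.cp z)) fun v =>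
    an (ne (lk a.cx i) 0) (allL (a.cli i) fun y => frc (mul l (mul l v y) u) p))

/-- label `+ 1` of the pair `(t, y)`, or `0` -/
def kb (md : ℕ) (s : St) (a : Aux) (y : ℕ) : ℕ := cnd (lt y 32) (Nat.succ (kcl md y)) (cnd (Nat.beq s.tm 0) 0
  (frc (mul s.lv y (lk a.iv s.tm)) fun x => cnd (lt x 32) (Nat.succ (kcl md (Nat.add 32 x))) 0))

/-- the order of `x` is `2 ^ e` -/
def ordB (l : Lv) (e : ℕ) : ℕ → Bool := Nat.rec (motive := fun _ => ℕ → Bool) (fun x => Nat.beq x 0)
  (fun _ r x => an (ne x 0) (frc (mul l x x) r)) e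

/-- the table `T` is defined exactly on the `2 ^ len` products of sublists of `gs` -/
def mkOk (l : Lv) (n : ℕ) (gs is : List ℕ) (T : ℕ) : Bool :=
  an (allL gs fun x => lt x n) (an (allL is fun x => lt x n) (frc (mkM (mul l) gs 0 0) fun M =>
    an (allN n fun x => orr (Nat.beq (lk T x) 0) (tb M x)) (mkT (mul l) gs is 0 0 fun x y => Nat.beq (lk T x) (Nat.succ y))))

/-- the increasing list of the codes below `n` commuting with `v` and its length are passed to `k` -/
def cenK (l : Lv) (v n : ℕ) : List ℕ → ℕ → (List ℕ → ℕ → Bool) → Bool :=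
  Nat.rec (motive := fun _ => List ℕ → ℕ → (List ℕ → ℕ → Bool) → Bool) (fun L c k => k L c)
    (fun y r L c k => cnd (com l y v) (frc (Nat.succ c) fun c => r (y :: L) c k) (r L c k)) n

/-- the check of the basic tables; `ms` lists (index of the map, direction), `ws` the words for the label tables -/
def auxB (c : Cfg) (s : St) (a : Aux) (ms : List (ℕ × Bool)) (ws : List (List (List ℕ))) : Bool :=
  an (Nat.beq a.n (sz s.lv)) <| an (Nat.beq a.n (Nat.pow 2 a.k)) <|
  an (Nat.beq (Nat.add (Nat.add a.ds a.lam) (Nat.add a.nf a.ne)) 0) <|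
  an (Nat.beq (lk a.rp (lk a.ci 1)) 1) <|
  an (allN a.n fun x => frc (lk a.iv x) fun i => frc (lk a.ci x) fun j => frc (lk a.cp x) fun p =>
    an (lt i a.n) (an (Nat.beq (mul s.lv x i) 0) (an (lt j a.nc) (an (lt p a.n)
      (an (Nat.beq (mul s.lv p x) (mul s.lv (lk a.rp j) p))
        (allN a.k fun e => Nat.beq (lk a.ci (cj s.lv a (Nat.pow 2 e) x)) j)))))) <|
  an (allN a.nc fun i => frc (lk a.rp i) fun v => an (lt v a.n) (an (Nat.beq (lk a.ci v) i) (an (ordB s.lv (lk a.od i) v)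
    (cnd (Nat.beq (lk a.cn i) 0) (Nat.beq (lk a.cx i) 0) (cenK s.lv v a.n [] 0 fun L k => an (Nat.beq k (lk a.cn i))
      (orr (Nat.beq (lk a.cx i) 0) (all2 L Nat.beq (a.cli i)))))))) <|
  an (Nat.beq (len a.mt) (len ms)) <|
  an (allN (len ms) fun j => (fun e : ℕ × Bool => an (lt e.1 (len s.mp)) ((fun m : List ℕ × List ℕ =>
    cnd e.2 (mkOk s.lv a.n m.1 m.2 (nth 0 a.mt j)) (mkOk s.lv a.n m.2 m.1 (nth 0 a.mt j))) (nth ([], []) s.mp e.1)))
      (nth (0, true) ms j)) <|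
  allN a.nc fun i => Nat.rec (motive := fun _ => Bool) true (fun j _ =>
    frc (nth 0 a.kt j) fun T => an (allL (nth [] ws j) fun w => apk s.lv a w (lk a.rp i) (Nat.beq 1))
      (allN a.n fun y => frc (lk T y) fun e => orr (Nat.beq e 0)
        (anyL (nth [] ws j) fun w => apk s.lv a w y fun y' => Nat.beq (kb c.md s a y') e))) (lk a.kx i)

/-! ### depth first search for the images of a sequence of elements -/

structure Lvl where
  g : ℕ
  /-- `g² = ev gs sq` -/
  sq : ℕ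
  /-- `(i, b)`: `g gsᵢ = (ev gs b) g` -/
  cj : List (ℕ × ℕ)
  /-- candidates from the list (`true`) or from the coset given by the first entry of `cj` -/
  lst : Bool
  msk : ℕ
  /-- `(b₁, x₁, b₂, k)`: `x₁ = ev gs b₁`; `b₂ = 0` or the pair `(x₁, ev gs b₂)` has the label `k - 1` -/
  ts : List (ℕ × ℕ × ℕ × ℕ)

/-- the data of the levels are correct in the tower -/
def lvB (l : Lv) (a : Aux) (lv : List Lvl) : List ℕ → Bool :=
  List.rec (motive := fun _ => List ℕ → Bool) (fun _ => true) (fun v _ r gs =>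
    an (lt v.g a.n) <| an (Nat.beq (mul l v.g v.g) (ev (mul l) gs v.sq)) <|
    an (allL v.cj fun e => an (lt e.1 (len gs))
      (Nat.beq (mul l v.g (nth 0 gs e.1)) (mul l (ev (mul l) gs e.2) v.g))) <|
    mapK id (snoc gs v.g) fun gs' => an (allL v.ts fun e => an (Nat.beq e.2.1 (ev (mul l) gs' e.1))
      (orr (Nat.beq e.2.2.1 0) (an (ne e.2.2.2 0) (Nat.beq (kap l a e.2.1 (ev (mul l) gs' e.2.2.1)) e.2.2.2)))) (r gs')) lv

def tgK (m : ℕ → ℕ → ℕ) (ys : List ℕ) (l : List (ℕ × ℕ)) : (List (ℕ × ℕ) → Bool) → Bool :=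
  List.rec (motive := fun _ => (List (ℕ × ℕ) → Bool) → Bool) (fun k => k []) (fun e _ r k =>
    frc (nth 0 ys e.1) fun x => frc (ev m ys e.2) fun z => r fun t => k ((x, z) :: t)) l

def dfs (m : ℕ → ℕ → ℕ) (cs : ℕ → ℕ → (ℕ → Bool) → Bool) (L : List ℕ) (c1 : ℕ → ℕ → Bool) (k2 : ℕ → ℕ → ℕ)
    (leaf : List ℕ → Bool) (lv : List Lvl) : List ℕ → Bool :=
  List.rec (motive := fun _ => List ℕ → Bool) leaf (fun v _ r ys =>
    frc (ev m ys v.sq) fun sq => tgK m ys v.cj fun tg =>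
      (fun p : ℕ → Bool => cnd v.lst (allL L p)
        (List.rec (motive := fun _ => Bool) false (fun e _ _ => cs e.1 e.2 p) tg)) fun y =>
      orr (an (ne v.msk 0) (ne (Nat.land (Nat.shiftRight v.msk y) 1) 1)) <| orr (ne (m y y) sq) <|
      orr (anyL tg fun e => ne (m y e.1) (m e.2 y)) <| mapK id (snoc ys y) fun ys' =>
      orr (anyL v.ts fun e => frc (ev m ys' e.1) fun x => cnd (Nat.beq e.2.2.1 0) (c1 e.2.1 x)
        (frc (k2 x (ev m ys' e.2.2.1)) fun k => an (ne k 0) (ne k e.2.2.2))) (r ys')) lv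

/-- search inside the tower -/
def dfsP (l : Lv) (a : Aux) (L : List ℕ) (leaf : List ℕ → Bool) (lv : List Lvl) (ys : List ℕ) : Bool :=
  dfs (mul l) (cos l a) L (clash a) (kap l a) leaf lv ys

/-! ### labels, contradictions -/

/-- strictly increasing list of codes commuting with `v` -/
def incB (l : Lv) (n v : ℕ) (L : List ℕ) : ℕ → Bool :=
  List.rec (motive := fun _ => ℕ → Bool) (fun _ => true) (fun y _ r b =>
    an (Nat.ble b y) (an (lt y n) (an (com l y v) (r (Nat.succ y))))) L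

/-- justification of a label: type, number, word or list, levels -/
structure Jc where
  i : ℕ
  ty : ℕ
  d : ℕ
  w : List ℕ
  lv : List Lvl

/-- the class `j.i` has the label `v` -/
def jst (c : Cfg) (s : St) (a : Aux) (j : Jc) (v : ℕ) : Bool := frc (lk a.rp j.i) fun x => an (lt j.i a.nc) <|
  cnd (Nat.beq j.ty 0) (an (lt j.d a.n) (apk s.lv a j.w x fun y => frc (kap s.lv a j.d y) fun k =>
      an (ne k 0) (Nat.beq v (cnd (tb c.dp (Nat.pred k)) 2 1)))) <|
  cnd (Nat.beq j.ty 1) (apk s.lv a j.w x fun y => an (ne v 0) (Nat.beq v (lk a.ds (lk a.ci y)))) <|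
  an (Nat.beq v 1) <|
  cnd (Nat.beq j.ty 2) (an (lt c.md 2) (an (lt j.d a.n) (Nat.beq (mul s.lv j.d j.d) x))) <|
  cnd (Nat.beq j.ty 3) (lt (sz (lvT c.md)) (lk a.cn j.i)) <|
  cnd (Nat.beq j.ty 4) (an (lt (sz (lvT c.md)) (len j.w)) (incB s.lv a.n x j.w 0)) <|
  an (lvB s.lv a j.lv [x]) (an (allL j.lv fun e => an e.lst (an (Nat.beq e.msk 0) (com s.lv e.g x)))
    (mapK id (List.range (sz (lvT c.md))) fun L => dfs (mul (lvT c.md)) (fun _ _ _ => false) L (clashT c a)
      (kapT c.md) (fun _ => false) j.lv [1]))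

def upB (c : Cfg) (s : St) (a : Aux) (d : ℕ) (js : List Jc) : Bool :=
  an (allL js fun j => jst c s a j (lk d j.i)) (allN a.nc fun i => frc (lk d i) fun v =>
    orr (Nat.beq v (lk a.ds i)) (orr (an (Nat.beq v 1) (ne (lk a.od i) 1)) (anyL js fun j => Nat.beq j.i i)))

/-- masks of `A`, `B`, `T₁` -/
def xm (h : ℕ) : ℕ := cnd (Nat.beq h 1) 0xffff (cnd (Nat.beq h 2) 0xff00ff 0xffffffff)
/-- `σ ^ i`, `τ ^ i` -/
def sti (h i x : ℕ) : ℕ := Nat.rec (motive := fun _ => ℕ) x (fun _ r => lk (cnd (Nat.beq h 1) sgT taT) r) i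

/-- a label clash -/
def k1B (c : Cfg) (s : St) (a : Aux) (j : Jc) : Bool :=
  frc (lk a.ds j.i) fun v => an (ne v 0) (an (lt v 3) (jst c s a j (Nat.sub 3 v)))
/-- a clash of the labels of two conjugate pairs -/
def k2B (s : St) (a : Aux) (d y : ℕ) (w : List ℕ) : Bool :=
  an (lt d a.n) (an (lt y a.n) (apk s.lv a w d fun d' => apk s.lv a w y fun y' =>
    frc (kap s.lv a d y) fun k => frc (kap s.lv a d' y') fun k' => an (ne k 0) (an (ne k' 0) (ne k k'))))
/-- the word fixes `t`, normalises `X h`, but does not act as `⟨T₁, σ⟩` -/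
def k3B (s : St) (a : Aux) (h : ℕ) (w : List ℕ) : Bool :=
  an (orr (Nat.beq h 1) (Nat.beq h 2)) (mapK (fun x => apw s.lv a w (Nat.succ x)) (xg h) fun ys =>
    an (Nat.beq (nth 0 ys 0) 2) (an (allL ys fun y => an (ne y 0) (tb (xm h) (Nat.pred y)))
      (allN 32 fun p => allN 3 fun i => cnd (all2 (xg h) (fun x y =>
        Nat.beq (m5 p (sti h i x)) (m5 (Nat.pred y) p)) ys) false true)))
/-- the word `w` normalises `R = ⟨gs⟩` and centralises `X = (X h) ^ w₀ ≤ R`, but does not act as an element of `X` -/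
def k4B (s : St) (a : Aux) (h : ℕ) (w0 w gs : List ℕ) : Bool :=
  an (orr (Nat.beq h 1) (Nat.beq h 2)) <| an (allL gs fun x => lt x a.n) <| frc (mkM (mul s.lv) gs 0 0) fun M =>
    mapK (fun x => apw s.lv a w0 (Nat.succ x)) (xg h) fun xs => mapK (fun x => apw s.lv a w (Nat.succ x)) gs fun ys =>
      an (allL xs fun x => an (ne x 0) (an (tb M (Nat.pred x)) (Nat.beq (apw s.lv a w x) x))) <|
      an (allL ys fun y => an (ne y 0) (tb M (Nat.pred y))) <| mapK Nat.pred xs fun xs => allN 16 fun b =>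
        frc (ev (mul s.lv) xs b) fun p => cnd (all2 gs (fun x y => Nat.beq (Nat.succ (cj s.lv a p x)) y) ys) false true
/-- the word fuses two classes which are not fused -/
def k5B (s : St) (a : Aux) (x : ℕ) (w : List ℕ) : Bool := an (lt x a.n) (apk s.lv a w x (clash a x))

/-- the word normalises `X h` but moves `t` out of its orbit -/
def k6B (c : Cfg) (s : St) (a : Aux) (h : ℕ) (w : List ℕ) : Bool :=
  an (Nat.ble 1 h) <| an (Nat.ble h 3) <| an (allL (xg h) fun x => apk s.lv a w x fun y => tb (xm h) y) <|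
    apk s.lv a w 1 fun y => cnd (tb (c.ob h) y) false true

/-! ### changes of coordinates -/

def relB (l l' : Lv) (χ : ℕ) : Bool := frc (sz l') fun n => allN 12 fun j => frc (Nat.pow 2 j) fun g =>
  orr (Nat.ble n g) (an (Nat.beq (mul l (lk χ g) (lk χ g)) (lk χ (mul l' g g))) (allN j fun i => frc (Nat.pow 2 i) fun h =>
    Nat.beq (mul l (lk χ g) (lk χ h)) (lk χ (mul l' g h))))

/-- `χ` embeds the state `s'` into `s`, `ws` are the words for the maps of `s'` -/
def jmpB (s : St) (a : Aux) (s' : St) (χ : ℕ) (ws : List (List ℕ)) : Bool :=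
  an (consB s.lv (sz s'.lv) χ) <| an (relB s.lv s'.lv χ) <|
  an (allN (sz s'.lv) fun x => orr (Nat.beq x 0) (ne (lk χ x) 0)) <| an (allN 32 fun x => Nat.beq (lk χ x) x) <|
  an (allN (len s'.mp) fun j => (fun m : List ℕ × List ℕ => all2 m.1 (fun x y => an (lt x (sz s'.lv))
    (apk s.lv a (nth [] ws j) (lk χ x) (Nat.beq (lk χ y)))) m.2) (nth ([], []) s'.mp j)) <|
  orr (Nat.beq s'.tm 0) (an (ne s.tm 0) (an (lt s'.tm (sz s'.lv))
    (anyN 8 fun p => Nat.beq (lk χ s'.tm) (cj s.lv a p s.tm))))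

/-- the symmetries of the state -/
def gamB (s : St) (a : Aux) (gm : List (ℕ × List (List ℕ))) : Bool := allL gm fun e => jmpB s a s e.1 e.2
/-- the symmetries preserve validity -/
def GamS (c : Cfg) (s : St) (gm : List ℕ) : Prop :=
  ∀ (G : Type u) [Group G] [Finite G] (F : Cf G c) (φ : ℕ → G), Valid F.toFr s φ →
    ∀ γ ∈ gm, (∀ x < sz s.lv, lk γ x < sz s.lv) ∧ Valid F.toFr s fun x => φ (lk γ x)
/-- a product of symmetries, the head acts last -/
def gw (gm w : List ℕ) (x : ℕ) : ℕ := List.rec (motive := fun _ => ℕ) x (fun i _ r => lk (nth 0 gm i) r) w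

def subMp (l l' : List (List ℕ × List ℕ)) : Bool := allL l fun m => anyL l' fun m' =>
  an (all2 m.1 Nat.beq m'.1) (all2 m.2 Nat.beq m'.2)
def eqLv (l : Lv) : Lv → Bool :=
  List.rec (motive := fun _ => Lv → Bool) (fun m => List.rec (motive := fun _ => Bool) true (fun _ _ _ => false) m)
    (fun a _ r m => List.rec (motive := fun _ => Bool) false (fun b t _ =>
      an (Nat.beq a.1 b.1) (an (Nat.beq a.2.1 b.2.1) (an (Nat.beq a.2.2 b.2.2) (r t)))) m) l
def tmB (s s' : St) : Bool := orr (Nat.beq s'.tm 0) (Nat.beq s'.tm s.tm)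
/-- `s'` has one more level -/
def isT (s s' : St) : Bool := List.rec (motive := fun _ => Bool) false (fun e l _ =>
  an (eqLv l s.lv) (an (Nat.beq e.1 (sz s.lv)) (an (Nat.ble e.1 1024) (an (lt e.2.2 e.1) (an (consB s.lv e.1 e.2.1)
    (an (subMp s'.mp s.mp) (an (tmB s s')
      (allL s'.mp fun m => an (allL m.1 fun x => lt x e.1) (allL m.2 fun x => lt x e.1))))))))) s'.lv
/-- `s'` has one more map, with the generators `gs` -/
def isM (s : St) (gs : List ℕ) (s' : St) : Bool := List.rec (motive := fun _ => Bool) false (fun e l _ =>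
  an (eqLv s'.lv s.lv) (an (all2 e.1 Nat.beq gs) (an (subMp l s.mp) (tmB s s')))) s'.mp

/-- certificate of a leaf: key, child, word in the symmetries, conjugating element, coordinates -/
structure Lc where
  key : ℕ
  j : ℕ
  w : List ℕ
  p : ℕ
  bs : List ℕ

/-- the images `ys` of `gs` give the new map of a child -/
def leafM (s : St) (a : Aux) (gm : List ℕ) (ms : List St) (cm : List Lc) (gs ys : List ℕ) : Bool :=
  frc (hs ys) fun h => anyL cm fun e => an (Nat.beq e.key h) <| an (lt e.j (len ms)) <| an (lt e.p a.n) <|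
    an (allL e.w fun i => lt i (len gm)) <|
    an (all2 gs (fun g b => Nat.beq (ev (mul s.lv) gs b) (gw gm e.w g)) e.bs) <|
    all2 e.bs (fun b y => an (lt y a.n) (Nat.beq (cj s.lv a e.p (ev (mul s.lv) ys b)) (gw gm e.w y)))
      (nth ([], []) (nth s ms e.j).mp 0).2

/-- the images `ys` of the generators and every possible square give the new level of a child -/
def leafT (s : St) (a : Aux) (gm : List ℕ) (ts : List St) (ct : List Lc) (ys : List ℕ) : Bool :=
  mapK (ev (mul s.lv) ys) ys fun zs => mapK id (pows a.k) fun gs => cos s.lv a 1 (nth 0 zs 0) fun c =>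
    orr (ne (ev (mul s.lv) ys c) c) <|
    orr (cnd (all2 gs (fun g z => Nat.beq (mul s.lv c g) (mul s.lv z c)) zs) false true) <|
    frc (hs (c :: ys)) fun h => anyL ct fun e => an (Nat.beq e.key h) <| an (lt e.j (len ts)) <| an (lt e.p a.n) <|
      an (allL e.w fun i => lt i (len gm)) <| (fun t : ℕ × ℕ × ℕ =>
      an (Nat.beq (mul s.lv (mul s.lv e.p (ev (mul s.lv) ys e.p)) c) (gw gm e.w t.2.2))
        (allL gs fun g => Nat.beq (cj s.lv a e.p (ev (mul s.lv) ys (gw gm e.w g))) (gw gm e.w (lk t.2.1 g))))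
      (nth (0, 0, 0) (nth s ts e.j).lv 0)

/-- kinds of subgroups normalised in a step of type `h` -/
def kinds (h : ℕ) : List ℕ := cnd (Nat.beq h 0) [] (cnd (Nat.beq h 4) [1, 3] [h])
/-- the orbit of `t` -/
def orbm (c : Cfg) (h : ℕ) : ℕ := cnd (Nat.beq h 4) (Nat.land c.oA 255) (c.ob h)

/-- extension by an element of the normaliser; `lv` are the levels for `2, 4, 8, ..` -/
def extB (c : Cfg) (s : St) (a : Aux) (h e : ℕ) (lv : List Lvl) (gm : List ℕ) (ts ms : List St) (ct cm : List Lc) :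
    Bool := mapK id (pows a.k) fun gs =>
  an (Nat.ble h 4) <| an (all2 (1 :: lv.map Lvl.g) Nat.beq gs) <| an (lvB s.lv a lv [1]) <|
  an (allL lv fun v => an (cnd v.lst false true) (orr (Nat.beq v.msk 0)
    (anyL (kinds h) fun h' => an (memL v.g (xg h')) (Nat.beq v.msk (xm h'))))) <|
  an (orr (Nat.beq h 0) (an (Nat.beq ((List.range 32).filter (orbm c h).testBit).length (Nat.pow 2 e))
    (an (lt a.n (Nat.mul (cnd (Nat.beq h 3) (sz (lvT c.md)) 32) (Nat.pow 2 e)))
      (allL (kinds h) fun h' => allL gs fun g => allL (xg h') fun x => tb (xm h') (cj s.lv a g x))))) <|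
  an (allL ts (isT s)) <| an (allL ms (isM s gs)) <|
  (fun leaf : List ℕ → Bool =>
    an (allN a.nc fun j => frc (lk a.rp j) fun u => orr (Nat.beq u 1) <| orr (neT a (lk a.ci 1) j) <|
      orr (an (ne h 0) (cnd (tb (orbm c h) u) false true)) (dfsP s.lv a [] leaf lv [u]))
    (orr (Nat.beq c.md 0) <| orr (ne s.tm 0) <| orr (an (ne h 0) (ne h 3))
      (dfsP s.lv a [] leaf (lv.drop 4) [1, 2, 6, 16, 8])))
    fun ys => orr (leafM s a gm ms cm gs ys) (leafT s a gm ts ct ys)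

/-- Frattini step: the word `w` on `R = ⟨gs⟩ ⊇ (X h) ^ w₀` is extended to `Y = ⟨gs, lv⟩`; `us` are the conjugates of
the new generators modulo `C(R)`, `my` is `0` or a mask containing `Y` -/
def frB (s : St) (a : Aux) (h : ℕ) (w0 w gs us : List ℕ) (my : ℕ) (lv : List Lvl) (gm : List ℕ) (ms : List St)
    (cm : List Lc) : Bool := mapK id (lv.map Lvl.g) fun es => mapK id (gs ++ es) fun fs =>
  an (orr (Nat.beq h 1) (Nat.beq h 2)) <| an (allL gs fun x => lt x a.n) <| an (lvB s.lv a lv gs) <|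
  frc (mkM (mul s.lv) gs 0 0) fun M => frc (mkM (mul s.lv) fs 0 0) fun N =>
  an (allL (xg h) fun x => apk s.lv a w0 x (tb M)) <| an (allL fs fun y => allL gs fun r => tb M (cj s.lv a y r)) <|
  mapK (fun x => apw s.lv a w (Nat.succ x)) gs fun ys => an (allL ys fun y => an (ne y 0) (tb M (Nat.pred y))) <|
  mapK Nat.pred ys fun ys =>
  an (all2 es (fun y u => an (tb N u) (all2 gs (fun r r' =>
    apk s.lv a w (cj s.lv a y r) (Nat.beq (cj s.lv a u r'))) ys)) us) <|
  an (allL lv fun v => an (cnd v.lst false true) (orr (Nat.beq v.msk 0) (Nat.beq v.msk my))) <|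
  an (orr (Nat.beq my 0) (an (tb my 0) (allN a.n fun x => orr (cnd (tb my x) false true)
    (allL fs fun g => tb my (mul s.lv x g))))) <|
  an (allL ms (isM s fs)) <| dfsP s.lv a [] (leafM s a gm ms cm fs) lv ys

/-- Frattini step giving a new level: the word `w` acts on the codes below `2 ^ r`, its square acts as `q` -/
def fr2B (s : St) (a : Aux) (r : ℕ) (w us : List ℕ) (q : ℕ) (lv : List Lvl) (gm : List ℕ) (ts : List St)
    (ct : List Lc) : Bool := mapK id (lv.map Lvl.g) fun es => mapK id (pows r) fun gs => frc (Nat.pow 2 r) fun R =>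
  an (Nat.ble 5 r) <| an (all2 (gs ++ es) Nat.beq (pows a.k)) <| an (lvB s.lv a lv gs) <|
  an (allL es fun y => allL gs fun x => lt (cj s.lv a y x) R) <|
  mapK (fun x => apw s.lv a w (Nat.succ x)) gs fun ys => an (allL ys fun y => an (ne y 0) (Nat.ble y R)) <|
  mapK Nat.pred ys fun ys =>
  an (all2 es (fun y u => an (lt u a.n) (all2 gs (fun x x' =>
    apk s.lv a w (cj s.lv a y x) (Nat.beq (cj s.lv a u x'))) ys)) us) <|
  an (lt q a.n) <| an (all2 gs (fun x x' => apk s.lv a w x' (Nat.beq (cj s.lv a q x))) ys) <|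
  an (cos s.lv a 1 (nth 0 ys 0) fun p => cnd (all2 gs (fun x x' => Nat.beq (cj s.lv a p x) x') ys) false true) <|
  an (allL lv fun v => an (cnd v.lst false true) (Nat.beq v.msk 0)) <|
  an (allL ts (isT s)) <| dfsP s.lv a [] (leafT s a gm ts ct) lv ys

/-- the element `r` of `C(t)` outside `T₁` is `x ρ` for some `x` -/
def rhoB (c : Cfg) (s : St) (a : Aux) (r : ℕ) (ms : List St) : Bool :=
  an (lt r a.n) <| an (Nat.ble 32 r) <| an (com s.lv r 1) <|
  an (allL ms fun s' => an (eqLv s'.lv s.lv) (an (subMp s'.mp s.mp) (lt s'.tm a.n))) <|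
  orr (Nat.beq c.md 0) <| allN 32 fun x => frc (Nat.add 32 x) fun y =>
    orr (ne (mul s.lv r r) (mul (lvT c.md) y y)) <|
    orr (anyL [2, 4, 8, 16] fun g => frc (cj s.lv a r g) fun g' =>
      orr (Nat.ble 32 g') (ne (mul (lvT c.md) y g) (mul (lvT c.md) g' y))) <|
    anyL ms fun s' => Nat.beq (mul s.lv x s'.tm) r

/-! ### Sylow subgroups -/

/-- the masks describing `K`; `rs` are conjugate pairs `(x, w)` -/
def splB (s : St) (a : Aux) (rs : List (ℕ × List ℕ)) (ms : List ℕ) : Bool :=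
  an (allL rs fun e => an (lt e.1 a.n) (ne (apw s.lv a e.2 (Nat.succ e.1)) 0)) <|
  mapK id (rs.map fun e => Nat.xor e.1 (Nat.pred (apw s.lv a e.2 (Nat.succ e.1)))) fun vs =>
  allN a.n fun m => orr (an (ne m 0) (Nat.beq (Nat.land m 1) 0)) <| orr (anyL vs fun v => Nat.beq (par m v) 1) <|
    orr (memL m ms) (cnd (homB s.lv m) false true)

/-- the number of classes of conjugates of `t` with a full centraliser is even -/
def parB (c : Cfg) (a : Aux) : Bool := frc (sz (lvT c.md)) fun N =>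
  an (allN a.nc fun i => orr (Nat.beq (lk a.ds i) 1) (an (ne (lk a.cn i) 0)
    (orr (ne (lk a.cn i) N) (Nat.beq (lk a.ds i) 2))))
  (Nat.beq (Nat.mod ((List.range a.nc).filter fun i => an (Nat.beq (lk a.ds i) 2) (Nat.beq (lk a.cn i) N)).length 2) 0)

/-- `[x ^ 2 ^ e, .., x ^ 2, x]` -/
def pwL (l : Lv) (e : ℕ) : ℕ → List ℕ → List ℕ :=
  Nat.rec (motive := fun _ => ℕ → List ℕ → List ℕ) (fun x L => x :: L) (fun _ r x L => frc (mul l x x) fun y => r y (x :: L)) e

/-- certificate for the absence of embeddings from the class `i` to the classes `js` -/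
structure Nc where
  i : ℕ
  e : ℕ
  lv : List Lvl
  js : List ℕ

def neB (s : St) (a : Aux) (f : ℕ) (cs : List Nc) : Bool :=
  an (allL cs fun q => frc (lk a.rp q.i) fun u => an (lt q.i a.nc) <| an (lvB s.lv a q.lv (pwL s.lv q.e u [])) <|
    an (allL q.lv fun v => an (Nat.beq v.msk 0) (com s.lv v.g u)) <|
    allL q.js fun j => an (lt j a.nc) <| an (ne (lk a.cx j) 0) <|
      dfsP s.lv a (a.cli j) (fun _ => false) q.lv (pwL s.lv q.e (lk a.rp j) []))
  (Nat.beq f (cs.foldl (fun f q => q.js.foldl (fun f j => Nat.lor f (Nat.shiftLeft 1 (Nat.add (Nat.mul q.i a.nc) j))) f) a.ne))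

/-- certificate for non-fusion of the classes `i`, `k` -/
structure Fc where
  i : ℕ
  k : ℕ
  ty : ℕ
  wi : List (List ℕ)
  wk : List (List ℕ)

def nfB (s : St) (a : Aux) (f : ℕ) (cs : List Fc) : Bool :=
  an (allL cs fun q => frc (lk a.rp q.i) fun x => frc (lk a.rp q.k) fun y => an (lt q.i a.nc) <| an (lt q.k a.nc) <|
    cnd (Nat.beq q.ty 0) (clash a (mul s.lv x x) (mul s.lv y y)) <|
    an (allL q.wi fun w => ne (apw s.lv a w (Nat.succ x)) 0) <| an (allL q.wk fun w => ne (apw s.lv a w (Nat.succ y)) 0) <|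
    mapK id (q.wi.map fun w => lk a.ci (Nat.pred (apw s.lv a w (Nat.succ x)))) fun is =>
    mapK id (q.wk.map fun w => lk a.ci (Nat.pred (apw s.lv a w (Nat.succ y)))) fun ks =>
    cnd (Nat.beq q.ty 1) (anyL ks fun k => an (Nat.beq (lk a.cn k) a.n) (anyL is fun i => neT a i k))
      (allN a.nc fun j => orr (anyL is fun i => neT a i j) (anyL ks fun k => neT a k j)))
  (Nat.beq f (cs.foldl (fun f q => Nat.lor (Nat.lor f (Nat.shiftLeft 1 (Nat.add (Nat.mul q.i a.nc) q.k)))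
    (Nat.shiftLeft 1 (Nat.add (Nat.mul q.k a.nc) q.i))) a.nf))

/-- transfer into `P / M`, `M` given by the mask `m'`, at the representative of the class `i` -/
def tpB (s : St) (a : Aux) (m m' i : ℕ) : Bool := frc (lk a.rp i) fun u =>
  an (lt i a.nc) <| an (homB s.lv m') <| an (Nat.beq (par m u) 0) <| an (Nat.beq (par m' u) 1) <|
  mapK (lk a.ci) (pwL s.lv (Nat.pred (lk a.od i)) (mul s.lv u u) []) fun ps =>
  allN a.nc fun j => cnd (Nat.beq (par m' (lk a.rp j)) 0) (neT a i j) (allL ps fun p => nfT a p j)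

/-- Schreier generators of the kernel of `par m`, `m` odd -/
def schr (l : Lv) (k m : ℕ) : List ℕ := (pows k).flatMap fun g =>
  cnd (Nat.beq (par m g) 0) [g, mul l (mul l 1 g) 1] [mul l g 1, mul l 1 g]

/-- transfer in `K`; `μ` is the mask of the complement of a subgroup of index 2 of `P ∩ K` -/
def ktpB (s : St) (a : Aux) (m μ u : ℕ) : Bool :=
  an (Nat.beq (Nat.land m 1) 1) <| an (lt u a.n) <| an (Nat.beq (par m u) 0) <| an (tb μ u) <|
  mapK id (schr s.lv a.k m) fun gs =>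
  mapK (lk a.ci) (pwL s.lv (Nat.pred (lk a.od (lk a.ci u))) (mul s.lv u u) []) fun ps =>
  allN a.n fun x => orr (Nat.beq (par m x) 1) <|
    an (allL gs fun g => cnd (tb μ (mul s.lv x g)) (cnd (tb μ x) (cnd (tb μ g) false true) (tb μ g))
      (cnd (tb μ x) (tb μ g) (cnd (tb μ g) false true)))
    (cnd (tb μ x) (allL ps fun p => nfT a p (lk a.ci x)) (clash a u x))

def e8B (s : St) (a : Aux) (m x y z : ℕ) : Bool :=
  an (allL [x, y, z] fun v => an (lt v a.n) (an (Nat.beq (par m v) 0) (Nat.beq (mul s.lv v v) 0))) <|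
  an (com s.lv x y) <| an (com s.lv x z) <| an (com s.lv y z) <| frc (mkM (mul s.lv) [x, y, z] 0 0) fun M =>
  allN a.n fun v => orr (Nat.beq (par m v) 1) <| orr (tb M v) <|
    cnd (com s.lv v x) (cnd (com s.lv v y) (cnd (com s.lv v z) false true) true) true

def cl2B (c : Cfg) (s : St) (a : Aux) (m : ℕ) : Bool :=
  an (Nat.beq c.md 0) <| an (Nat.beq (Nat.land m 1) 1) <| an (orr (Nat.beq a.n 256) (Nat.beq a.n 512)) <|
  mapK id (schr s.lv a.k m) fun gs => an (anyL gs fun x => anyL gs fun y => cnd (com s.lv x y) false true) <|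
  allL gs fun x => allL gs fun y => frc (mul s.lv (cj s.lv a x y) (lk a.iv y)) fun z => allL gs fun v => com s.lv v z

/-- value of a word in the letters `xs` -/
def ewB (l : Lv) (xs w : List ℕ) : ℕ := List.rec (motive := fun _ => ℕ) 0 (fun i _ r => mul l (nth 0 xs i) r) w

def pcB (l : Lv) (xs : List ℕ) (n : ℕ) (sq : ℕ → List ℕ) (cj : ℕ → ℕ → List ℕ) : Bool :=
  allN n fun i => an (Nat.beq (mul l (nth 0 xs i) (nth 0 xs i)) (ewB l xs (sq i))) (allN n fun j => orr (Nat.ble j i)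
    (Nat.beq (mul l (nth 0 xs i) (nth 0 xs j)) (mul l (ewB l xs (cj i j)) (nth 0 xs i))))

/-- recognition: `ty = 0`: `U₅(2)`, `1`: `L₅(2)`, `M₂₄`, `He`, `2`: `HS` -/
def recB (c : Cfg) (s : St) (a : Aux) (m ty : ℕ) (xs : List ℕ) : Bool :=
  an (allL xs fun v => an (lt v a.n) (Nat.beq (par m v) 0)) <|
  cnd (Nat.beq ty 2) (an (Nat.beq c.md 1) <| an (Nat.beq m 0) <| an (Nat.beq a.n 512) <| an (ne (nth 0 xs 8) 0) <|
      pcB s.lv xs 9 SylT.TH.psq SylT.TH.pcj) <|
  an (Nat.beq c.md 0) <| an (Nat.beq (Nat.land m 1) 1) <| an (Nat.beq a.n 2048) <| an (ne (nth 0 xs 9) 0) <|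
  cnd (Nat.beq ty 0) (pcB s.lv xs 10 SylT.TU.psq SylT.TU.pcj) <|
  an (pcB s.lv xs 10 (fun _ => []) lcj) (allN a.nc fun i => orr (Nat.beq (par m (lk a.rp i)) 0)
    (orr (ne (lk a.od i) 1) (Nat.beq (lk a.ds i) 2)))

/-! ### additions -/

def Aux.setM (a : Aux) (mt : List ℕ) (kx : ℕ) (kt : List ℕ) : Aux := { a with mt := mt, kx := kx, kt := kt }

/-- the part of `auxB` which only depends on the tower -/
def towB (l : Lv) (a : Aux) : Bool :=
  an (Nat.beq a.n (sz l)) <| an (Nat.beq a.n (Nat.pow 2 a.k)) <|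
  an (Nat.beq (Nat.add (Nat.add a.ds a.lam) (Nat.add a.nf a.ne)) 0) <|
  an (Nat.beq (lk a.rp (lk a.ci 1)) 1) <|
  an (allN a.n fun x => frc (lk a.iv x) fun i => frc (lk a.ci x) fun j => frc (lk a.cp x) fun p =>
    an (lt i a.n) (an (Nat.beq (mul l x i) 0) (an (lt j a.nc) (an (lt p a.n)
      (an (Nat.beq (mul l p x) (mul l (lk a.rp j) p))
        (allN a.k fun e => Nat.beq (lk a.ci (cj l a (Nat.pow 2 e) x)) j))))))
  (allN a.nc fun i => frc (lk a.rp i) fun v => an (lt v a.n) (an (Nat.beq (lk a.ci v) i) (an (ordB l (lk a.od i) v)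
    (cnd (Nat.beq (lk a.cn i) 0) (Nat.beq (lk a.cx i) 0) (cenK l v a.n [] 0 fun L k => an (Nat.beq k (lk a.cn i))
      (orr (Nat.beq (lk a.cx i) 0) (all2 L Nat.beq (a.cli i))))))))

/-- the rest of `auxB` -/
def stB (c : Cfg) (s : St) (a : Aux) (ms : List (ℕ × Bool)) (ws : List (List (List ℕ))) : Bool :=
  an (Nat.beq (len a.mt) (len ms)) <|
  an (allN (len ms) fun j => (fun e : ℕ × Bool => an (lt e.1 (len s.mp)) ((fun m : List ℕ × List ℕ =>
    cnd e.2 (mkOk s.lv a.n m.1 m.2 (nth 0 a.mt j)) (mkOk s.lv a.n m.2 m.1 (nth 0 a.mt j))) (nth ([], []) s.mp e.1)))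
      (nth (0, true) ms j)) <|
  allN a.nc fun i => Nat.rec (motive := fun _ => Bool) true (fun j _ =>
    frc (nth 0 a.kt j) fun T => an (allL (nth [] ws j) fun w => apk s.lv a w (lk a.rp i) (Nat.beq 1))
      (allN a.n fun y => frc (lk T y) fun e => orr (Nat.beq e 0)
        (anyL (nth [] ws j) fun w => apk s.lv a w y fun y' => Nat.beq (kb c.md s a y') e))) (lk a.kx i)

/-- like `jmpB`, but `χ` acts on `T₁` as the word `w₀` -/
def jmp2B (s : St) (a : Aux) (s' : St) (χ : ℕ) (ws : List (List ℕ)) (w0 : List ℕ) : Bool :=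
  an (consB s.lv (sz s'.lv) χ) <| an (relB s.lv s'.lv χ) <|
  an (allN (sz s'.lv) fun x => orr (Nat.beq x 0) (ne (lk χ x) 0)) <|
  an (allN 32 fun x => apk s.lv a w0 x (Nat.beq (lk χ x))) <|
  an (allN (len s'.mp) fun j => (fun m : List ℕ × List ℕ => all2 m.1 (fun x y => an (lt x (sz s'.lv))
    (apk s.lv a (nth [] ws j) (lk χ x) (Nat.beq (lk χ y)))) m.2) (nth ([], []) s'.mp j)) <|
  Nat.beq s'.tm 0

/-- `F = ⟨fs⟩` is generated by members of the subgroups `es` of type `2⁶` and contains all such subgroups (`bad`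
lists the other classes of involutions), `F' = ⟨ws⟩`; an embedding of a centraliser containing `F` normalises `F'` -/
def jB (s : St) (a : Aux) (f : ℕ) (es : List (List ℕ)) (fs : List ℕ) (ws bad : List (ℕ × ℕ × ℕ)) (ps : List (ℕ × ℕ)) :
    Bool :=
  an (allL fs fun x => an (lt x a.n) (anyL es (memL x))) <| frc (mkM (mul s.lv) fs 0 0) fun M =>
  an (allL es fun E => an (Nat.beq (len E) 6) <|
    an (allL E fun x => an (lt x a.n) <| an (tb M x) <| an (Nat.beq (mul s.lv x x) 0) (allL E (com s.lv x))) <|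
    allN 64 fun b => orr (Nat.beq b 0) (ne (ev (mul s.lv) E b) 0)) <|
  an (allN a.n fun x => orr (tb M x) <| frc (lk a.ci x) fun i => orr (ne (lk a.od i) 1) (anyL bad fun e => Nat.beq e.1 i)) <|
  an (allL bad fun e => an (lt e.1 a.nc) <| an (ne (lk a.cx e.1) 0) <|
    mapK id ((a.cli e.1).filter fun y => Nat.beq (mul s.lv y y) 0) fun L => orr (lt (len L) 64) <|
      an (Nat.beq (len L) 64) <| an (memL e.2.1 L) <| an (memL e.2.2 L) (cnd (com s.lv e.2.1 e.2.2) false true)) <|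
  an (allL ws fun e => an (lt e.2.1 a.n) <| an (lt e.2.2 a.n) <| an (tb M e.2.1) <| an (tb M e.2.2) <|
    an (Nat.beq e.1 (mul s.lv (cj s.lv a e.2.1 e.2.2) (lk a.iv e.2.2))) <|
    an (Nat.beq (mul s.lv e.1 e.1) 0) (allL fs (com s.lv e.1))) <|
  frc (mkM (mul s.lv) (ws.map Prod.fst) 0 0) fun W =>
  an (allL fs fun x => allL fs fun y => tb W (mul s.lv (cj s.lv a x y) (lk a.iv y))) <|
  an (allL ps fun e => an (lt e.1 a.nc) <| an (lt e.2 a.nc) <| an (allL fs (com s.lv (lk a.rp e.1)))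
    (cnd (tb W (lk a.rp e.1)) (cnd (tb W (lk a.rp e.2)) false true) (tb W (lk a.rp e.2)))) <|
  Nat.beq f (ps.foldl (fun f e => Nat.lor f (Nat.shiftLeft 1 (Nat.add (Nat.mul e.1 a.nc) e.2))) a.ne)

end

end CfsgLib.Dih8
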