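import Cfsg.Agent.Lib.Dih8.Fq1

/-! FQ2: fusion in `Q` (plans/DIH8.md) -/

set_option autoImplicit false

namespace CfsgLib.Dih8

open Subgroup CfsgLib.Tech Cfsg

variable {Q : Type*} [Group Q] [Finite Q] {t : Q} {L T : Subgroup Q}

/-- FQ2: the normaliser of `T` acts on `T` as `T` -/
theorem HQ.nrm (h : HQ t L) (hT : IsSylowIn 2 T ⊤) {n : Q} (hn : n ∈ normalizer (T : Set Q)) :
    ∃ x ∈ T, ∀ a ∈ T, n * a * n⁻¹ = x * a * x⁻¹ := by
  obtain ⟨z, e, b, h1⟩ := h.fq_exists hT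
  obtain ⟨s, hs⟩ := h1.Ystr
  obtain ⟨u, hu, o, ho, h2, h3, e1⟩ := fq_split n
  have on : o ∈ normalizer (T : Set Q) := zpowers_le.2 hn ho
  obtain ⟨oe, ob⟩ := h1.dg.fq_odd_cent h3 (h1.nD on)
  have oz := h1.dg.fq_cz oe ob
  have ot := h.fq_cent o
  have cD : ∀ g ∈ closure ({e, b} : Set Q), Commute o g := fun g hg =>
    (mem_centralizer_singleton_iff.1 (h1.D_le oe ob hg)).symm
  have ow : ∀ w, w = 1 ∨ w = t ∨ w = z ∨ w = t * z → Commute o w ∧ w * w = 1 := by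
    rintro w (hw | hw | hw | hw) <;> rw [hw]
    exacts [⟨Commute.one_right _, one_mul 1⟩, ⟨ot, h.fq_tt⟩, ⟨oz, h1.dg.z2⟩, ⟨ot.mul_right oz, by
      rw [mul_assoc, ← mul_assoc z, ← h1.dg.fq_tz.eq, mul_assoc, h1.dg.z2, mul_one, h.fq_tt]⟩]
  have ww : ∀ w w', w = 1 ∨ w = t ∨ w = z ∨ w = t * z → w' = 1 ∨ w' = t ∨ w' = z ∨ w' = t * z →
      Commute w w' := by
    have a := h1.dg.fq_tz
    rintro w w' (hw | hw | hw | hw) (hw' | hw' | hw' | hw') <;> rw [hw, hw'] <;>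
      simp only [Commute.one_left, Commute.one_right, Commute.refl, a, a.symm,
        (Commute.refl t).mul_right a, ((Commute.refl t).mul_right a).symm,
        a.symm.mul_right (Commute.refl z), (a.symm.mul_right (Commute.refl z)).symm]
  have cc : ∀ {g u v : Q}, Commute g v → Commute u v → Commute (g * u * g⁻¹) v := fun a c =>
    (a.mul_left c).mul_left a.inv_left
  have oY : ∀ y ∈ T, Commute y e → Commute y b → o * y * o⁻¹ = y := fun y hy ye yb => by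
    obtain ⟨w, hw, c | c⟩ := hs y hy ye yb
    · exact c ▸ mul_inv_eq_iff_eq_mul.2 (ow w hw).1
    obtain ⟨w', hw', c' | c'⟩ := hs _ (conj_mem_of_mem_normalizer on hy) (cc oe ye) (cc ob yb)
    · have : o * w' * o⁻¹ = w' := mul_inv_eq_iff_eq_mul.2 (ow w' hw').1
      rw [c', conj_injective (c'.trans this.symm)]
    · have e2 : o * y * o⁻¹ = y * (w * w') := by
        rw [c', c, mul_assoc, ← mul_assoc w, (ow w hw).2, one_mul]
      rw [e2, fq_odd h3 e2 (mul_inv_eq_iff_eq_mul.2 ((ow w hw).1.mul_right (ow w' hw').1)) (k := 1)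
        (by rw [pow_one, (ww w w' hw hw').mul_pow, pow_two, pow_two, (ow w hw).2, (ow w' hw').2,
          mul_one]), mul_one]
  have oT : ∀ a ∈ T, o * a * o⁻¹ = a := fun a ha => by
    have yT : a⁻¹ * (o * a * o⁻¹) ∈ T := mul_mem (inv_mem ha) (conj_mem_of_mem_normalizer on ha)
    have yc : ∀ g ∈ closure ({e, b} : Set Q), Commute (a⁻¹ * (o * a * o⁻¹)) g := fun g hg =>
      mul_inv_eq_iff_eq_mul.1 (by
        calc a⁻¹ * (o * a * o⁻¹) * g * (a⁻¹ * (o * a * o⁻¹))⁻¹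
            = a⁻¹ * (o * (a * (o⁻¹ * g * o) * a⁻¹) * o⁻¹) * a := by group
          _ = g := by
            rw [mul_assoc o⁻¹, ← (cD g hg).eq, inv_mul_cancel_left,
              (cD _ (h1.nD (le_normalizer ha) g hg)).eq]
            group)
    obtain ⟨k, hk⟩ := isPGroup_iff_mem.1 hT.pgroup _ yT
    have := fq_odd (y := a) h3 (by group) (oY _ yT (yc e DG.fq_e_mem) (yc b DG.fq_b_mem)) hk
    exact (inv_mul_eq_one.1 this).symm
  refine ⟨u, hT.le_of_normalizes h2 le_top (zpowers_le.2 (zpowers_le.2 hn hu)) (mem_zpowers u),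
    fun a ha => ?_⟩
  calc n * a * n⁻¹ = u * (o * a * o⁻¹) * u⁻¹ := by rw [e1]; group
    _ = _ := by rw [oT a ha]

theorem HQ.fq_burn (h : HQ t L) (hT : IsSylowIn 2 T ⊤) {C : Subgroup Q} {c : Q} (h1 : T ≤ C)
    (h2 : cj c T ≤ C) {a : Q} (ha : a ∈ T) :
    ∃ g ∈ C, ∃ x ∈ T, g * (c * a * c⁻¹) * g⁻¹ = x * a * x⁻¹ := by
  obtain ⟨g, hg, h3⟩ := (hT.of_le h1 le_top).exists_cj_le (isPGroup_cj c hT.pgroup) h2
  rw [← cj_mul] at h3
  obtain ⟨x, hx, h4⟩ := h.nrm hT (mem_normalizer_of_cj_le h3)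
  exact ⟨g, hg, x, hx, by rw [← h4 a ha]; group⟩

/-- FQ2: no fusion modulo `L` if `T / (T ⊓ L)` is abelian -/
theorem HQ.nof (h : HQ t L) (hT : IsSylowIn 2 T ⊤) (hc : ∀ a ∈ T, ∀ b ∈ T, a * b * a⁻¹ * b⁻¹ ∈ L) {c a : Q}
    (ha : a ∈ T) (hb : c * a * c⁻¹ ∈ T) : a⁻¹ * (c * a * c⁻¹) ∈ L := by
  have := h.nL
  let π := QuotientGroup.mk' L
  have cm : ∀ u v : Q, u * v * u⁻¹ * v⁻¹ ∈ L → π u * π v = π v * π u := fun u v huv => by
    have : π (u * v * u⁻¹ * v⁻¹) = 1 := (QuotientGroup.eq_one_iff _).2 huv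
    rwa [map_mul, map_mul, map_mul, map_inv, map_inv, mul_inv_eq_one, mul_inv_eq_iff_eq_mul] at this
  obtain ⟨g, hg, x, hx, e⟩ := h.fq_burn hT (C := (centralizer {π (c * a * c⁻¹)}).comap π) (c := c)
    (fun x hx => mem_centralizer_singleton_iff.2 (cm _ _ (hc x hx _ hb)))
    (cj_le_iff.2 fun x hx => mem_centralizer_singleton_iff.2 (cm _ _ (by
      have := h.nL.conj_mem _ (hc x hx a ha) c
      convert this using 1; group))) ha
  have e1 := congrArg π e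
  rw [map_mul, map_mul, mem_centralizer_singleton_iff.1 hg, map_inv, mul_inv_cancel_right,
    map_mul π (x * a), map_mul π x, cm _ _ (hc x hx a ha), map_inv, mul_inv_cancel_right] at e1
  exact QuotientGroup.eq.1 e1.symm

/-- FQ2: no fusion in the centre of `T` -/
theorem HQ.nofZ (h : HQ t L) (hT : IsSylowIn 2 T ⊤) {c a : Q} (ha : a ∈ T) (hb : c * a * c⁻¹ ∈ T)
    (ha' : ∀ y ∈ T, Commute y a) (hb' : ∀ y ∈ T, Commute y (c * a * c⁻¹)) : c * a * c⁻¹ = a := by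
  obtain ⟨g, hg, x, hx, e⟩ := h.fq_burn hT (C := centralizer {c * a * c⁻¹}) (c := c)
    (fun x hx => mem_centralizer_singleton_iff.2 (hb' x hx))
    (cj_le_iff.2 fun x hx => mem_centralizer_singleton_iff.2 (by
      rw [conj_mul, conj_mul, (ha' x hx).eq])) ha
  rwa [mem_centralizer_singleton_iff.1 hg, mul_inv_cancel_right, (ha' x hx).eq,
    mul_inv_cancel_right] at e

end CfsgLib.Dih8
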