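import Cfsg.Agent.Lib.Dih8.Defs
import Cfsg.Agent.Lib.DihSyl.Fusion

/-! Definitions for the quotient `Q = C(t) / O(C(t))` (plans/DIH8.md) -/

set_option autoImplicit false

namespace CfsgLib.Dih8

open Subgroup CfsgLib.Tech Cfsg

variable {Q : Type*} [Group Q]

/-- `L` is a simple normal subgroup with Sylow 2-subgroups `D₈` and centraliser `⟨t⟩` -/
structure HQ (t : Q) (L : Subgroup Q) : Prop where
  nL : L.Normal
  sL : IsSimpleGroup L
  dL : ∃ D : Subgroup Q, IsSylowIn 2 D L ∧ Nonempty (D ≃* DihedralGroup 4)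
  cL : centralizer (L : Set Q) = zpowers t
  ot : orderOf t = 2

/-- `D = ⟨e, b⟩` is dihedral of order 8 with centre `⟨z⟩`, `t` is a further central involution -/
structure DG (t z e b : Q) : Prop where
  e2 : e * e = 1
  b2 : b * b = 1
  z2 : z * z = 1
  z1 : z ≠ 1
  eb : e * b * (e * b) = z
  t2 : t * t = 1
  te : Commute t e
  tb : Commute t b
  tD : t ∉ closure {e, b}

/-- `s` centralises `⟨t⟩ × D` -/
structure SG (t z e b s : Q) : Prop where
  st : Commute s t
  se : Commute s e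
  sb : Commute s b
  sY : s ∉ closure {t, z}
  s2 : s * s = 1 ∨ s * s = t

/-- `ρ` swaps the two four-groups -/
structure RG (t z e b s ρ : Q) : Prop where
  rt : Commute ρ t
  re : ρ * e * ρ⁻¹ = b
  rb : ρ * b * ρ⁻¹ = e
  rs : ρ * s * ρ⁻¹ = s * z ∨ ρ * s * ρ⁻¹ = s * z * t

/-- the shape of a Sylow 2-subgroup `T` of `C(t)` together with the two elements of order 3 -/
def Shape (T : Subgroup Q) (t z e b : Q) : Prop :=
  (∀ y ∈ T, Commute y z → Commute y e → y ∈ closure {t, z, e}) ∨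
    ∃ s, SG t z e b s ∧
      (∃ σ : Q, Commute σ t ∧ σ * z * σ⁻¹ = e ∧ σ * e * σ⁻¹ = e * z ∧ Commute σ (s * z)) ∧
      (∃ τ : Q, Commute τ t ∧ τ * z * τ⁻¹ = b ∧ τ * b * τ⁻¹ = b * z ∧ Commute τ s) ∧
      (T = closure {t, s, e, b} ∨ ∃ ρ, RG t z e b s ρ ∧ T = closure {t, s, e, b, ρ})

/-- `π` maps `C(t)` onto `Q` with a kernel of odd order -/
structure HC {G : Type*} [Group G] (t : G) (π : centralizer ({t} : Set G) →* Q) (L : Subgroup Q) : Prop where
  sj : Function.Surjective π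
  ker : Odd (Nat.card π.ker)
  hq : ∀ x : centralizer ({t} : Set G), (x : G) = t → HQ (π x) L

end CfsgLib.Dih8
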