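import Cfsg.Agent.Lib.Dih8.Fq2

/-! FRL: lifting from `Q` to `C(t)` (plans/DIH8.md) -/

set_option autoImplicit false
set_option linter.unusedSectionVars false

namespace CfsgLib.Dih8

open Subgroup CfsgLib.Tech Cfsg

variable {G Q : Type*} [Group G] [Finite G] [Group Q] {t : G} {π : centralizer ({t} : Set G) →* Q} {L : Subgroup Q}

section

variable {H A B : Type*} [Group H] [Group A] [Group B] {f : H →* A} (hf : Function.Injective f) (g : H →* B)
include hf

theorem frl_eq {x y : H} (h : f x = f y) : g x = g y := congrArg g (hf h)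

theorem frl_comm {x y : H} (h : Commute (f x) (f y)) : Commute (g x) (g y) := (h.of_map hf).map g

theorem frl_mem {s : Set H} {x : H} : f x ∈ closure (f '' s) ↔ x ∈ closure s := by
  rw [← MonoidHom.map_closure, mem_map_iff_mem hf]

variable {g} (hg : Function.Injective g)
include hg

theorem frl_mem2 {a b x : H} : f x ∈ closure {f a, f b} ↔ g x ∈ closure {g a, g b} := by
  rw [← Set.image_pair, ← Set.image_pair, frl_mem hf, frl_mem hg]

theorem frl_mem3 {a b c x : H} : f x ∈ closure {f a, f b, f c} ↔ g x ∈ closure {g a, g b, g c} := by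
  rw [← Set.image_pair, ← Set.image_pair, ← Set.image_insert_eq, ← Set.image_insert_eq, frl_mem hf, frl_mem hg]

theorem frl_rng {s : Set H} (h : f.range = closure (f '' s)) : g.range = closure (g '' s) := by
  rw [← MonoidHom.map_closure, MonoidHom.range_eq_map, (map_injective hf).eq_iff] at h
  rw [← MonoidHom.map_closure, MonoidHom.range_eq_map, h]

theorem frl_DG {t z e b : H} (d : DG (f t) (f z) (f e) (f b)) : DG (g t) (g z) (g e) (g b) where
  e2 := by simpa using frl_eq hf g (x := e * e) (y := 1) (by simpa using d.e2)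
  b2 := by simpa using frl_eq hf g (x := b * b) (y := 1) (by simpa using d.b2)
  z2 := by simpa using frl_eq hf g (x := z * z) (y := 1) (by simpa using d.z2)
  z1 := fun h => d.z1 (by simpa using frl_eq hg f (x := z) (y := 1) (by simpa using h))
  eb := by simpa using frl_eq hf g (x := e * b * (e * b)) (y := z) (by simpa using d.eb)
  t2 := by simpa using frl_eq hf g (x := t * t) (y := 1) (by simpa using d.t2)
  te := frl_comm hf g d.te
  tb := frl_comm hf g d.tb
  tD := fun h => d.tD ((frl_mem2 hf hg).2 h)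

theorem frl_SG {t z e b s : H} (d : SG (f t) (f z) (f e) (f b) (f s)) : SG (g t) (g z) (g e) (g b) (g s) where
  st := frl_comm hf g d.st
  se := frl_comm hf g d.se
  sb := frl_comm hf g d.sb
  sY := fun h => d.sY ((frl_mem2 hf hg).2 h)
  s2 := d.s2.imp (fun h => by simpa using frl_eq hf g (x := s * s) (y := 1) (by simpa using h))
    fun h => by simpa using frl_eq hf g (x := s * s) (y := t) (by simpa using h)

omit hg in
theorem frl_RG {t z e b s ρ : H} (d : RG (f t) (f z) (f e) (f b) (f s) (f ρ)) :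
    RG (g t) (g z) (g e) (g b) (g s) (g ρ) where
  rt := frl_comm hf g d.rt
  re := by simpa using frl_eq hf g (x := ρ * e * ρ⁻¹) (y := b) (by simpa using d.re)
  rb := by simpa using frl_eq hf g (x := ρ * b * ρ⁻¹) (y := e) (by simpa using d.rb)
  rs := d.rs.imp (fun h => by simpa using frl_eq hf g (x := ρ * s * ρ⁻¹) (y := s * z) (by simpa using h))
    fun h => by simpa using frl_eq hf g (x := ρ * s * ρ⁻¹) (y := s * z * t) (by simpa using h)

end

theorem frl_inj (ker : Odd (Nat.card π.ker)) {T : Subgroup G} (hT : IsSylowIn 2 T (centralizer {t})) :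
    Function.Injective (π.comp (inclusion hT.le)) := (injective_iff_map_eq_one _).2 fun x hx => by
  obtain ⟨k, hk⟩ := IsPGroup.iff_orderOf.1 hT.pgroup x
  have h1 := ker.of_dvd_nat (orderOf_dvd_natCard π.ker (x := inclusion hT.le x) hx)
  rw [orderOf_injective _ (inclusion_injective _), hk] at h1
  rcases k with _ | k
  · exact orderOf_eq_one_iff.1 hk
  · exact absurd h1 (Nat.not_odd_iff_even.2 (Nat.even_pow.2 ⟨even_two, k.succ_ne_zero⟩))

theorem frl_rng_eq {T : Subgroup G} (hT : T ≤ centralizer {t}) :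
    (π.comp (inclusion hT)).range = (T.subgroupOf (centralizer {t})).map π := by
  rw [MonoidHom.range_comp, inclusion_range]

theorem frl_syl {T : Subgroup G} (hT : IsSylowIn 2 T (centralizer {t})) :
    IsSylowIn 2 (T.subgroupOf (centralizer {t})) ⊤ := IsSylowIn.of_sylow_top hT.toSylow

/-- fusion lifts from `Q` to `C(t)` -/
theorem frl_lift (sj : Function.Surjective π) (ker : Odd (Nat.card π.ker)) {T : Subgroup G}
    (hT : IsSylowIn 2 T (centralizer {t})) (q : Q) : ∃ c : G, Commute c t ∧ ∀ x y : T,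
      q * π.comp (inclusion hT.le) x * q⁻¹ = π.comp (inclusion hT.le) y → c * x * c⁻¹ = y := by
  obtain ⟨c, rfl⟩ := sj q
  set T' := T.subgroupOf (centralizer {t})
  have hS := frl_syl hT
  obtain ⟨m, hm, h⟩ := (hS.of_le (K := (T'.map π).comap π) (le_comap_map _ _) le_top).exists_cj_le
    (Q := cj c T' ⊓ (T'.map π).comap π) ((isPGroup_cj c hS.pgroup).to_le inf_le_left) inf_le_right
  obtain ⟨τ, hτ, e⟩ := hm
  refine ⟨(τ⁻¹ * m * c :), (mem_centralizer_singleton_iff.1 (τ⁻¹ * m * c).2), fun x y hxy => ?_⟩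
  have h1 : τ⁻¹ * m * c * inclusion hT.le x * (τ⁻¹ * m * c)⁻¹ ∈ T' := by
    have := cj_le_iff.1 h _ ⟨conj_mem_cj.2 (show inclusion hT.le x ∈ T' from x.2), inclusion hT.le y, y.2, by
      rw [map_mul, map_mul, map_inv]; exact hxy.symm⟩
    rw [show τ⁻¹ * m * c * inclusion hT.le x * (τ⁻¹ * m * c)⁻¹ =
      τ⁻¹ * (m * (c * inclusion hT.le x * c⁻¹) * m⁻¹) * τ by group]
    exact mul_mem (mul_mem (inv_mem hτ) this) hτ
  refine congrArg Subtype.val (frl_inj ker hT (a₁ := ⟨_, h1⟩) ?_)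
  rw [← hxy]
  change π (τ⁻¹ * m * c * inclusion hT.le x * (τ⁻¹ * m * c)⁻¹) = _
  simp only [map_mul, map_inv, e, inv_mul_cancel, one_mul, MonoidHom.comp_apply]

/-- FRL: `HQ.shape`, `HQ.nof`, `HQ.nofZ` lifted to `G` -/
theorem HC.shape (h : HC t π L) (ht : orderOf t = 2) {T : Subgroup G} (hT : IsSylowIn 2 T (centralizer {t})) :
    ∃ z e b, DG t z e b ∧ e ∈ T ∧ b ∈ T ∧ Shape T t z e b ∧ Nat.card T ≤ 64 ∧
      ((∀ a ∈ T, ∀ a' ∈ T, a * a' * a⁻¹ * a'⁻¹ ∈ closure {e, b}) → ∀ c, Commute c t → ∀ a ∈ T, c * a * c⁻¹ ∈ T →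
        a⁻¹ * (c * a * c⁻¹) ∈ closure {e, b}) ∧
      ∀ c, Commute c t → ∀ a ∈ T, c * a * c⁻¹ ∈ T → (∀ y ∈ T, Commute y a) → (∀ y ∈ T, Commute y (c * a * c⁻¹)) →
        c * a * c⁻¹ = a := by
  have := Finite.of_surjective π h.sj
  have tC : t ∈ centralizer ({t} : Set G) := mem_centralizer_singleton_iff.2 rfl
  have tT : t ∈ T := hT.le_of_le_normalizer (isPGroup_zpowers_of_pow (k := 1) (by rw [pow_one, ← ht, pow_orderOf_eq_one]))
    (zpowers_le.2 tC) (fun c hc => mem_normalizer_iff_cj.2 (by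
      rw [cj_zpowers, mem_centralizer_singleton_iff.1 hc, mul_inv_cancel_right])) (mem_zpowers t)
  have hf := frl_inj h.ker hT
  have hg := T.subtype_injective
  have lift := frl_lift h.sj h.ker hT
  have hS : IsSylowIn 2 (π.comp (inclusion hT.le)).range ⊤ := by
    rw [frl_rng_eq]
    exact IsSylowIn.of_sylow_top ((frl_syl hT).toSylowTop.mapSurjective h.sj)
  have cjm : ∀ c, Commute c t → ∀ a : T, ∀ ha : c * a * c⁻¹ ∈ T, ∃ q : Q, q * π.comp (inclusion hT.le) a * q⁻¹ =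
      π.comp (inclusion hT.le) ⟨_, ha⟩ := fun c hc a ha =>
    ⟨π ⟨c, mem_centralizer_singleton_iff.2 hc⟩, by rw [MonoidHom.comp_apply, ← map_mul, ← map_inv, ← map_mul]; rfl⟩
  have hq : HQ (π.comp (inclusion hT.le) ⟨t, tT⟩) L := h.hq _ rfl
  generalize π.comp (inclusion hT.le) = ψ at hf lift hS cjm hq
  obtain ⟨t', rfl⟩ : ∃ t' : T, T.subtype t' = t := ⟨⟨t, tT⟩, rfl⟩
  replace hq : HQ (ψ t') L := hq
  obtain ⟨z, e, b, d, hL, sh⟩ := hq.shape hS
  obtain ⟨e, rfl⟩ : e ∈ ψ.range := (hL.ge (subset_closure (by simp))).1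
  obtain ⟨b, rfl⟩ : b ∈ ψ.range := (hL.ge (subset_closure (by simp))).1
  obtain ⟨z, rfl⟩ : z ∈ ψ.range := ⟨e * b * (e * b), by simpa using d.eb⟩
  have memL : ∀ x : T, ψ x ∈ L ↔ (x : G) ∈ closure {T.subtype e, T.subtype b} := fun x => by
    refine Iff.trans ?_ (frl_mem2 (x := x) hf hg)
    rw [← hL, mem_inf, and_iff_right ⟨x, rfl⟩]
  refine ⟨T.subtype z, T.subtype e, T.subtype b, frl_DG hf hg d, e.2, b.2, ?_, ?_, fun hc c hc' a ha ha' => ?_,
    fun c hc a ha ha' h1 h2 => ?_⟩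
  · rcases sh with sh | ⟨s, g, ⟨σ, -, s1, s2, s3⟩, ⟨τ, -, u1, u2, u3⟩, sh⟩
    · exact Or.inl fun y hy h1 h2 => (frl_mem3 (x := ⟨y, hy⟩) hf hg).1
        (sh _ ⟨_, rfl⟩ (frl_comm hg ψ (x := ⟨y, hy⟩) h1) (frl_comm hg ψ (x := ⟨y, hy⟩) h2))
    obtain ⟨s, rfl⟩ : s ∈ ψ.range := by
      rcases sh with sh | ⟨ρ, -, sh⟩ <;> exact sh ▸ subset_closure (by simp)
    obtain ⟨σ', c1, h1⟩ := lift σ
    obtain ⟨τ', c2, h2⟩ := lift τ
    refine Or.inr ⟨T.subtype s, frl_SG hf hg g, ⟨σ', c1, h1 z e s1, h1 e (e * z) (by rw [s2, map_mul]),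
      mul_inv_eq_iff_eq_mul.1 (h1 (s * z) (s * z) (by rw [map_mul, s3.eq, mul_inv_cancel_right]))⟩,
      ⟨τ', c2, h2 z b u1, h2 b (b * z) (by rw [u2, map_mul]),
      mul_inv_eq_iff_eq_mul.1 (h2 s s (by rw [u3.eq, mul_inv_cancel_right]))⟩, sh.imp (fun sh => ?_) ?_⟩
    · have := frl_rng hf hg (s := {t', s, e, b}) (by simpa only [Set.image_insert_eq, Set.image_singleton] using sh)
      simpa only [Set.image_insert_eq, Set.image_singleton, range_subtype] using this
    · rintro ⟨ρ, r, sh⟩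
      obtain ⟨ρ, rfl⟩ : ρ ∈ ψ.range := sh ▸ subset_closure (by simp)
      have := frl_rng hf hg (s := {t', s, e, b, ρ}) (by simpa only [Set.image_insert_eq, Set.image_singleton] using sh)
      exact ⟨T.subtype ρ, frl_RG hf r, by simpa only [Set.image_insert_eq, Set.image_singleton, range_subtype] using this⟩
  · exact (Nat.card_congr (MonoidHom.ofInjective hf).toEquiv).trans_le (hq.card_le hS)
  · obtain ⟨q, e⟩ := cjm c hc' ⟨a, ha⟩ ha'
    have := hq.nof hS (by
      rintro _ ⟨x, rfl⟩ _ ⟨y, rfl⟩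
      simpa using (memL (x * y * x⁻¹ * y⁻¹)).2 (hc x x.2 y y.2)) (c := q) ⟨⟨a, ha⟩, rfl⟩ ⟨_, e.symm⟩
    rw [e, ← map_inv, ← map_mul] at this
    exact (memL _).1 this
  · obtain ⟨q, e⟩ := cjm c hc ⟨a, ha⟩ ha'
    have := hq.nofZ hS (c := q) ⟨⟨a, ha⟩, rfl⟩ ⟨_, e.symm⟩ (by
      rintro _ ⟨y, rfl⟩
      exact frl_comm hg ψ (h1 y y.2)) (by
      rintro _ ⟨y, rfl⟩
      rw [e]
      exact frl_comm hg ψ (h2 y y.2))
    exact congrArg Subtype.val (hf (e.symm.trans this))

end CfsgLib.Dih8
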